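import Cfsg.Agent.Lib.DihBlock.Fusion
import Cfsg.Agent.Lib.Invol.QuasiDihedral
import Cfsg.Agent.Lib.Blocks.Dominated
import Cfsg.Agent.Lib.Blocks.RankBasics

/-!
# A tame block of rank three forces the center to have odd order
-/

set_option autoImplicit false
set_option linter.style.haveILetI false
set_option linter.unusedSectionVars false

namespace Cfsg.Agent.DihBlock

open Cfsg.Agent.Blocks Cfsg.Agent.BPairs

universe u

variable {G : Type u} [Group G]

/-- The homomorphism from a dihedral group given by two generators. -/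
def dihLift (n : ℕ) [NeZero n] (x y : G) (hx : x ^ n = 1) (hy : y * y = 1)
    (hxy : y * x * y = x⁻¹) : DihedralGroup n →* G where
  toFun g := match g with
    | .r i => x ^ i.val
    | .sr i => y * x ^ i.val
  map_one' := by show x ^ (0 : ZMod n).val = 1; simp
  map_mul' := by
    have hadd : ∀ i j : ZMod n, x ^ (i + j).val = x ^ i.val * x ^ j.val := fun i j => by
      rw [← pow_add, ZMod.val_add, ← pow_mod_of_pow hx]
    have hsub : ∀ i j : ZMod n, x ^ (j - i).val = (x ^ i.val)⁻¹ * x ^ j.val := fun i j => by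
      rw [eq_inv_mul_iff_mul_eq, ← hadd, add_sub_cancel]
    have hflip : ∀ i : ℕ, x ^ i * y = y * (x ^ i)⁻¹ := by
      intro i
      induction i with
      | zero => simp
      | succ i ih =>
        have h1 : x * y = y * x⁻¹ := by rw [← hxy, ← mul_assoc, ← mul_assoc, hy, one_mul]
        rw [pow_succ, mul_assoc, h1, ← mul_assoc, ih, mul_assoc, mul_inv_rev]
        congr 1
        rw [← inv_pow, ← pow_succ, ← pow_succ']
    rintro (i | i) (j | j)
    · exact hadd i j
    · show y * x ^ (j - i).val = x ^ i.val * (y * x ^ j.val)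
      rw [hsub, ← mul_assoc, ← mul_assoc, hflip]
    · show y * x ^ (i + j).val = y * x ^ i.val * x ^ j.val
      rw [hadd, mul_assoc]
    · show x ^ (j - i).val = y * x ^ i.val * (y * x ^ j.val)
      rw [hsub, ← mul_assoc, mul_assoc y, hflip, ← mul_assoc, hy, one_mul]
where
  pow_mod_of_pow {k : ℕ} (h : x ^ n = 1) : x ^ k = x ^ (k % n) := by
    conv_lhs => rw [← Nat.mod_add_div k n, pow_add, pow_mul, h, one_pow, mul_one]

theorem dihLift_injective (n : ℕ) [NeZero n] {x y : G} (hx : orderOf x = n) (hy : y * y = 1)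
    (hxy : y * x * y = x⁻¹) (h : y ∉ Subgroup.zpowers x) :
    Function.Injective (dihLift n x y (hx ▸ pow_orderOf_eq_one x) hy hxy) := by
  rw [injective_iff_map_eq_one]
  rintro (i | i) hu
  · have hu' : x ^ i.val = 1 := hu
    have e : i.val = 0 := pow_injOn_Iio_orderOf (by simpa [hx] using ZMod.val_lt i)
      (by simp [hx, Nat.pos_of_neZero]) (hu'.trans (pow_zero x).symm)
    rw [ZMod.val_eq_zero] at e
    rw [e]; rfl
  · have hu' : y * x ^ i.val = 1 := hu
    exact absurd (by rw [eq_inv_of_mul_eq_one_left hu']; exact inv_mem (pow_mem (Subgroup.mem_zpowers x) _)) h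

variable [Fintype G] {M : Ideal AlgInt} [M.IsPrime] {B : Set (IrrCharacter G)}

theorem zpowers_central_normal {c : G} (hc : c ∈ Subgroup.center G) :
    (Subgroup.zpowers c).Normal :=
  ⟨fun a ha g => by
    rw [Subgroup.mem_center_iff.mp ((Subgroup.zpowers_le.mpr hc) ha) g, mul_inv_cancel_right]
    exact ha⟩

/-- With a central involution a dihedral block has rank one. -/
theorem rank_le_one_of_central (hM : IsPModular 2 M) (hB : IsPBlock M B) {D : Subgroup G}
    (hD : IsDefectGroup 2 M B D) {n : ℕ} (hn : 3 ≤ n)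
    (hdih : Nonempty (D ≃* DihedralGroup (2 ^ (n - 1)))) {c : G} (hc : c ∈ Subgroup.center G)
    (hc2 : orderOf c = 2) : blockRank 2 B ≤ 1 := by
  classical
  haveI : Fact (Nat.Prime 2) := ⟨Nat.prime_two⟩
  obtain ⟨L, -⟩ := exists_localData hM hB hD hn hdih
  haveI := zpowers_central_normal hc
  have hcp : IsPGroup 2 (Subgroup.zpowers c) :=
    IsPGroup.of_card (n := 1) (by rw [Nat.card_zpowers, hc2, pow_one])
  have hcP : c ∈ L.P :=
    normal_le_defect hM hB hcp (isDefectGroup_of_maximal hM L.hmax) (Subgroup.mem_zpowers c)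
  have hcz : c = L.S.z := by
    have hcc : c * c = 1 := by
      have := pow_orderOf_eq_one c
      rwa [hc2, sq] at this
    have hc1 : c ≠ 1 := fun h => by rw [h, orderOf_one] at hc2; omega
    by_cases hmem : c ∈ Subgroup.zpowers L.S.σ
    · rcases L.S.sq_eq_one_mem hmem hcc with h | h
      · exact absurd h hc1
      · exact h
    · have h3 := (L.S.hrefl c hcP hmem).2
      rw [← Subgroup.mem_center_iff.mp hc L.S.σ, mul_inv_cancel_right] at h3
      have h4 : orderOf L.S.σ ∣ 2 := orderOf_dvd_of_pow_eq_one (by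
        rw [sq]
        conv_lhs => lhs; rw [h3]
        rw [inv_mul_cancel])
      rw [L.S.hσo] at h4
      have h5 := Nat.le_of_dvd two_pos h4
      have h6 : 2 ^ 2 ≤ 2 ^ (L.S.n - 1) := Nat.pow_le_pow_right two_pos (by have := L.S.hn; omega)
      omega
  have hzc : L.S.z ∈ Subgroup.center G := hcz ▸ hc
  have hnil : IsNilpotentBlock 2 M B := by
    refine ⟨hB, fun Q k hQ x hxN _ hxreg => ?_⟩
    obtain ⟨t, ht⟩ := exists_conj_below_maximal hM L.hmax hQ
    have htP : ∀ q ∈ Q, t * q * t⁻¹ ∈ L.P := fun q hq => subpair_le ht ⟨q, hq, rfl⟩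
    obtain ⟨R, hR⟩ : ∃ R : Subgroup G, R = Q.map (MulAut.conj t).toMonoidHom ⊔
        Subgroup.zpowers L.S.z := ⟨_, rfl⟩
    obtain ⟨x', hx'⟩ : ∃ x' : G, x' = t * x * t⁻¹ := ⟨_, rfl⟩
    have hxz : Commute x' L.S.z := Subgroup.mem_center_iff.mp hzc x'
    have hodd : Odd (orderOf x') := by
      rw [← Nat.not_even_iff_odd, even_iff_two_dvd, hx',
        show t * x * t⁻¹ = MulAut.conj t x from rfl, MulEquiv.orderOf_eq]
      exact hxreg
    have hRP : R ≤ L.P := by
      rw [hR]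
      refine sup_le ?_ (Subgroup.zpowers_le.mpr L.S.z_mem)
      rintro _ ⟨q, hq, rfl⟩
      exact htP q hq
    have hRN : ∀ q ∈ R, x' * q * x'⁻¹ ∈ R := by
      intro q hq
      have : R ≤ R.comap (MulAut.conj x').toMonoidHom := by
        conv_lhs => rw [hR]
        refine sup_le ?_ (Subgroup.zpowers_le.mpr ?_)
        · rintro _ ⟨q, hq, rfl⟩
          show x' * (t * q * t⁻¹) * x'⁻¹ ∈ R
          rw [hR]
          refine Subgroup.mem_sup_left ⟨x * q * x⁻¹, (Subgroup.mem_normalizer_iff.mp hxN q).mp hq, ?_⟩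
          rw [hx']
          simp [mul_assoc]
        · show x' * L.S.z * x'⁻¹ ∈ R
          rw [hxz.eq, mul_inv_cancel_right, hR]
          exact Subgroup.mem_sup_right (Subgroup.mem_zpowers _)
      exact this hq
    have hcomm := L.S.fix_of_odd hRP (hR ▸ Subgroup.mem_sup_right (Subgroup.mem_zpowers _)) hodd
      hxz hRN
    rw [Subgroup.mem_centralizer_iff]
    intro q hq
    have h1 := hcomm (t * q * t⁻¹) (hR ▸ Subgroup.mem_sup_left ⟨q, hq, rfl⟩)
    rw [hx'] at h1
    have h3 := h1.map (MulAut.conj t⁻¹).toMonoidHom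
    simp [mul_assoc] at h3
    exact h3.eq.symm
  obtain ⟨χ₀, hχ₀, -, hprop⟩ := nilData hM _ G rfl B hnil
  refine le_trans (Submodule.finrank_mono (Submodule.span_le.mpr ?_))
    (finrank_span_singleton_le (v := pRegularPart 2 (χ₀ : G → ℂ)))
  rintro _ ⟨η, hη, rfl⟩
  obtain ⟨d, hd⟩ := hprop η hη
  refine Submodule.mem_span_singleton.mpr ⟨(d : ℂ), funext fun y => ?_⟩
  simp only [Pi.smul_apply, smul_eq_mul, pRegularPart, IsPRegular]
  by_cases hy : 2 ∣ orderOf y
  · simp [hy]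
  · simp only [hy, not_false_eq_true, if_true, hd y hy]
where
  finrank_span_singleton_le {v : G → ℂ} :
      Module.finrank ℂ (Submodule.span ℂ ({v} : Set (G → ℂ))) ≤ 1 := by
    simpa using finrank_span_le_card ({v} : Set (G → ℂ))

/-- A semidihedral block of rank three has no central involution. -/
theorem qd_rank_ne_three_of_central (hM : IsPModular 2 M) (hB : IsPBlock M B) {D : Subgroup G}
    (hD : IsDefectGroup 2 M B D) (hqd : IsQuasiDihedral D) {c : G} (hc : c ∈ Subgroup.center G)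
    (hc2 : orderOf c = 2) : blockRank 2 B ≠ 3 := by
  classical
  intro hl
  haveI : Fact (Nat.Prime 2) := ⟨Nat.prime_two⟩
  haveI := zpowers_central_normal hc
  obtain ⟨T⟩ := Invol.qd_exists hqd
  have hcp : IsPGroup 2 (Subgroup.zpowers c) :=
    IsPGroup.of_card (n := 1) (by rw [Nat.card_zpowers, hc2, pow_one])
  have hcD : c ∈ D := normal_le_defect hM hB hcp hD (Subgroup.mem_zpowers c)
  obtain ⟨cD, hcDe⟩ : ∃ cD : D, (cD : G) = c := ⟨⟨c, hcD⟩, rfl⟩
  have hcd : cD = T.x ^ (2 * (T.m : ℤ)) := by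
    have h1 : cD ∈ Subgroup.center D := Subgroup.mem_center_iff.mpr fun g => Subtype.ext (by
      simp only [Subgroup.coe_mul, hcDe]
      exact Subgroup.mem_center_iff.mp hc g)
    rw [T.center_eq] at h1
    have ho : orderOf cD = 2 := by rw [← Subgroup.orderOf_coe, hcDe, hc2]
    obtain ⟨i, hi⟩ := Subgroup.mem_zpowers_iff.mp h1
    have hw : T.x ^ (2 * (T.m : ℤ)) * T.x ^ (2 * (T.m : ℤ)) = 1 := by
      have := pow_orderOf_eq_one (T.x ^ (2 * (T.m : ℤ)))
      rwa [T.orderOf_z, sq] at this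
    rcases Int.even_or_odd' i with ⟨k, rfl | rfl⟩
    · rw [zpow_mul, zpow_two, hw, one_zpow] at hi
      rw [← hi, orderOf_one] at ho
      omega
    · rw [zpow_add, zpow_mul, zpow_two, hw, one_zpow, one_mul, zpow_one] at hi
      exact hi.symm
  obtain ⟨π, hπ⟩ : ∃ π, π = QuotientGroup.mk' (Subgroup.zpowers c) := ⟨_, rfl⟩
  have hker : ∀ w : D, π (w : G) = 1 → w = 1 ∨ w = cD := by
    intro w hw
    rw [hπ, QuotientGroup.mk'_apply, QuotientGroup.eq_one_iff] at hw
    obtain ⟨i, hi⟩ := Subgroup.mem_zpowers_iff.mp hw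
    have hcc : c * c = 1 := by
      have := pow_orderOf_eq_one c
      rwa [hc2, sq] at this
    rcases Int.even_or_odd' i with ⟨k, rfl | rfl⟩
    · rw [zpow_mul, zpow_two, hcc, one_zpow] at hi
      exact Or.inl (Subtype.ext hi.symm)
    · rw [zpow_add, zpow_mul, zpow_two, hcc, one_zpow, one_mul, zpow_one] at hi
      exact Or.inr (Subtype.ext (hi.symm.trans hcDe.symm))
  obtain ⟨f, hf⟩ : ∃ f : D →* G ⧸ Subgroup.zpowers c, f = π.comp D.subtype := ⟨_, rfl⟩
  have hfker : ∀ w : D, f w = 1 → w = 1 ∨ w = T.x ^ (2 * (T.m : ℤ)) := fun w hw => by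
    rw [← hcd]; exact hker w (by rw [hf] at hw; exact hw)
  have hfc : f (T.x ^ (2 * (T.m : ℤ))) = 1 := by
    rw [← hcd, hf, MonoidHom.comp_apply, Subgroup.coe_subtype, hcDe, hπ, QuotientGroup.mk'_apply,
      QuotientGroup.eq_one_iff]
    exact Subgroup.mem_zpowers c
  have hm := T.m_pos
  have hxm : f T.x ^ (2 * T.m) = 1 := by
    rw [← map_pow, ← zpow_natCast]; exact_mod_cast hfc
  have hord : orderOf (f T.x) = 2 ^ (T.n - 1) := by
    rw [show T.n - 1 = T.n - 2 + 1 by have := T.three_le; omega]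
    refine orderOf_eq_prime_pow (fun h => ?_) ?_
    · rw [← T.m_eq, ← map_pow, ← zpow_natCast] at h
      rcases hfker _ h with e | e
      · rw [T.zpow_eq_one_iff] at e
        have := Int.le_of_dvd (by omega) e
        omega
      · rw [T.zpow_eq_iff] at e
        have := Int.le_of_dvd (by omega) (dvd_neg.mpr e)
        omega
    · rw [pow_succ, ← T.m_eq, mul_comm]; exact hxm
  have hyy : f T.y * f T.y = 1 := by
    rw [← map_mul, show T.y * T.y = 1 by
      have := pow_orderOf_eq_one T.y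
      rwa [T.ordy, sq] at this, map_one]
  have hrel : f T.y * f T.x * f T.y = (f T.x)⁻¹ := by
    have h1 := congrArg f T.rel
    rw [T.y_inv, map_mul, map_mul, map_zpow, zpow_sub, zpow_one,
      show (2 * (T.m : ℤ)) = ((2 * T.m : ℕ) : ℤ) by push_cast; rfl, zpow_natCast, hxm, one_mul] at h1
    exact h1
  have hymem : f T.y ∉ Subgroup.zpowers (f T.x) := by
    intro h
    obtain ⟨i, hi⟩ := Subgroup.mem_zpowers_iff.mp h
    have h1 : f ((T.x ^ i)⁻¹ * T.y) = 1 := by rw [map_mul, map_inv, map_zpow, hi, inv_mul_cancel]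
    refine T.y_not_mem ?_
    rcases hfker _ h1 with e | e
    · rw [inv_mul_eq_one] at e
      exact e ▸ zpow_mem (Subgroup.mem_zpowers _) i
    · rw [inv_mul_eq_iff_eq_mul] at e
      exact e ▸ mul_mem (zpow_mem (Subgroup.mem_zpowers _) i) (zpow_mem (Subgroup.mem_zpowers _) _)
  obtain ⟨Bbar, hBbar, hsub, hdef⟩ := Dominated.exists_block_image_defect hM hcp hB
  haveI : Fintype (G ⧸ Subgroup.zpowers c) := Fintype.ofFinite _
  obtain ⟨Db, hDb⟩ : ∃ Db, Db = D.map π := ⟨_, rfl⟩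
  have hDbd : IsDefectGroup 2 M Bbar Db := (hdef Db).mpr ⟨D, hD, by rw [hDb, hπ]⟩
  haveI : NeZero (2 ^ (T.n - 1)) := ⟨by positivity⟩
  obtain ⟨φ, hφ⟩ : ∃ φ, φ = dihLift (2 ^ (T.n - 1)) (f T.x) (f T.y)
      (hord ▸ pow_orderOf_eq_one (f T.x)) hyy hrel := ⟨_, rfl⟩
  have hrange : φ.range = Db := by
    rw [hDb]
    refine le_antisymm ?_ ?_
    · rintro _ ⟨v, rfl⟩
      rw [hφ]
      rcases v with i | i
      · exact ⟨((T.x ^ (ZMod.val i) : D) : G), (T.x ^ _).2, by
          show _ = f T.x ^ _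
          rw [← map_pow, hf]; rfl⟩
      · exact ⟨((T.y * T.x ^ (ZMod.val i) : D) : G), (T.y * T.x ^ _).2, by
          show _ = f T.y * f T.x ^ _
          rw [← map_pow, ← map_mul, hf]; rfl⟩
    · rintro _ ⟨w, hw, rfl⟩
      have hx : f T.x ∈ φ.range := ⟨DihedralGroup.r 1, by
        rw [hφ]; show f T.x ^ (1 : ZMod (2 ^ (T.n - 1))).val = _
        haveI : Fact (1 < 2 ^ (T.n - 1)) := ⟨Nat.one_lt_two_pow (by have := T.three_le; omega)⟩
        rw [ZMod.val_one, pow_one]⟩
      have hy : f T.y ∈ φ.range := ⟨DihedralGroup.sr 0, by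
        rw [hφ]; show f T.y * f T.x ^ (0 : ZMod (2 ^ (T.n - 1))).val = _
        rw [ZMod.val_zero, pow_zero, mul_one]⟩
      have e : π w = f ⟨w, hw⟩ := by rw [hf]; rfl
      rw [e]
      obtain ⟨i, h | h⟩ := T.repr_cases ⟨w, hw⟩
      · rw [h, map_zpow]; exact zpow_mem hx i
      · rw [h, map_mul, map_zpow]; exact mul_mem (zpow_mem hx i) hy
  have hdih : Nonempty (Db ≃* DihedralGroup (2 ^ (T.n - 1))) :=
    ⟨((MonoidHom.ofInjective (f := φ) (by rw [hφ]; exact dihLift_injective _ hord hyy hrel hymem)).trans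
      (MulEquiv.subgroupCongr hrange)).symm⟩
  have hlb : blockRank 2 Bbar = 3 := by
    rw [← blockRank_inflation hM hcp ⟨0, ?_⟩ hB hBbar hsub, hl]
    rw [pow_zero, Subgroup.index_eq_one, eq_top_iff]
    intro g _
    exact Subgroup.mem_centralizer_iff.mpr fun v hv =>
      (Subgroup.mem_center_iff.mp ((Subgroup.zpowers_le.mpr hc) hv) g).symm
  obtain ⟨L, -⟩ := exists_localData hM hBbar hDbd T.three_le hdih
  haveI := Fintype.ofFinite (cz L.S.z)
  haveI := Fintype.ofFinite L.P'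
  obtain ⟨R⟩ := exists_rot_data hM L
  obtain ⟨v, hv⟩ := defect_conj hM hBbar hDbd (isDefectGroup_of_maximal hM L.hmax)
  have hconj : ∀ w : D, f w * f w = 1 → f w ≠ 1 → IsConj (f w) L.S.z := by
    intro w h2 h1
    have hmem : v * f w * v⁻¹ ∈ L.P := by
      rw [← hv]
      exact ⟨f w, by rw [hDb, hf]; exact ⟨w, w.2, rfl⟩, rfl⟩
    refine (isConj_iff.mpr ⟨v, rfl⟩).trans (R.isConj_z_of_rank_three hM hlb hmem ?_ ?_)
    · rw [show v * f w * v⁻¹ * (v * f w * v⁻¹) = v * (f w * f w) * v⁻¹ by group, h2]; group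
    · exact fun h => h1 (conj_eq_one_iff.mp h)
  have hm2 : f (T.x ^ (T.m : ℤ)) * f (T.x ^ (T.m : ℤ)) = 1 := by
    rw [← map_mul, ← zpow_add, ← two_mul, hfc]
  have hm1 : f (T.x ^ (T.m : ℤ)) ≠ 1 := fun h => by
    rw [map_zpow, zpow_natCast, ← orderOf_dvd_iff_pow_eq_one, hord, T.m_eq,
      Nat.pow_dvd_pow_iff_le_right (by norm_num)] at h
    have := T.three_le
    omega
  have hy1 : f T.y ≠ 1 := fun h => hymem (h ▸ one_mem _)
  obtain ⟨g, hg⟩ := isConj_iff.mp ((hconj _ hyy hy1).trans (hconj _ hm2 hm1).symm)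
  obtain ⟨g₀, rfl⟩ := QuotientGroup.mk'_surjective (Subgroup.zpowers c) g
  have hy2 : (T.y : G) * T.y = 1 := by
    have h := pow_orderOf_eq_one T.y
    rw [T.ordy, sq] at h
    exact congrArg Subtype.val h
  have hg' : π (g₀ * T.y * g₀⁻¹) = π ((T.x ^ (T.m : ℤ) : D) : G) := by
    rw [hf] at hg
    rw [hπ] at hg ⊢
    simpa using hg
  obtain ⟨i, hi⟩ : ∃ i : ℤ, g₀ * T.y * g₀⁻¹ = ((T.x ^ (T.m : ℤ) : D) : G) * c ^ i := by
    rw [hπ, QuotientGroup.mk'_apply, QuotientGroup.mk'_apply, QuotientGroup.eq] at hg'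
    obtain ⟨i, hi⟩ := Subgroup.mem_zpowers_iff.mp (inv_mem hg')
    exact ⟨i, by rw [hi]; group⟩
  have hsq := congrArg (fun w => w * w) hi
  rw [show g₀ * (T.y : G) * g₀⁻¹ * (g₀ * T.y * g₀⁻¹) = g₀ * (T.y * T.y) * g₀⁻¹ by group, hy2,
    mul_one, mul_inv_cancel] at hsq
  have hcom : Commute ((T.x ^ (T.m : ℤ) : D) : G) (c ^ i) :=
    Subgroup.mem_center_iff.mp (zpow_mem hc i) _
  have hcc : c * c = 1 := by
    have := pow_orderOf_eq_one c
    rwa [hc2, sq] at this
  rw [hcom.symm.mul_mul_mul_comm, ← zpow_add, ← two_mul, zpow_mul, zpow_two, hcc, one_zpow, mul_one,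
    ← Subgroup.coe_mul, ← zpow_add, ← two_mul, ← hcd, hcDe] at hsq
  rw [← hsq, orderOf_one] at hc2
  omega

/-- A tame block of rank three forces the center to have odd order. -/
theorem odd_card_center {D : Subgroup G} (hM : IsPModular 2 M) (hB : IsPBlock M B)
    (hD : IsDefectGroup 2 M B D)
    (hD' : (∃ n : ℕ, 3 ≤ n ∧ Nonempty (D ≃* DihedralGroup (2 ^ (n - 1)))) ∨ IsQuasiDihedral D)
    (hl : blockRank 2 B = 3) : Odd (Nat.card (Subgroup.center G)) := by
  haveI : Fact (Nat.Prime 2) := ⟨Nat.prime_two⟩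
  rw [← Nat.not_even_iff_odd, even_iff_two_dvd]
  intro h
  obtain ⟨c, hc⟩ := exists_prime_orderOf_dvd_card' 2 h
  rw [← Subgroup.orderOf_coe] at hc
  rcases hD' with ⟨n, hn, hdih⟩ | hqd
  · have := rank_le_one_of_central hM hB hD hn hdih c.2 hc
    omega
  · exact qd_rank_ne_three_of_central hM hB hD hqd c.2 hc hl

end Cfsg.Agent.DihBlock
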