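import Cfsg.Agent.Lib.Blocks.StarVanish
import Cfsg.Agent.Lib.Blocks.StarAction

/-!
# Columns of generalized decomposition numbers at sections with one local Brauer character
-/

set_option autoImplicit false
set_option linter.style.haveILetI false
set_option linter.unusedSectionVars false

namespace Cfsg.Agent.DihBlock

open Cfsg.Agent.Blocks Cfsg.Agent.BPairs MonoidAlgebra
open scoped ComplexConjugate

universe u

variable {G : Type u} [Group G] [Fintype G] {p : ℕ} {M : Ideal AlgInt} [M.IsPrime]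

open Classical in
/-- The indicator of the orbit of the pair `(u, a)`. -/
noncomputable def ind (u : G) (a : MonoidAlgebra (Res M) G) (x : G)
    (a' : MonoidAlgebra (Res M) G) : ℂ :=
  if ∃ g, g * u * g⁻¹ = x ∧ conjA g a = a' then 1 else 0

theorem ind_conj (u : G) (a : MonoidAlgebra (Res M) G) (c x : G) (a' : MonoidAlgebra (Res M) G) :
    ind u a (c * x * c⁻¹) (conjA c a') = ind u a x a' := by
  rw [ind, ind]
  congr 1
  refine propext ⟨?_, ?_⟩
  · rintro ⟨g, h1, h2⟩
    refine ⟨c⁻¹ * g, ?_, ?_⟩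
    · rw [show c⁻¹ * g * u * (c⁻¹ * g)⁻¹ = c⁻¹ * (g * u * g⁻¹) * c by group, h1]; group
    · rw [← conjA_conjA, h2, conjA_conjA, inv_mul_cancel, conjA_one]
  · rintro ⟨g, h1, h2⟩
    refine ⟨c * g, ?_, ?_⟩
    · rw [show c * g * u * (c * g)⁻¹ = c * (g * u * g⁻¹) * c⁻¹ by group, h1]
    · rw [← conjA_conjA, h2]

theorem ind_mul_conj (u : G) (a : MonoidAlgebra (Res M) G) (x : G) (a' : MonoidAlgebra (Res M) G) :
    ind u a x a' * conj (ind u a x a') = ind u a x a' := by
  rw [ind]
  split_ifs <;> simp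

theorem isClassFunction_psi_ind (hM : IsPModular p M) [Fact p.Prime] (u : G)
    (a : MonoidAlgebra (Res M) G) (θ : IrrCharacter G) :
    IsClassFunction G (psi p (ind u a) θ) := by
  intro g c
  rw [psi, psi, pPart_conj, sum_blkIdem_conj]
  refine Finset.sum_congr rfl fun b hb => ?_
  rw [ind_conj, phi_conjA hM θ c (blkIdem_mul_self hb) (blk_commute hb)]

/-- A section with one column. -/
structure Col (p : ℕ) (M : Ideal AlgInt) [M.IsPrime] (u : G) (a : MonoidAlgebra (Res M) G)
    (ν : IrrCharacter G → ℂ) (q : ℂ) : Prop where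
  mem : a ∈ blkIdem M u
  real : ∀ χ, conj (ν χ) = ν χ
  q0 : q ≠ 0
  rep : ∃ X : G → ℂ, (∀ (χ : IrrCharacter G) (g : G), pPart p g = u → phi p χ g a = ν χ * X g) ∧
    (∑ᶠ g ∈ {g : G | pPart p g = u}, X g * conj (X g)) * q = (Nat.card (cz u) : ℂ)

variable {u v : G} {a b : MonoidAlgebra (Res M) G} {ν μ : IrrCharacter G → ℂ} {q r : ℂ}

theorem classInner_ind (hM : IsPModular p M) [Fact p.Prime] (h : Col p M u a ν q)
    (χ ψ : IrrCharacter G) :
    classInner (Blocks.psi p (ind u a) χ) (ψ : G → ℂ) = ν χ * ν ψ / q := by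
  classical
  obtain ⟨X, hX, hnorm⟩ := h.rep
  obtain ⟨N, hN⟩ : ∃ N, N = ∑ g ∈ Finset.univ.filter (fun g : G => pPart p g = u),
      X g * conj (X g) := ⟨_, rfl⟩
  have hNq : N * q = (Nat.card (cz u) : ℂ) := by
    rw [← hnorm, finsum_mem_eq_toFinset_sum, hN, Set.toFinset_setOf]
  have key : ∑ g, psi p (ind u a) χ g * conj ((ψ : G → ℂ) g) =
      (Nat.card {x : G // IsConj u x} : ℂ) * (ν χ * ν ψ * N) := by
    rw [← psi_one (M := M) (p := p) hM ψ, sum_psi_mul hM χ ψ,
      ← Finset.sum_fiberwise Finset.univ (pPart p), Nat.card_eq_fintype_card, Fintype.card_subtype,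
      ← nsmul_eq_mul, ← Finset.sum_const, Finset.sum_filter]
    refine Finset.sum_congr rfl fun x _ => ?_
    by_cases hx : IsConj u x
    · rw [if_pos hx]
      obtain ⟨c, hc⟩ := isConj_iff.mp hx
      subst hc
      have hfix : ∀ g, g * u * g⁻¹ = c * u * c⁻¹ → conjA g a = conjA c a := by
        intro g hg
        have hmem : c⁻¹ * g ∈ cz u := mem_cz.mpr (by
          show (c⁻¹ * g) * u = u * (c⁻¹ * g)
          calc (c⁻¹ * g) * u = c⁻¹ * (g * u * g⁻¹) * g := by group
            _ = c⁻¹ * (c * u * c⁻¹) * g := by rw [hg]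
            _ = _ := by group)
        rw [show g = c * (c⁻¹ * g) by group, ← conjA_conjA,
          isInv_iff_conjA.mp (blkIdem_isInv h.mem) _ hmem]
      rw [hN, Finset.mul_sum]
      refine Finset.sum_equiv (MulAut.conj c⁻¹).toEquiv (fun g => ?_) fun g hg => ?_
      · simp only [Finset.mem_filter, Finset.mem_univ, true_and, MulEquiv.toEquiv_eq_coe,
          EquivLike.coe_coe, MulAut.conj_apply, pPart_conj]
        constructor
        · intro e; rw [e]; group
        · intro e
          rw [← e]; group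
      · have hgx := (Finset.mem_filter.mp hg).2
        simp only [MulEquiv.toEquiv_eq_coe, EquivLike.coe_coe, MulAut.conj_apply]
        rw [hgx, Finset.sum_eq_single_of_mem (conjA c a) (conjA_mem_blkIdem c h.mem)
          fun a' _ hne => by
            rw [ind, if_neg, zero_mul, zero_mul]
            rintro ⟨g', h1, h2⟩
            exact hne (h2.symm.trans (hfix g' h1)),
          ind, if_pos ⟨c, rfl, rfl⟩, map_one, one_mul, one_mul]
        have hg' : pPart p (c⁻¹ * g * c⁻¹⁻¹) = u := by rw [pPart_conj, hgx]; group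
        have hcomm : Commute a (single (c⁻¹ * g * c⁻¹⁻¹) 1) := blk_commute (hg' ▸ h.mem)
        have e : ∀ θ, phi p θ g (conjA c a) = ν θ * X (c⁻¹ * g * c⁻¹⁻¹) := fun θ => by
          rw [← hX θ _ hg', ← phi_conjA hM θ c (blkIdem_mul_self h.mem) hcomm]
          congr 1
          group
        rw [e, e, map_mul, h.real]
        ring
    · rw [if_neg hx]
      refine Finset.sum_eq_zero fun g hg => Finset.sum_eq_zero fun a' _ => ?_
      rw [(Finset.mem_filter.mp hg).2, ind, if_neg, zero_mul, zero_mul]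
      rintro ⟨g', h1, -⟩
      exact hx (isConj_iff.mpr ⟨g', h1⟩)
  have hcard : (Nat.card {x : G // IsConj u x} : ℂ) * (Nat.card (cz u) : ℂ) = (Nat.card G : ℂ) := by
    rw [show cz u = Subgroup.centralizer ({u} : Set G) from centralizer_zpowers_eq u]
    exact_mod_cast CT.card_conj_class_mul_centralizer u
  rw [classInner, key]
  have hG : (Nat.card G : ℂ) ≠ 0 := CT.card_ne_zero
  have hq := h.q0
  field_simp
  linear_combination (ν χ * ν ψ * (Nat.card {x : G // IsConj u x} : ℂ)) * hNq + (ν χ * ν ψ) * hcard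

theorem classInner_ind_ind (hM : IsPModular p M) [Fact p.Prime] (χ ψ : IrrCharacter G)
    (hdis : ∀ g, ¬ (g * u * g⁻¹ = v ∧ conjA g a = b)) :
    classInner (Blocks.psi p (ind u a) χ) (Blocks.psi p (ind v b) ψ) = 0 := by
  classical
  rw [classInner, sum_psi_mul hM χ ψ]
  refine mul_eq_zero_of_right _ (Finset.sum_eq_zero fun g _ => Finset.sum_eq_zero fun a' _ => ?_)
  suffices hz : ind u a (pPart p g) a' * conj (ind v b (pPart p g) a') = 0 by rw [hz, zero_mul]
  rw [ind, ind]
  split_ifs with h1 h2 <;> try simp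
  obtain ⟨g₁, e1, f1⟩ := h1
  obtain ⟨g₂, e2, f2⟩ := h2
  refine hdis (g₂⁻¹ * g₁) ⟨?_, ?_⟩
  · rw [show g₂⁻¹ * g₁ * u * (g₂⁻¹ * g₁)⁻¹ = g₂⁻¹ * (g₁ * u * g₁⁻¹) * g₂ by group, e1, ← e2]
    group
  · rw [← conjA_conjA, f1, ← f2, conjA_conjA, inv_mul_cancel, conjA_one]

theorem classInner_ind_self (hM : IsPModular p M) [Fact p.Prime] (h : Col p M u a ν q)
    (χ ψ : IrrCharacter G) :
    classInner (Blocks.psi p (ind u a) χ) (Blocks.psi p (ind u a) ψ) = ν χ * ν ψ / q := by
  rw [← classInner_ind hM h χ ψ, classInner, classInner, ← psi_one (M := M) (p := p) hM ψ,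
    sum_psi_mul hM χ ψ, sum_psi_mul hM χ ψ]
  congr 1
  refine Finset.sum_congr rfl fun g _ => Finset.sum_congr rfl fun a' _ => ?_
  rw [ind_mul_conj, map_one, mul_one]

/-- Distinct columns are orthogonal. -/
theorem col_orth (hM : IsPModular p M) [Fact p.Prime] (hu : Col p M u a ν q) (hv : Col p M v b μ r)
    {χ χ' : IrrCharacter G} (hχ : ν χ ≠ 0) (hχ' : μ χ' ≠ 0)
    (hdis : ∀ g, ¬ (g * u * g⁻¹ = v ∧ conjA g a = b)) : ∑ ψ, ν ψ * μ ψ = 0 := by
  have h := classInner_ind_ind (p := p) hM χ χ' hdis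
  rw [CT.classInner_eq_sum (isClassFunction_psi_ind hM v b χ')] at h
  simp only [classInner_ind hM hu, classInner_ind hM hv, map_div₀, map_mul, hv.real] at h
  have hq := hu.q0
  have hr := hv.q0
  have hcr : conj r ≠ 0 := by simpa using hr
  rw [Finset.sum_congr rfl (g := fun ψ => ν χ * μ χ' / (q * conj r) * (ν ψ * μ ψ))
    fun ψ _ => by field_simp, ← Finset.mul_sum] at h
  exact (mul_eq_zero.mp h).resolve_left (div_ne_zero (mul_ne_zero hχ hχ') (mul_ne_zero hq hcr))

/-- The norm of a column. -/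
theorem col_sq (hM : IsPModular p M) [Fact p.Prime] (hu : Col p M u a ν q) (hq : conj q = q)
    {χ : IrrCharacter G} (hχ : ν χ ≠ 0) : ∑ ψ, ν ψ * ν ψ = q := by
  have h := classInner_ind_self hM hu χ χ
  rw [CT.classInner_eq_sum (isClassFunction_psi_ind hM u a χ)] at h
  simp only [classInner_ind hM hu, map_div₀, map_mul, hu.real, hq] at h
  have hq0 := hu.q0
  rw [Finset.sum_congr rfl (g := fun ψ => ν χ * ν χ / (q * q) * (ν ψ * ν ψ))
    fun ψ _ => by field_simp, ← Finset.mul_sum] at h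
  have hc : ν χ * ν χ ≠ 0 := mul_ne_zero hχ hχ
  field_simp at h
  simpa [sq] using h

/-- A column at a nontrivial section is orthogonal to the values at regular elements. -/
theorem col_reg (hM : IsPModular p M) [Fact p.Prime] (hu : Col p M u a ν q) (hu1 : u ≠ 1)
    {χ : IrrCharacter G} (hχ : ν χ ≠ 0) {y : G} (hy : ¬ p ∣ orderOf y) :
    ∑ ψ : IrrCharacter G, ν ψ * (ψ : G → ℂ) y = 0 := by
  have h := congrFun (CT.classFunction_eq_sum (isClassFunction_psi_ind hM u a χ)) y
  simp only [Finset.sum_apply, Pi.smul_apply, smul_eq_mul, classInner_ind hM hu] at h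
  rw [psi, Finset.sum_eq_zero fun a' _ => by
    rw [ind, if_neg, zero_mul]
    rintro ⟨g, h1, -⟩
    rw [pPart_of_regular hy] at h1
    exact hu1 (conj_eq_one_iff.mp h1)] at h
  rw [Finset.sum_congr rfl (g := fun ψ : IrrCharacter G => ν χ / q * (ν ψ * (ψ : G → ℂ) y))
    fun ψ _ => by ring, ← Finset.mul_sum] at h
  exact (mul_eq_zero.mp h.symm).resolve_left (div_ne_zero hχ hu.q0)

/-- A column of a block vanishes outside it. -/
theorem col_outside (hM : IsPModular p M) [Fact p.Prime] {B : Set (IrrCharacter G)}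
    (hB : IsPBlock M B) (hu : Col p M u a ν q) (hi : InB M B u a) {χ : IrrCharacter G}
    (hχ : χ ∉ B) : ν χ = 0 := by
  classical
  obtain ⟨X, hX, hnorm⟩ := hu.rep
  by_contra hne
  refine (Nat.cast_ne_zero (R := ℂ)).mpr (Nat.card_pos (α := cz u)).ne' ?_
  rw [← hnorm, finsum_mem_eq_toFinset_sum, Finset.sum_eq_zero fun g hg => ?_, zero_mul]
  rw [Set.mem_toFinset] at hg
  have h0 := hX χ g hg
  rw [phi_eq_zero_of_inB hM hB hχ (show a ∈ blkIdem M (pPart p g) by rw [show pPart p g = u from hg]; exact hu.mem)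
    (show InB M B (pPart p g) a by rw [show pPart p g = u from hg]; exact hi)] at h0
  rw [(mul_eq_zero.mp h0.symm).resolve_left hne, zero_mul]

/-- A column is not zero. -/
theorem col_ne_zero (hM : IsPModular p M) [Fact p.Prime] {B : Set (IrrCharacter G)}
    (hux : ∃ k : ℕ, u ^ p ^ k = 1) {f : Set (IrrCharacter (cz u))} (hf : IsPBlock M f)
    (hind : IsInducedBlock M (cz u) f B) (hu : Col p M u (bel M (cz u) f) ν q) :
    ∃ χ ∈ B, ν χ ≠ 0 := by
  obtain ⟨χ, hχ, h0⟩ := exists_height_zero (p := p) hind.2.1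
  obtain ⟨y, hy, hne⟩ := exists_phi_ne_zero hM hux hind hχ h0
  obtain ⟨X, hX, -⟩ := hu.rep
  refine ⟨χ, hχ, fun h => hne ?_⟩
  rw [hX χ _ (pPart_fiber hux y.2 (by rwa [Subgroup.orderOf_coe])), h, zero_mul]

end Cfsg.Agent.DihBlock
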