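import Cfsg.Agent.Lib.Blocks.StarParts
import Cfsg.Agent.Lib.BrauerPairs.Local

/-!
# Parts of characters through an intermediate subgroup
-/

set_option autoImplicit false
set_option linter.style.haveILetI false
set_option linter.unusedSectionVars false

namespace Cfsg.Agent.DihBlock

open Cfsg.Agent.Blocks Cfsg.Agent.BPairs MonoidAlgebra
open scoped ComplexConjugate

universe u

variable {G : Type u} [Group G] [Finite G] {p : ℕ} {M : Ideal AlgInt} [M.IsPrime]

theorem pPart_coe [Fact p.Prime] {H : Subgroup G} (g : H) :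
    pPart p (g : G) = ((pPart p g : H) : G) := by
  obtain ⟨y, hxy, hcom, hx, hy⟩ := id (pPart_spec (p := p) g)
  refine pPart_eq ?_
  obtain ⟨x, hxd⟩ : ∃ x, x = pPart p g := ⟨_, rfl⟩
  rw [← hxd] at hxy hcom hx ⊢
  rw [← hxy, Subgroup.coe_mul]
  obtain ⟨k, hk⟩ := hx
  exact isPPart_mk (congrArg Subtype.val hcom.eq)
    ⟨k, by rw [← hk, ← Subgroup.orderOf_coe]; exact pow_orderOf_eq_one _⟩
    (by rwa [Subgroup.orderOf_coe])

theorem phi_embH (hM : IsPModular p M) [Fact p.Prime] (θ : IrrCharacter G) (H : Subgroup G)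
    [Fintype H] {e : MonoidAlgebra (Res M) H} (g : H) (he : e * e = e)
    (hg : Commute e (single g 1)) :
    phi p θ (g : G) (embH H e) = ∑ ξ : IrrCharacter H,
      (CT.mult (fun h : H => (θ : G → ℂ) h) (ξ : H → ℂ) : ℂ) * phi p ξ g e := by
  classical
  obtain ⟨ε, h1, h2, h3⟩ := exists_inv_idem_lift (Subgroup.zpowers g) he (isInv_zpowers_iff.mpr hg)
  have hc : Commute ε (single g 1) := isInv_zpowers_iff.mp h3
  have hc' : Commute (embH H ε) (single (g : G) 1) := by
    have := hc.map (embH (R := Loc M) H)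
    rwa [embH_single] at this
  have hred : redG M G (embH H ε) = embH H e := by
    rw [← h2, redG, map_embH]
  rw [phi_eq_of_red hM θ (by rw [← map_mul, h1]) hc' hred, ev_charL_toC]
  rw [show embH H ε * single (g : G) (1 : Loc M) = embH H (ε * single g 1) by
      rw [map_mul, embH_single],
    show toC M G (embH H (ε * single g 1)) = embH H (toC M H (ε * single g 1)) by
      rw [toC, map_embH], ev_embH]
  have hres : (fun h : H => (θ : G → ℂ) h) = ∑ ξ : IrrCharacter H,
      (CT.mult (fun h : H => (θ : G → ℂ) h) (ξ : H → ℂ) : ℂ) • (ξ : H → ℂ) :=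
    CT.character_eq_sum (CT.isCharacter_restrict H (CT.isCharacter_of_isIrr θ.2))
  conv_lhs => rw [hres, ev_sum_smul_fun]
  refine Finset.sum_congr rfl fun ξ _ => ?_
  rw [phi_eq_of_red hM ξ h1 hc h2, ev_charL_toC]

end Cfsg.Agent.DihBlock
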