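import Cfsg.Agent.Lib.DihBlock.Local
import Cfsg.Agent.Lib.DihBlock.Cols
import Cfsg.Agent.Lib.DihBlock.Trans

/-!
# The columns of a block with dihedral defect group at the rotations
-/

set_option autoImplicit false
set_option linter.style.haveILetI false
set_option linter.unusedSectionVars false

namespace Cfsg.Agent.DihBlock

open Cfsg.Agent.Blocks Cfsg.Agent.BPairs MonoidAlgebra
open scoped ComplexConjugate

universe u

variable {G : Type u} [Group G] [Fintype G] {M : Ideal AlgInt} [M.IsPrime]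
  {B : Set (IrrCharacter G)}

namespace LocalData

variable (L : LocalData M B)

theorem P_le : L.P ≤ cz L.S.z := fun _ hv => mem_cz.mpr (L.S.z_commute hv)

/-- The generator of the rotations in the centralizer. -/
def rgen : cz L.S.z := ⟨L.S.σ, L.P_le L.S.hσ⟩

theorem mem_P' {v : cz L.S.z} : v ∈ L.P' ↔ (v : G) ∈ L.P := by
  constructor
  · exact fun h => L.hpush.2.2.1.le ⟨v, h, rfl⟩
  · intro h
    obtain ⟨w, hw, e⟩ := L.hpush.2.2.1.ge h
    exact (Subtype.ext e : w = v) ▸ hw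

/-- The rotations as elements of the defect group of the local block. -/
def rot (l : ℕ) : L.P' :=
  ⟨L.rgen ^ l, L.mem_P'.mpr (by rw [SubgroupClass.coe_pow]; exact pow_mem L.S.hσ l)⟩

theorem coe_rot (l : ℕ) : (((L.rot l : L.P') : cz L.S.z) : G) = L.S.σ ^ l :=
  SubgroupClass.coe_pow _ _

open Classical in
/-- The order of the centralizer of a rotation in the defect group. -/
noncomputable def qq (l : ℕ) : ℕ := if l = L.S.h then 2 ^ L.S.n else L.S.m

theorem card_inf {l : ℕ} (hl : 0 < l) (hlm : l < L.S.m) :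
    Nat.card (L.P' ⊓ cz ((L.rot l : L.P') : cz L.S.z) : Subgroup (cz L.S.z)) = L.qq l := by
  classical
  have hmap : (L.P' ⊓ cz ((L.rot l : L.P') : cz L.S.z)).map (cz L.S.z).subtype =
      L.P ⊓ Subgroup.centralizer ({L.S.σ ^ l} : Set G) := by
    ext v
    constructor
    · rintro ⟨w, hw, rfl⟩
      refine ⟨L.mem_P'.mp hw.1, Subgroup.mem_centralizer_singleton_iff.mpr ?_⟩
      rw [← L.coe_rot l]
      exact congrArg Subtype.val (mem_cz.mp hw.2).eq
    · intro hv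
      refine ⟨⟨v, L.P_le hv.1⟩, ⟨L.mem_P'.mpr hv.1, mem_cz.mpr (Subtype.ext ?_)⟩, rfl⟩
      rw [Subgroup.coe_mul, Subgroup.coe_mul, L.coe_rot l]
      exact Subgroup.mem_centralizer_singleton_iff.mp hv.2
  rw [← Subgroup.card_map_of_injective (cz L.S.z).subtype_injective, hmap, qq]
  split_ifs with hh
  · subst hh
    rw [show L.S.σ ^ L.S.h = L.S.z from rfl, L.S.card_centralizer_z, L.S.hcard]
  · rw [L.S.centralizer_rot hl hlm hh, Nat.card_zpowers, L.S.orderOf_σ]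

theorem cz_rot_le {l : ℕ} (hl : 0 < l) (hlm : l < L.S.m) : cz (L.S.σ ^ l) ≤ cz L.S.z :=
  Subgroup.centralizer_le (Subgroup.zpowers_le.mpr (L.S.z_mem_zpowers hl hlm))

/-- The column of a rotation. -/
theorem exists_col (hM : IsPModular 2 M) [Fintype (cz L.S.z)] [Fintype L.P']
    {χ₀ : IrrCharacter (cz L.S.z)} {F : IrrCharacter L.P' → IrrCharacter (cz L.S.z)}
    (hinj : Function.Injective F) (hsurj : ∀ η, η ∈ L.f ↔ ∃ ζ, F ζ = η)
    (hphi : ∀ (ζ : IrrCharacter L.P') (u : L.P') (g : cz L.S.z)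
      (a : MonoidAlgebra (Res M) (cz L.S.z)), pPart 2 g = u →
      BelAt 2 M L.P' L.c' (u : cz L.S.z) a → phi 2 (F ζ) g a = (ζ : L.P' → ℂ) u * phi 2 χ₀ g a)
    (hq : ∀ (u : L.P') (a : MonoidAlgebra (Res M) (cz L.S.z)),
      BelAt 2 M L.P' L.c' (u : cz L.S.z) a → qVal 2 L.P' χ₀ (u : cz L.S.z) a = 1)
    {Θ : IrrCharacter G → L.P' → ℂ}
    (hΘ : ∀ χ, Θ χ = fun v => ∑ ζ : IrrCharacter L.P',
      (CT.mult (fun h : cz L.S.z => (χ : G → ℂ) h) (F ζ : cz L.S.z → ℂ) : ℂ) * (ζ : L.P' → ℂ) v)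
    (hreal : ∀ χ l, conj (Θ χ (L.rot l)) = Θ χ (L.rot l))
    {l : ℕ} (hl : 0 < l) (hlm : l < L.S.m) :
    ∃ aC : MonoidAlgebra (Res M) (cz L.S.z),
      BelAt 2 M L.P' L.c' ((L.rot l : L.P') : cz L.S.z) aC ∧
      BelAt 2 M L.P L.e (L.S.σ ^ l) (embH (cz L.S.z) aC) ∧
      Col 2 M (L.S.σ ^ l) (embH (cz L.S.z) aC) (fun χ => Θ χ (L.rot l)) (L.qq l : ℂ) ∧
      ∀ (χ : IrrCharacter G) (g : cz L.S.z), pPart 2 g = L.rot l →
        phi 2 χ (g : G) (embH (cz L.S.z) aC) = Θ χ (L.rot l) * phi 2 χ₀ g aC := by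
  classical
  haveI : Fact (Nat.Prime 2) := ⟨Nat.prime_two⟩
  obtain ⟨fu, hfu, hb⟩ := exists_belAt hM L.hmax' (L.rot l)
  obtain ⟨fu', hle', hfe⟩ := id hb
  have hfu' : IsPBlock M fu' := (isBrauerPair_of_subpair hle' L.hmax'.1.1 :
    IsBrauerPair 2 M (Subgroup.zpowers ((L.rot l : L.P') : cz L.S.z)) fu').2
  have hmap : (Subgroup.zpowers ((L.rot l : L.P') : cz L.S.z)).map (cz L.S.z).subtype =
      Subgroup.zpowers (L.S.σ ^ l) := by
    rw [MonoidHom.map_zpowers, Subgroup.coe_subtype, L.coe_rot]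
  obtain ⟨b, hpb⟩ := exists_push (⟨Subgroup.zpowers ((L.rot l : L.P') : cz L.S.z), fu'⟩ :
    BrauerPairIdx (cz L.S.z)) hfu' (by rw [hmap]; exact L.cz_rot_le hl hlm)
  obtain ⟨b', hb', hchain⟩ := chain_push hM (Q := Subgroup.zpowers L.S.z) le_rfl hle' hpb (by
    rw [← hpb.2.2.1, hmap]
    exact Subgroup.zpowers_le.mpr (L.S.z_mem_zpowers hl hlm))
  have hbe : b' = (⟨L.P, L.e⟩ : BrauerPairIdx G) :=
    idx_ext (M := M) hb'.2.1 L.hpush.2.1 (hb'.2.2.1.symm.trans L.hpush.2.2.1)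
      (hb'.2.2.2.symm.trans L.hpush.2.2.2)
  rw [hbe] at hchain
  have hGA : BelAt 2 M L.P L.e (L.S.σ ^ l)
      (embH (cz L.S.z) (bel M (cz ((L.rot l : L.P') : cz L.S.z)) fu)) := by
    rw [hfe]
    obtain ⟨R, g⟩ := b
    obtain ⟨-, -, hsub, hbel⟩ := hpb
    dsimp only at hsub hbel
    rw [hmap] at hsub
    rw [hbel]
    exact belAt_of_le hsub.symm hchain
  obtain ⟨aC, haC⟩ : ∃ aC, aC = bel M (cz ((L.rot l : L.P') : cz L.S.z)) fu := ⟨_, rfl⟩
  rw [← haC] at hb hGA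
  have hcomm : ∀ g : cz L.S.z, pPart 2 g = L.rot l → Commute aC (single g 1) := fun g hg =>
    blk_commute (show aC ∈ blkIdem M (pPart 2 g) from hg ▸ mem_blkIdem_of_belAt L.hmax' hb)
  have hval : ∀ (χ : IrrCharacter G) (g : cz L.S.z), pPart 2 g = L.rot l →
      phi 2 χ (g : G) (embH (cz L.S.z) aC) = Θ χ (L.rot l) * phi 2 χ₀ g aC := by
    intro χ g hg
    rw [phi_embH hM χ (cz L.S.z) g (blkIdem_mul_self (mem_blkIdem_of_belAt L.hmax' hb))
      (hcomm g hg), hΘ, Finset.sum_mul]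
    have hsub : ∑ ξ : IrrCharacter (cz L.S.z),
        (CT.mult (fun h : cz L.S.z => (χ : G → ℂ) h) (ξ : cz L.S.z → ℂ) : ℂ) * phi 2 ξ g aC =
        ∑ ξ ∈ Finset.univ.map ⟨F, hinj⟩,
        (CT.mult (fun h : cz L.S.z => (χ : G → ℂ) h) (ξ : cz L.S.z → ℂ) : ℂ) * phi 2 ξ g aC := by
      refine (Finset.sum_subset (Finset.subset_univ _) fun ξ _ hξ => ?_).symm
      have hξf : ξ ∉ L.f := fun h => hξ (by
        obtain ⟨ζ, rfl⟩ := (hsurj ξ).mp h
        exact Finset.mem_map.mpr ⟨ζ, Finset.mem_univ _, rfl⟩)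
      rw [phi_eq_zero_of_inB hM L.hf hξf (hg ▸ mem_blkIdem_of_belAt L.hmax' hb)
        (hg ▸ inB_of_belAt hM L.hmax' hb), mul_zero]
    rw [hsub, Finset.sum_map]
    refine Finset.sum_congr rfl fun ζ _ => ?_
    rw [Function.Embedding.coeFn_mk, hphi ζ (L.rot l) g aC hg hb]
    ring
  refine ⟨aC, hb, hGA, ⟨mem_blkIdem_of_belAt L.hmax hGA, fun χ => hreal χ l, ?_, ?_⟩, hval⟩
  · rw [← L.card_inf hl hlm]
    exact Nat.cast_ne_zero.mpr Nat.card_pos.ne'
  have hmem : ∀ g : G, pPart 2 g = L.S.σ ^ l → g ∈ cz L.S.z := fun g hg =>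
    L.cz_rot_le hl hlm (hg ▸ mem_cz_pPart g)
  have hpp : ∀ (g : cz L.S.z), pPart 2 (g : G) = L.S.σ ^ l ↔ pPart 2 g = L.rot l := by
    intro g
    rw [pPart_coe, ← L.coe_rot l, Subtype.coe_inj]
  refine ⟨fun g => if h : g ∈ cz L.S.z then phi 2 χ₀ ⟨g, h⟩ aC else 0, fun χ g hg => ?_, ?_⟩
  · simp only [dif_pos (hmem g hg)]
    exact hval χ ⟨g, hmem g hg⟩ ((hpp ⟨g, hmem g hg⟩).mp hg)
  · have h1 := hq (L.rot l) aC hb
    rw [qVal, L.card_inf hl hlm, partNorm, finsum_eq_sum_of_fintype] at h1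
    rw [finsum_mem_eq_toFinset_sum]
    have hcard : Nat.card (cz (L.S.σ ^ l)) = Nat.card (cz ((L.rot l : L.P') : cz L.S.z)) := by
      rw [← Subgroup.card_map_of_injective (cz L.S.z).subtype_injective
        (K := cz ((L.rot l : L.P') : cz L.S.z))]
      refine congrArg (fun X : Subgroup G => Nat.card X) ?_
      ext v
      constructor
      · intro hv
        refine ⟨⟨v, L.cz_rot_le hl hlm hv⟩, mem_cz.mpr (Subtype.ext ?_), rfl⟩
        rw [Subgroup.coe_mul, Subgroup.coe_mul, L.coe_rot l]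
        exact (mem_cz.mp hv).eq
      · rintro ⟨w, hw, rfl⟩
        rw [mem_cz, ← L.coe_rot l]
        exact congrArg Subtype.val (mem_cz.mp hw).eq
    rw [hcard, Finset.sum_bij' (t := Finset.univ.filter fun g : cz L.S.z =>
        pPart 2 g = (L.rot l : cz L.S.z))
      (g := fun g => phi 2 χ₀ g aC * conj (phi 2 χ₀ g aC))
      (fun g hg => ⟨g, hmem g (by simpa using hg)⟩) (fun g _ => (g : G))
      (fun g hg => Finset.mem_filter.mpr ⟨Finset.mem_univ _, (hpp _).mp (by simpa using hg)⟩)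
      (fun g hg => by simpa using (hpp g).mpr (Finset.mem_filter.mp hg).2)
      (fun g _ => rfl) (fun g _ => Subtype.ext rfl)
      fun g hg => by simp only [dif_pos (hmem g (by simpa using hg))], Finset.sum_filter]
    have hc : (Nat.card (cz ((L.rot l : L.P') : cz L.S.z)) : ℂ) ≠ 0 :=
      Nat.cast_ne_zero.mpr Nat.card_pos.ne'
    field_simp at h1
    linear_combination h1

/-- Columns at rotations which are not inverse to each other lie at different sections. -/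
theorem disjoint (hM : IsPModular 2 M) {l k : ℕ} (hl : 0 < l) (hlm : l < L.S.m) (hk : 0 < k)
    (hkm : k < L.S.m) (hne : L.S.σ ^ k ≠ L.S.σ ^ l ∧ L.S.σ ^ k ≠ (L.S.σ ^ l)⁻¹)
    {a a' : MonoidAlgebra (Res M) (cz L.S.z)}
    (ha : BelAt 2 M L.P' L.c' ((L.rot l : L.P') : cz L.S.z) a)
    (ha' : BelAt 2 M L.P' L.c' ((L.rot k : L.P') : cz L.S.z) a') (g : G) :
    ¬ (g * L.S.σ ^ l * g⁻¹ = L.S.σ ^ k ∧
      conjA g (embH (cz L.S.z) a) = embH (cz L.S.z) a') := by
  classical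
  rintro ⟨hgu, hga⟩
  have hz : g * L.S.z * g⁻¹ = L.S.z := by
    obtain ⟨i, hi⟩ := mem_powers_iff_mem_zpowers.mpr (L.S.z_mem_zpowers hl hlm)
    have h1 : g * L.S.z * g⁻¹ ∈ Subgroup.zpowers L.S.σ := by
      rw [← hi, ← conj_pow, hgu]
      exact pow_mem (pow_mem (Subgroup.mem_zpowers _) k) i
    have h2 : g * L.S.z * g⁻¹ * (g * L.S.z * g⁻¹) = 1 := by
      rw [show g * L.S.z * g⁻¹ * (g * L.S.z * g⁻¹) = g * (L.S.z * L.S.z) * g⁻¹ by group, L.S.z_sq]
      group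
    rcases L.S.sq_eq_one_mem h1 h2 with h3 | h3
    · exact absurd (conj_eq_one_iff.mp h3) L.S.z_ne_one
    · exact h3
  obtain ⟨gC, hgC⟩ : ∃ gC : cz L.S.z, (gC : G) = g :=
    ⟨⟨g, mem_cz.mpr (mul_inv_eq_iff_eq_mul.mp hz)⟩, rfl⟩
  subst hgC
  rw [conjA_embH] at hga
  have h2 := embH_injective (R := Res M) (cz L.S.z) hga
  have e1 : gC * ((L.rot l : L.P') : cz L.S.z) * gC⁻¹ = ((L.rot k : L.P') : cz L.S.z) :=
    Subtype.ext (by simp only [Subgroup.coe_mul, Subgroup.coe_inv, L.coe_rot]; exact hgu)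
  have key : ∀ c : L.P', c * L.rot l * c⁻¹ = L.rot l ∨ c * L.rot l * c⁻¹ = (L.rot l)⁻¹ := by
    intro c
    by_cases hc : ((c : cz L.S.z) : G) ∈ Subgroup.zpowers L.S.σ
    · left
      obtain ⟨i, -, hi⟩ := L.S.exists_pow hc
      refine Subtype.ext (Subtype.ext ?_)
      simp only [Subgroup.coe_mul, Subgroup.coe_inv, L.coe_rot, hi]
      rw [(Commute.pow_pow_self _ _ _).eq, mul_inv_cancel_right]
    · right
      have h3 := (L.S.hrefl _ (L.mem_P'.mp c.2) hc).2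
      refine Subtype.ext (Subtype.ext ?_)
      simp only [Subgroup.coe_mul, Subgroup.coe_inv, L.coe_rot]
      rw [← conj_pow, h3, inv_pow]
  have hone : ∀ v c : L.P', (v = L.rot l ∨ v = (L.rot l)⁻¹) →
      (c * v * c⁻¹ = L.rot l ∨ c * v * c⁻¹ = (L.rot l)⁻¹) := by
    rintro v c (rfl | rfl)
    · exact key c
    · rw [← conj_inv]
      rcases key c with h | h
      · right; rw [h]
      · left; rw [h, inv_inv]
  have hcl : IsClassFunction L.P' fun v : L.P' =>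
      if v = L.rot l ∨ v = (L.rot l)⁻¹ then (1 : ℂ) else 0 := by
    intro v c
    simp only
    congr 1
    refine propext ⟨fun h => ?_, hone v c⟩
    have := hone _ c⁻¹ h
    rwa [show c⁻¹ * (c * v * c⁻¹) * c⁻¹⁻¹ = v by group] at this
  have hst := stable_of_nilpotent hM L.hnil L.hmax' hcl _ gC _ ha (by rw [e1, h2]; exact ha')
  rw [e1, CT.extendByZero_coe, CT.extendByZero_coe, if_pos (Or.inl rfl)] at hst
  split_ifs at hst with h3
  · rcases h3 with h4 | h4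
    · exact hne.1 (by rw [← L.coe_rot k, h4, L.coe_rot])
    · refine hne.2 ?_
      rw [← L.coe_rot k, h4, Subgroup.coe_inv, Subgroup.coe_inv, L.coe_rot]
  · exact zero_ne_one hst

end LocalData

end Cfsg.Agent.DihBlock
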