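import Cfsg.Agent.Lib.Blocks.DihedralStar
import Mathlib.Algebra.Order.BigOperators.Group.Finset
import Mathlib.Data.Finset.Powerset
import Mathlib.Tactic

/-!
# Integer rows with the Gram matrix of the differences in a dihedral block
-/

set_option autoImplicit false

namespace Cfsg.Agent.DihBlock

variable {ι : Type*}

theorem four_support (F : Finset ι) (x : ι → ℤ) (hx : ∀ i ∈ F, 0 < x i) (r : ι → ℤ)
    (hdeg : ∑ i ∈ F, r i * x i = 0) (hsq : ∑ i ∈ F, r i * r i = 4) :
    (F.filter fun i => r i ≠ 0).card = 4 ∧ ∀ i ∈ F, r i = 0 ∨ r i = 1 ∨ r i = -1 := by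
  classical
  have hb : ∀ i ∈ F, r i = 0 ∨ r i = 1 ∨ r i = -1 := by
    intro i hi
    by_contra h
    push Not at h
    have hle : r i * r i ≤ 4 :=
      hsq ▸ Finset.single_le_sum (f := fun j => r j * r j) (fun j _ => mul_self_nonneg _) hi
    have h1 : r i ≤ 2 := by nlinarith
    have h2 : -2 ≤ r i := by nlinarith
    have hi4 : r i * r i = 4 := by
      interval_cases hr : r i <;> simp_all
    have hz : ∑ j ∈ F.erase i, r j * r j = 0 := by
      rw [← Finset.add_sum_erase _ _ hi, hi4] at hsq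
      linarith
    have hzero : ∀ j ∈ F.erase i, r j = 0 := fun j hj => mul_self_eq_zero.mp
      ((Finset.sum_eq_zero_iff_of_nonneg fun j _ => mul_self_nonneg (r j)).mp hz j hj)
    rw [← Finset.add_sum_erase _ _ hi, Finset.sum_eq_zero fun j hj => by rw [hzero j hj, zero_mul],
      add_zero] at hdeg
    rcases mul_eq_zero.mp hdeg with h' | h'
    · exact h.1 h'
    · exact (hx i hi).ne' h'
  refine ⟨?_, hb⟩
  have e : ∑ i ∈ F, r i * r i = ∑ i ∈ F, if r i ≠ 0 then (1 : ℤ) else 0 :=
    Finset.sum_congr rfl fun i hi => by rcases hb i hi with h | h | h <;> simp [h]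
  rw [e, Finset.sum_boole] at hsq
  exact_mod_cast hsq

open Classical in
/-- The rows of a block with dihedral defect groups. -/
theorem rows (F : Finset ι) (x : ι → ℤ) (hx : ∀ i ∈ F, 0 < x i) {H : ℕ}
    (hH : H = 2 ∨ H = 4 ∨ 8 ≤ H) (hE : Even H) (r : ℕ → ι → ℤ)
    (hdeg : ∀ j, 1 ≤ j → j ≤ H → ∑ i ∈ F, r j i * x i = 0)
    (hsq : ∀ j, 1 ≤ j → j < H → ∑ i ∈ F, r j i * r j i = 3)
    (hsqH : ∑ i ∈ F, r H i * r H i = 4)
    (hdot : ∀ j k, 1 ≤ j → j ≤ H → 1 ≤ k → k ≤ H → j ≠ k → ∑ i ∈ F, r j i * r k i = 2)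
    (supp : Finset ι) (hsupp : supp = F.filter fun i => ∃ j, 1 ≤ j ∧ j ≤ H ∧ r j i ≠ 0)
    (V : ι → ℤ) (hV : ∀ i ∈ F, V i = (∑ j ∈ Finset.Ico 1 H, 2 * (-1) ^ j * r j i) + r H i) :
    (supp.card = H + 3 ∧ (supp.filter fun i => V i = 1 ∨ V i = -1).card = 4 ∧
        ∀ i ∈ supp, V i = 1 ∨ V i = -1 ∨ V i = 2 ∨ V i = -2) ∨
      (H = 4 ∧ supp.card ≤ 5) := by
  have h1H : 1 < H := by omega
  obtain ⟨hcS, hvH⟩ := four_support F x hx (r H) (hdeg H h1H.le le_rfl) hsqH
  set S := F.filter fun i => r H i ≠ 0 with hS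
  have hSF : ∀ i ∈ S, i ∈ F ∧ (r H i = 1 ∨ r H i = -1) := fun i hi => by
    obtain ⟨h1, h2⟩ := Finset.mem_filter.mp hi
    exact ⟨h1, (hvH i h1).resolve_left h2⟩
  -- every other row is a pair inside `S` and one further entry
  have hex : ∀ j, ∃ P : Finset ι, ∃ t : Finset ι, 1 ≤ j → j < H →
      P ⊆ S ∧ P.card = 2 ∧ (∀ i ∈ P, r j i = r H i) ∧ t.card = 1 ∧ t ⊆ F ∧ Disjoint t S ∧
      (∀ i ∈ t, r j i = 1 ∨ r j i = -1) ∧ ∀ i ∈ F, i ∉ P → i ∉ t → r j i = 0 := by
    intro j
    by_cases hj : 1 ≤ j ∧ j < H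
    swap
    · exact ⟨∅, ∅, fun h1 h2 => absurd ⟨h1, h2⟩ hj⟩
    obtain ⟨hc3, hv⟩ := Blocks.DihStar.support_of_sq F (r j) (N := 3) (by norm_num)
      (by exact_mod_cast hsq j hj.1 hj.2)
    set T := F.filter fun i => r j i ≠ 0 with hT
    refine ⟨T.filter (· ∈ S), T.filter (· ∉ S), fun _ _ => ?_⟩
    have hsum : ∑ i ∈ T.filter (· ∈ S), r j i * r H i = 2 := by
      rw [← hdot j H hj.1 hj.2.le h1H.le le_rfl (by omega)]
      refine Finset.sum_subset (fun i hi => (Finset.mem_filter.mp (Finset.mem_filter.mp hi).1).1) ?_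
      intro i hi hn
      by_cases h1 : r j i = 0
      · rw [h1, zero_mul]
      by_cases h2 : r H i = 0
      · rw [h2, mul_zero]
      exact absurd (Finset.mem_filter.mpr ⟨Finset.mem_filter.mpr ⟨hi, h1⟩,
        Finset.mem_filter.mpr ⟨hi, h2⟩⟩) hn
    have hterm : ∀ i ∈ T.filter (· ∈ S), r j i * r H i = 1 ∨ r j i * r H i = -1 := by
      intro i hi
      obtain ⟨hiT, hiS⟩ := Finset.mem_filter.mp hi
      obtain ⟨hiF, hne⟩ := Finset.mem_filter.mp hiT
      rcases (hv i hiF).resolve_left hne with h | h <;> rcases (hSF i hiS).2 with h' | h' <;>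
        simp [h, h']
    have hle3 : (T.filter (· ∈ S)).card ≤ 3 := hc3 ▸ Finset.card_filter_le _ _
    have hpar : ∀ s : Finset ι, s ⊆ T.filter (· ∈ S) →
        ∃ k : ℤ, (s.card : ℤ) - ∑ i ∈ s, r j i * r H i = 2 * k ∧ 0 ≤ k := by
      intro s
      induction s using Finset.induction_on with
      | empty => exact fun _ => ⟨0, by simp, le_rfl⟩
      | @insert i s hi ih =>
        intro hs
        obtain ⟨k, hk, hk0⟩ := ih fun y hy => hs (Finset.mem_insert_of_mem hy)
        rw [Finset.card_insert_of_notMem hi, Finset.sum_insert hi]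
        rcases hterm i (hs (Finset.mem_insert_self i s)) with h | h
        · exact ⟨k, by rw [h]; push_cast; linarith, hk0⟩
        · exact ⟨k + 1, by rw [h]; push_cast; linarith, by omega⟩
    obtain ⟨k, hk, hk0⟩ := hpar _ subset_rfl
    rw [hsum] at hk
    have hc2 : (T.filter (· ∈ S)).card = 2 := by omega
    have hagree : ∀ i ∈ T.filter (· ∈ S), r j i = r H i := by
      intro i hi
      obtain ⟨hiT, hiS⟩ := Finset.mem_filter.mp hi
      rcases hterm i hi with h | h
      · exact Blocks.DihStar.eq_of_mul_one (hv i (Finset.mem_filter.mp hiT).1)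
          (hvH i (Finset.mem_filter.mp hiT).1) h
      · exfalso
        obtain ⟨k', hk', hk0'⟩ := hpar ((T.filter (· ∈ S)).erase i) (Finset.erase_subset _ _)
        rw [Finset.card_erase_of_mem hi, hc2, Finset.sum_erase_eq_sub hi, hsum, h] at hk'
        omega
    refine ⟨fun i hi => (Finset.mem_filter.mp hi).2, hc2, hagree, ?_,
      fun i hi => (Finset.mem_filter.mp (Finset.mem_filter.mp hi).1).1,
      Finset.disjoint_left.mpr fun i hi => (Finset.mem_filter.mp hi).2, fun i hi => ?_,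
      fun i hi hP ht => ?_⟩
    · have := Finset.card_filter_add_card_filter_not (s := T) (· ∈ S)
      omega
    · obtain ⟨h1, h2⟩ := Finset.mem_filter.mp (Finset.mem_filter.mp hi).1
      exact (hv i h1).resolve_left h2
    · by_contra h0
      have hiT : i ∈ T := Finset.mem_filter.mpr ⟨hi, h0⟩
      by_cases hiS : i ∈ S
      · exact hP (Finset.mem_filter.mpr ⟨hiT, hiS⟩)
      · exact ht (Finset.mem_filter.mpr ⟨hiT, hiS⟩)
  choose P t hPt using hex
  -- products of two rows
  have hprod : ∀ j k, 1 ≤ j → j < H → 1 ≤ k → k < H → j ≠ k →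
      (P j = P k ∧ t j ≠ t k) ∨ (P j ≠ P k ∧ t j = t k) := by
    intro j k hj hjH hk hkH hjk
    obtain ⟨hP, hPc, hPv, htc, htF, htS, htv, hz⟩ := hPt j hj hjH
    obtain ⟨hP', hPc', hPv', htc', htF', htS', htv', hz'⟩ := hPt k hk hkH
    obtain ⟨e, he⟩ := Finset.card_eq_one.mp htc
    obtain ⟨e', he'⟩ := Finset.card_eq_one.mp htc'
    have heF : e ∈ F := htF (he ▸ Finset.mem_singleton_self e)
    have heS : e ∉ S := fun h => Finset.disjoint_left.mp htS (he ▸ Finset.mem_singleton_self e) h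
    have heP : e ∉ P j := fun h => heS (hP h)
    have h2 := hdot j k hj hjH.le hk hkH.le hjk
    rw [← Finset.sum_subset (s₁ := insert e (P j))
      (Finset.insert_subset heF fun i hi => (hSF i (hP hi)).1) (fun i hi hn => by
        simp only [Finset.mem_insert, not_or] at hn
        rw [hz i hi hn.2 (by rw [he, Finset.mem_singleton]; exact hn.1), zero_mul]),
      Finset.sum_insert heP] at h2
    have hsum : ∑ i ∈ P j, r j i * r k i = ((P j ∩ P k).card : ℤ) := by
      rw [Finset.card_eq_sum_ones, Nat.cast_sum]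
      refine (Finset.sum_subset Finset.inter_subset_left fun i hi hn => ?_).symm.trans
        (Finset.sum_congr rfl fun i hi => ?_)
      · rw [hz' i (hSF i (hP hi)).1 (fun h => hn (Finset.mem_inter.mpr ⟨hi, h⟩))
          (fun h => Finset.disjoint_left.mp htS' h (hP hi)), mul_zero]
      · obtain ⟨h1, h1'⟩ := Finset.mem_inter.mp hi
        rw [hPv i h1, hPv' i h1']
        rcases (hSF i (hP h1)).2 with h | h <;> simp [h]
    rw [hsum] at h2
    have hcases : e = e' ∨ r k e = 0 := by
      by_cases h : e = e'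
      · exact Or.inl h
      · exact Or.inr (hz' e heF (fun h' => heS (hP' h')) (by rw [he', Finset.mem_singleton]; exact h))
    by_cases hPP : P j = P k
    · refine Or.inl ⟨hPP, fun htt => ?_⟩
      rw [hPP, Finset.inter_self, hPc'] at h2
      have hee : e = e' := Finset.singleton_injective (he.symm.trans (htt.trans he'))
      rcases htv e (he ▸ Finset.mem_singleton_self e) with h | h <;>
        rcases htv' e (htt ▸ (he ▸ Finset.mem_singleton_self e)) with h' | h' <;>
          simp [h, h'] at h2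
    · refine Or.inr ⟨hPP, ?_⟩
      rcases hcases with h | h
      · rw [he, he', h]
      · exfalso
        rw [h, mul_zero, zero_add] at h2
        have h2' : (P j ∩ P k).card = 2 := by exact_mod_cast h2
        have e1 : P j ∩ P k = P j :=
          Finset.eq_of_subset_of_card_le Finset.inter_subset_left (by omega)
        have e2 : P j ∩ P k = P k :=
          Finset.eq_of_subset_of_card_le Finset.inter_subset_right (by omega)
        exact hPP (e1.symm.trans e2)
  have hmem : ∀ i, i ∈ supp ↔ i ∈ S ∨ ∃ j, 1 ≤ j ∧ j < H ∧ i ∈ t j := by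
    intro i
    rw [hsupp, Finset.mem_filter]
    constructor
    · rintro ⟨hi, j, hj, hjH, hne⟩
      rcases lt_or_eq_of_le hjH with h | h
      · obtain ⟨hP, -, -, -, -, -, -, hz⟩ := hPt j hj h
        by_cases hiP : i ∈ P j
        · exact Or.inl (hP hiP)
        · exact Or.inr ⟨j, hj, h, by_contra fun ht => hne (hz i hi hiP ht)⟩
      · exact Or.inl (Finset.mem_filter.mpr ⟨hi, h ▸ hne⟩)
    · rintro (h | ⟨j, hj, hjH, ht⟩)
      · exact ⟨(Finset.mem_filter.mp h).1, H, h1H.le, le_rfl, (Finset.mem_filter.mp h).2⟩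
      · obtain ⟨-, -, -, -, htF, -, htv, -⟩ := hPt j hj hjH
        exact ⟨htF ht, j, hj, hjH.le, by rcases htv i ht with h | h <;> rw [h] <;> norm_num⟩
  by_cases hall : ∀ j, 1 ≤ j → j < H → P j = P 1
  · left
    have htdisj : ∀ j ∈ Finset.Ico 1 H, ∀ k ∈ Finset.Ico 1 H, j ≠ k → Disjoint (t j) (t k) := by
      intro j hj k hk hjk
      rw [Finset.mem_Ico] at hj hk
      rcases hprod j k hj.1 hj.2 hk.1 hk.2 hjk with ⟨-, h⟩ | ⟨h, -⟩
      · obtain ⟨e, he⟩ := Finset.card_eq_one.mp (hPt j hj.1 hj.2).2.2.2.1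
        obtain ⟨e', he'⟩ := Finset.card_eq_one.mp (hPt k hk.1 hk.2).2.2.2.1
        rw [he, he'] at h ⊢
        exact Finset.disjoint_singleton.mpr fun e0 => h (by rw [e0])
      · exact absurd ((hall j hj.1 hj.2).trans (hall k hk.1 hk.2).symm) h
    have hset : supp = S ∪ (Finset.Ico 1 H).biUnion t := by
      ext i
      simp only [Finset.mem_union, Finset.mem_biUnion, Finset.mem_Ico, hmem, and_assoc]
    have hdS : Disjoint S ((Finset.Ico 1 H).biUnion t) := Finset.disjoint_left.mpr fun i hiS hiT => by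
      obtain ⟨j, hj, hij⟩ := Finset.mem_biUnion.mp hiT
      rw [Finset.mem_Ico] at hj
      exact Finset.disjoint_left.mp (hPt j hj.1 hj.2).2.2.2.2.2.1 hij hiS
    have hne1 : (∑ j ∈ Finset.Ico 1 H, ((-1 : ℤ)) ^ j) = -1 := by
      have := neg_one_geom_sum (R := ℤ) (n := H)
      rw [if_pos hE, Finset.range_eq_Ico, Finset.sum_eq_sum_Ico_succ_bot (by omega : 0 < H)] at this
      simp only [pow_zero, zero_add] at this
      linarith
    have hV' : ∀ i ∈ supp, (i ∈ S → V i = 1 ∨ V i = -1) ∧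
        (i ∉ S → V i = 2 ∨ V i = -2) := by
      intro i hi
      have hiF : i ∈ F := by rw [hsupp] at hi; exact (Finset.mem_filter.mp hi).1
      refine ⟨fun hiS => ?_, fun hiS => ?_⟩
      · rw [hV i hiF]
        by_cases hiP : i ∈ P 1
        · rw [Finset.sum_congr rfl (g := fun j => 2 * r H i * (-1 : ℤ) ^ j) fun j hj => by
            rw [Finset.mem_Ico] at hj
            rw [(hPt j hj.1 hj.2).2.2.1 i ((hall j hj.1 hj.2).symm ▸ hiP)]; ring,
            ← Finset.mul_sum, hne1]
          rcases (hSF i hiS).2 with h | h <;> simp [h]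
        · rw [Finset.sum_eq_zero fun j hj => by
            rw [Finset.mem_Ico] at hj
            obtain ⟨-, -, -, -, -, htS, -, hz⟩ := hPt j hj.1 hj.2
            rw [hz i hiF (by rw [hall j hj.1 hj.2]; exact hiP)
              (fun h => Finset.disjoint_left.mp htS h hiS), mul_zero], zero_add]
          exact (hSF i hiS).2
      · obtain ⟨j, hj, hjH, hij⟩ := ((hmem i).mp hi).resolve_left hiS
        rw [hV i hiF, Finset.sum_eq_single_of_mem j (Finset.mem_Ico.mpr ⟨hj, hjH⟩) fun k hk hkj => by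
          rw [Finset.mem_Ico] at hk
          obtain ⟨hP, -, -, -, -, -, -, hz⟩ := hPt k hk.1 hk.2
          rw [hz i hiF (fun h => hiS (hP h)) (fun h => Finset.disjoint_left.mp
            (htdisj j (Finset.mem_Ico.mpr ⟨hj, hjH⟩) k (Finset.mem_Ico.mpr hk) hkj.symm) hij h),
            mul_zero],
          show r H i = 0 from by_contra fun h => hiS (Finset.mem_filter.mpr ⟨hiF, h⟩), add_zero]
        rcases (hPt j hj hjH).2.2.2.2.2.2.1 i hij with h | h <;>
          rcases neg_one_pow_eq_or ℤ j with h' | h' <;> simp [h, h']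
    refine ⟨?_, ?_, fun i hi => ?_⟩
    · rw [hset, Finset.card_union_of_disjoint hdS,
        Finset.card_biUnion fun j hj k hk hjk => htdisj j hj k hk hjk, hcS,
        Finset.sum_congr rfl fun j hj => (hPt j (Finset.mem_Ico.mp hj).1
          (Finset.mem_Ico.mp hj).2).2.2.2.1, Finset.sum_const, Nat.card_Ico, smul_eq_mul, mul_one]
      omega
    · rw [show supp.filter (fun i => V i = 1 ∨ V i = -1) = S from ?_, hcS]
      ext i
      rw [Finset.mem_filter]
      constructor
      · rintro ⟨hi, hv⟩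
        by_contra hiS
        rcases (hV' i hi).2 hiS with h | h <;> omega
      · exact fun hiS => ⟨(hmem i).mpr (Or.inl hiS), (hV' i ((hmem i).mpr (Or.inl hiS))).1 hiS⟩
    · by_cases hiS : i ∈ S
      · rcases (hV' i hi).1 hiS with h | h <;> simp [h]
      · rcases (hV' i hi).2 hiS with h | h <;> simp [h]
  · right
    push Not at hall
    obtain ⟨j₀, hj₀, hj₀H, hP₀⟩ := hall
    have hj1 : j₀ ≠ 1 := fun h => hP₀ (h ▸ rfl)
    have hte : t j₀ = t 1 := ((hprod j₀ 1 hj₀ hj₀H le_rfl h1H hj1).resolve_left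
      fun h => hP₀ h.1).2
    have hte' : ∀ l, 1 ≤ l → l < H → t l = t 1 := by
      intro l hl hlH
      by_contra hne
      have hl1 : l ≠ 1 := fun h => hne (h ▸ rfl)
      have hPl : P l = P 1 := ((hprod l 1 hl hlH le_rfl h1H hl1).resolve_right fun h => hne h.2).1
      have hlj : l ≠ j₀ := fun h => hne (h ▸ hte)
      rcases hprod l j₀ hl hlH hj₀ hj₀H hlj with ⟨h, -⟩ | ⟨-, h⟩
      · exact hP₀ (h.symm.trans hPl)
      · exact hne (h.trans hte)
    have hPinj : Set.InjOn P (Finset.Ico 1 H : Finset ℕ) := by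
      intro j hj k hk he
      simp only [Finset.coe_Ico, Set.mem_Ico] at hj hk
      by_contra hne
      rcases hprod j k hj.1 hj.2 hk.1 hk.2 hne with ⟨-, h⟩ | ⟨h, -⟩
      · exact h ((hte' j hj.1 hj.2).trans (hte' k hk.1 hk.2).symm)
      · exact h he
    have h6 : H - 1 ≤ 6 := by
      have := Finset.card_le_card_of_injOn P (s := Finset.Ico 1 H) (t := S.powersetCard 2)
        (fun j hj => by
          simp only [Finset.coe_Ico, Set.mem_Ico] at hj
          exact Finset.mem_coe.mpr (Finset.mem_powersetCard.mpr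
            ⟨(hPt j hj.1 hj.2).1, (hPt j hj.1 hj.2).2.1⟩)) hPinj
      rw [Nat.card_Ico, Finset.card_powersetCard, hcS] at this
      exact this.trans (by decide)
    refine ⟨by omega, ?_⟩
    have hsub : supp ⊆ S ∪ t 1 := fun i hi => by
      rcases (hmem i).mp hi with h | ⟨j, hj, hjH, h⟩
      · exact Finset.mem_union_left _ h
      · exact Finset.mem_union_right _ (hte' j hj hjH ▸ h)
    refine (Finset.card_le_card hsub).trans ((Finset.card_union_le _ _).trans ?_)
    rw [hcS, (hPt 1 le_rfl h1H).2.2.2.1]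

end Cfsg.Agent.DihBlock
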