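import Mathlib.Algebra.Algebra.Operations
import Mathlib.Algebra.CharP.Two
import Mathlib.FieldTheory.IsAlgClosed.Basic
import Mathlib.LinearAlgebra.Dual.Lemmas
import Mathlib.LinearAlgebra.Dimension.Constructions

/-!
# Local symmetric algebras with five independent traces and two independent squares

In characteristic two such an algebra has dimension less than sixteen.
-/

set_option autoImplicit false
set_option linter.unusedSectionVars false
set_option linter.style.haveILetI false

namespace Cfsg.Agent.DihBlock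

open Module

universe u v

variable {K : Type u} [Field K] {R : Type v} [Ring R] [Algebra K R] [FiniteDimensional K R]

theorem finrank_le_sup_span (X : Submodule K R) (w : R) :
    finrank K (X ⊔ Submodule.span K {w} : Submodule K R) ≤ finrank K X + 1 := by
  refine (Submodule.finrank_add_le_finrank_add_finrank _ _).trans (Nat.add_le_add_left ?_ _)
  refine (finrank_span_le_card ({w} : Set R)).trans ?_
  simp

/-- A corner `A = K f + J`. -/
structure Corner5 (K : Type u) [Field K] (R : Type v) [Ring R] [Algebra K R] where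
  f : R
  A : Submodule K R
  J : Submodule K R
  N : ℕ
  τ : R →ₗ[K] K
  hfA : f ∈ A
  hJA : J ≤ A
  hA : ∀ x ∈ A, ∃ a : K, x - a • f ∈ J
  hfx : ∀ x ∈ A, f * x = x ∧ x * f = x
  hJJ : J * J ≤ J
  hJnil : J ^ (N + 1) = ⊥
  hτ : ∀ x y, τ (x * y) = τ (y * x)
  hnd : ∀ x ∈ A, (∀ y ∈ A, τ (x * y) = 0) → x = 0
  hfun : ∀ C : Submodule K R, C ≤ A → (∀ x ∈ A, ∀ y ∈ A, x * y - y * x ∈ C) →
    finrank K A ≤ finrank K C + 5

namespace Corner5

variable (S : Corner5 K R)

/-- The commutators. -/
def C : Submodule K R := Submodule.span K {z | ∃ x ∈ S.J, ∃ y ∈ S.J, z = x * y - y * x}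

theorem C_le : S.C ≤ S.J ^ 2 := by
  rw [C, Submodule.span_le, pow_two]
  rintro _ ⟨x, hx, y, hy, rfl⟩
  exact sub_mem (Submodule.mul_mem_mul hx hy) (Submodule.mul_mem_mul hy hx)

theorem mem_C {x y : R} (hx : x ∈ S.J) (hy : y ∈ S.J) : x * y - y * x ∈ S.C :=
  Submodule.subset_span ⟨x, hx, y, hy, rfl⟩

theorem pow_le {l l' : ℕ} (hl : 1 ≤ l) (h : l ≤ l') : S.J ^ l' ≤ S.J ^ l := by
  induction l', h using Nat.le_induction with
  | base => exact le_rfl
  | succ m hm ih =>
    refine le_trans ?_ ih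
    obtain ⟨r, rfl⟩ : ∃ r, m = r + 1 := ⟨m - 1, by omega⟩
    rw [pow_succ' S.J (r + 1)]
    rcases Nat.eq_zero_or_pos r with rfl | hr
    · simpa using S.hJJ
    · rw [pow_succ' S.J r, ← mul_assoc]
      exact mul_le_mul_left S.hJJ _

theorem pow_le_A {l : ℕ} (hl : 1 ≤ l) : S.J ^ l ≤ S.A :=
  ((S.pow_le le_rfl hl).trans (le_of_eq (pow_one _))).trans S.hJA

theorem pow_bot {l : ℕ} (hl : S.N + 1 ≤ l) : S.J ^ l = ⊥ :=
  le_bot_iff.mp ((S.pow_le (by omega) hl).trans S.hJnil.le)

theorem comm_mem {x y : R} (hx : x ∈ S.A) (hy : y ∈ S.A) : x * y - y * x ∈ S.C := by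
  obtain ⟨α, hα⟩ := S.hA x hx
  obtain ⟨β, hβ⟩ := S.hA y hy
  have hff : S.f * S.f = S.f := (S.hfx _ S.hfA).1
  have : x * y - y * x =
      (x - α • S.f) * (y - β • S.f) - (y - β • S.f) * (x - α • S.f) := by
    simp only [sub_mul, mul_sub, smul_mul_assoc, mul_smul_comm, hff, (S.hfx x hx).1, (S.hfx x hx).2,
      (S.hfx y hy).1, (S.hfx y hy).2, smul_sub, smul_smul, mul_comm β α]
    abel
  rw [this]
  exact S.mem_C hα hβ

theorem τ_C {z : R} (hz : z ∈ S.C) : S.τ z = 0 := by
  induction hz using Submodule.span_induction with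
  | mem z hz => obtain ⟨x, -, y, -, rfl⟩ := hz; rw [map_sub, S.hτ, sub_self]
  | zero => exact map_zero _
  | add a b _ _ ha hb => rw [map_add, ha, hb, add_zero]
  | smul r a _ ha => rw [map_smul, ha, smul_zero]

theorem finrank_A : finrank K S.A ≤ finrank K S.J + 1 := by
  refine le_trans (Submodule.finrank_mono fun x hx => ?_) (finrank_le_sup_span S.J S.f)
  obtain ⟨a, ha⟩ := S.hA x hx
  rw [← sub_add_cancel x (a • S.f)]
  exact add_mem (Submodule.mem_sup_left ha)
    (Submodule.mem_sup_right (Submodule.smul_mem _ _ (Submodule.mem_span_singleton_self _)))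

theorem finrank_A_C : finrank K S.A ≤ finrank K S.C + 5 :=
  S.hfun S.C (S.C_le.trans (S.pow_le_A (by norm_num))) fun _ hx _ hy => S.comm_mem hx hy

theorem finrank_central (Z : Submodule K R) (hZA : Z ≤ S.A)
    (hZ : ∀ z ∈ Z, ∀ a ∈ S.A, z * a = a * z) : finrank K Z ≤ 5 := by
  classical
  set C' : Submodule K S.A := S.C.comap S.A.subtype
  have hCA : S.C ≤ S.A := S.C_le.trans (S.pow_le_A (by norm_num))
  let L : Z →ₗ[K] Module.Dual K S.A :=
    { toFun := fun z => (S.τ.comp (LinearMap.mulLeft K (z : R))).comp S.A.subtype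
      map_add' := fun a b => LinearMap.ext fun x => by simp [add_mul]
      map_smul' := fun r a => LinearMap.ext fun x => by simp }
  have hLmem : ∀ z, L z ∈ C'.dualAnnihilator := by
    intro z
    refine (Submodule.mem_dualAnnihilator _).mpr fun x hx => ?_
    show S.τ ((z : R) * (x : R)) = 0
    obtain ⟨x, hxA⟩ := x
    have hx' : x ∈ S.C := hx
    simp only
    clear hx hxA
    induction hx' using Submodule.span_induction with
    | mem w hw =>
      obtain ⟨a, ha, b, hb, rfl⟩ := hw
      have h1 : S.τ ((z : R) * (b * a)) = S.τ ((z : R) * (a * b)) := by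
        rw [← mul_assoc, ← mul_assoc, hZ _ z.2 b (S.hJA hb), mul_assoc, S.hτ, mul_assoc]
      rw [mul_sub, map_sub, h1, sub_self]
    | zero => simp
    | add a b _ _ ha hb => rw [mul_add, map_add, ha, hb, add_zero]
    | smul r a _ ha => rw [mul_smul_comm, map_smul, ha, smul_zero]
  have hinj : Function.Injective L := fun a b h => by
    refine Subtype.ext (sub_eq_zero.mp (S.hnd _ (sub_mem (hZA a.2) (hZA b.2)) fun y hy => ?_))
    have := LinearMap.congr_fun h ⟨y, hy⟩
    simp only [L, LinearMap.coe_mk, AddHom.coe_mk, LinearMap.comp_apply, Submodule.coe_subtype,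
      LinearMap.mulLeft_apply] at this
    rw [sub_mul, map_sub, this, sub_self]
  have h1 := (LinearEquiv.ofInjective L hinj).finrank_eq.trans_le
    (Submodule.finrank_mono (t := C'.dualAnnihilator) (by rintro _ ⟨z, rfl⟩; exact hLmem z))
  have h3 := Subspace.finrank_add_finrank_dualAnnihilator_eq C'
  have h4 : finrank K C' = finrank K S.C := (Submodule.comapSubtypeEquivOfLe hCA).finrank_eq
  have h5 := S.finrank_A_C
  omega

/-- A layer of dimension at most one makes the algebra small. -/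
theorem tail {n : ℕ} (hn : 1 ≤ n) {w : R}
    (h : S.J ^ n ≤ Submodule.span K {w} ⊔ S.J ^ (n + 1)) :
    finrank K (S.J ^ n : Submodule K R) ≤ n + 5 := by
  classical
  -- the layer is spanned by one product
  obtain ⟨u, hu, v, hv, huv⟩ : ∃ u, u ∈ (if n = 1 then Submodule.span K {S.f} else S.J ^ (n - 1)) ∧
      ∃ v ∈ S.J, S.J ^ n ≤ Submodule.span K {u * v} ⊔ S.J ^ (n + 1) := by
    by_cases hall : S.J ^ n ≤ S.J ^ (n + 1)
    · exact ⟨0, zero_mem _, 0, zero_mem _, hall.trans le_sup_right⟩
    have key : ∀ g ∈ S.J ^ n, g ∉ S.J ^ (n + 1) →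
        S.J ^ n ≤ Submodule.span K {g} ⊔ S.J ^ (n + 1) := by
      intro g hg hg'
      refine h.trans (sup_le ?_ le_sup_right)
      obtain ⟨s, hs, j, hj, e⟩ := Submodule.mem_sup.mp (h hg)
      obtain ⟨r, rfl⟩ := Submodule.mem_span_singleton.mp hs
      have hr : r ≠ 0 := by rintro rfl; exact hg' (by rw [← e, zero_smul, zero_add]; exact hj)
      rw [Submodule.span_singleton_le_iff_mem, show w = r⁻¹ • g - r⁻¹ • j by
        rw [← smul_sub, ← e, add_sub_cancel_right, smul_smul, inv_mul_cancel₀ hr, one_smul]]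
      exact sub_mem (Submodule.mem_sup_left (Submodule.smul_mem _ _
        (Submodule.mem_span_singleton_self g))) (Submodule.mem_sup_right (Submodule.smul_mem _ _ hj))
    by_cases h1 : n = 1
    · subst h1
      obtain ⟨g, hg, hg'⟩ := SetLike.not_le_iff_exists.mp hall
      refine ⟨S.f, by rw [if_pos rfl]; exact Submodule.mem_span_singleton_self _, g,
        by simpa using hg, ?_⟩
      rw [(S.hfx g (S.hJA (by simpa using hg))).1]
      exact key g hg hg'
    · rw [if_neg h1]
      by_contra hcon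
      push Not at hcon
      refine hall ?_
      have e : S.J ^ n = S.J ^ (n - 1) * S.J := by rw [← pow_succ]; congr 1; omega
      rw [e, Submodule.mul_le]
      intro u hu v hv
      by_contra huv
      exact hcon u hu v hv (key _ (e ▸ Submodule.mul_mem_mul hu hv) huv)
  have hJu : ∀ x ∈ S.J, x * u ∈ S.J ^ n := by
    intro x hx
    by_cases h1 : n = 1
    · rw [if_pos h1] at hu
      obtain ⟨r, rfl⟩ := Submodule.mem_span_singleton.mp hu
      rw [h1, pow_one, mul_smul_comm, (S.hfx x (S.hJA hx)).2]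
      exact Submodule.smul_mem _ _ hx
    · rw [if_neg h1] at hu
      rw [show n = (n - 1) + 1 by omega, pow_succ' S.J (n - 1)]
      exact Submodule.mul_mem_mul hx hu
  -- every later layer is spanned by right multiples
  have hlayer : ∀ i, S.J ^ (n + i) ≤ Submodule.span K {u * v ^ (i + 1)} ⊔ S.J ^ (n + i + 1) := by
    intro i
    induction i with
    | zero => simpa using huv
    | succ i ih =>
      rw [show n + (i + 1) = (n + i) + 1 by omega, pow_succ' S.J (n + i), Submodule.mul_le]
      intro x hx y hy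
      obtain ⟨s, hs, j, hj, rfl⟩ := Submodule.mem_sup.mp (ih hy)
      obtain ⟨r, rfl⟩ := Submodule.mem_span_singleton.mp hs
      rw [mul_add]
      refine add_mem ?_ (Submodule.mem_sup_right ?_)
      · rw [mul_smul_comm, ← mul_assoc]
        refine Submodule.smul_mem _ _ ?_
        obtain ⟨s', hs', j', hj', e⟩ := Submodule.mem_sup.mp (huv (hJu x hx))
        obtain ⟨r', rfl⟩ := Submodule.mem_span_singleton.mp hs'
        rw [← e, add_mul, smul_mul_assoc, mul_assoc u, ← pow_succ']
        refine add_mem (Submodule.mem_sup_left (Submodule.smul_mem _ _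
          (Submodule.mem_span_singleton_self _))) (Submodule.mem_sup_right ?_)
        rw [show n + i + 1 + 1 = (n + 1) + (i + 1) by omega, pow_add]
        exact Submodule.mul_mem_mul hj' (Submodule.pow_mem_pow S.J hv _)
      · rw [pow_succ' S.J (n + i + 1)]
        exact Submodule.mul_mem_mul hx hj
  have hchain : ∀ i, finrank K (S.J ^ n : Submodule K R) ≤
      finrank K (S.J ^ (n + i) : Submodule K R) + i := by
    intro i
    induction i with
    | zero => simp
    | succ i ih =>
      have h1 : finrank K (S.J ^ (n + i) : Submodule K R) ≤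
          finrank K (S.J ^ (n + i + 1) : Submodule K R) + 1 := by
        refine (Submodule.finrank_mono (hlayer i)).trans ?_
        rw [sup_comm]
        exact finrank_le_sup_span _ _
      rw [show n + (i + 1) = n + i + 1 by omega]
      omega
  by_cases hvn : v ^ n ∈ S.J ^ (n + 1)
  · -- the layer 2n vanishes
    have h2 : S.J ^ (n + n) ≤ S.J ^ (n + n + 1) := by
      refine (hlayer n).trans (sup_le ?_ le_rfl)
      rw [Submodule.span_singleton_le_iff_mem, pow_succ' v n, ← mul_assoc]
      have h3 : u * v ∈ S.J ^ n := by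
        by_cases h1 : n = 1
        · rw [if_pos h1] at hu
          obtain ⟨r, rfl⟩ := Submodule.mem_span_singleton.mp hu
          rw [h1, pow_one, smul_mul_assoc, (S.hfx v (S.hJA hv)).1]
          exact Submodule.smul_mem _ _ hv
        · rw [if_neg h1] at hu
          rw [show n = (n - 1) + 1 by omega, pow_succ S.J (n - 1)]
          exact Submodule.mul_mem_mul hu hv
      rw [show n + n + 1 = n + (n + 1) by omega, pow_add S.J n (n + 1)]
      exact Submodule.mul_mem_mul h3 hvn
    have h4 : S.J ^ (n + n) = ⊥ := by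
      have : ∀ i, S.J ^ (n + n) ≤ S.J ^ (n + n + i) := fun i => by
        induction i with
        | zero => exact le_rfl
        | succ i ih =>
          refine h2.trans ?_
          rw [pow_succ' S.J (n + n), show n + n + (i + 1) = (n + n + i) + 1 by omega,
            pow_succ' S.J (n + n + i)]
          exact mul_le_mul_right ih _
      exact le_bot_iff.mp ((this (S.N + 1)).trans (S.pow_bot (by omega)).le)
    have h5 : finrank K (S.J ^ (n + n) : Submodule K R) = 0 := by rw [h4]; exact finrank_bot K R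
    have := hchain n
    omega
  · -- the powers of `v` span
    have hbase : S.J ^ n ≤ Submodule.span K {v ^ n} ⊔ S.J ^ (n + 1) := by
      obtain ⟨s, hs, j, hj, e⟩ := Submodule.mem_sup.mp (huv (Submodule.pow_mem_pow S.J hv n))
      obtain ⟨r, rfl⟩ := Submodule.mem_span_singleton.mp hs
      have hr : r ≠ 0 := by rintro rfl; exact hvn (by rw [← e, zero_smul, zero_add]; exact hj)
      refine huv.trans (sup_le ?_ le_sup_right)
      rw [Submodule.span_singleton_le_iff_mem, show u * v = r⁻¹ • v ^ n - r⁻¹ • j by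
        rw [← smul_sub, ← e, add_sub_cancel_right, smul_smul, inv_mul_cancel₀ hr, one_smul]]
      exact sub_mem (Submodule.mem_sup_left (Submodule.smul_mem _ _
        (Submodule.mem_span_singleton_self _))) (Submodule.mem_sup_right (Submodule.smul_mem _ _ hj))
    have hpl : ∀ i, S.J ^ (n + i) ≤ Submodule.span K {v ^ (n + i)} ⊔ S.J ^ (n + i + 1) := by
      intro i
      induction i with
      | zero => simpa using hbase
      | succ i ih =>
        -- a right multiple of the previous layer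
        have hstep : S.J ^ (n + i + 1) ≤
            Submodule.span K {v ^ (n + i + 1)} ⊔ S.J ^ (n + i + 2) := by
          obtain ⟨s, hs, j, hj, e⟩ := Submodule.mem_sup.mp (ih (show u * v ^ (i + 1) ∈ S.J ^ (n + i) by
            rw [pow_succ', ← mul_assoc, pow_add]
            refine Submodule.mul_mem_mul ?_ (Submodule.pow_mem_pow S.J hv i)
            by_cases h1 : n = 1
            · rw [if_pos h1] at hu
              obtain ⟨r, rfl⟩ := Submodule.mem_span_singleton.mp hu
              rw [h1, pow_one, smul_mul_assoc, (S.hfx v (S.hJA hv)).1]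
              exact Submodule.smul_mem _ _ hv
            · rw [if_neg h1] at hu
              rw [show n = (n - 1) + 1 by omega, pow_succ S.J (n - 1)]
              exact Submodule.mul_mem_mul hu hv))
          obtain ⟨r, rfl⟩ := Submodule.mem_span_singleton.mp hs
          have h6 := hlayer (i + 1)
          rw [show n + (i + 1) = n + i + 1 by omega] at h6
          refine h6.trans (sup_le ?_ le_sup_right)
          rw [Submodule.span_singleton_le_iff_mem, pow_succ v (i + 1), ← mul_assoc u, ← e, add_mul,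
            smul_mul_assoc, ← pow_succ]
          refine add_mem (Submodule.mem_sup_left (Submodule.smul_mem _ _
            (Submodule.mem_span_singleton_self _))) (Submodule.mem_sup_right ?_)
          rw [show n + i + 2 = n + i + 1 + 1 by omega, pow_succ S.J (n + i + 1)]
          exact Submodule.mul_mem_mul hj hv
        simpa [show n + (i + 1) = n + i + 1 by omega] using hstep
    obtain ⟨P, hP⟩ : ∃ P : Submodule K R, P = Submodule.span K (Set.range fun i : ℕ => v ^ i) :=
      ⟨_, rfl⟩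
    have hJP : ∀ k i, S.N + 1 ≤ n + i + k → S.J ^ (n + i) ≤ P := by
      intro k
      induction k with
      | zero => intro i hi; rw [S.pow_bot (by omega)]; exact bot_le
      | succ k ih =>
        intro i hi
        refine (hpl i).trans (sup_le ?_ (by simpa [add_assoc] using ih (i + 1) (by omega)))
        rw [Submodule.span_singleton_le_iff_mem, hP]
        exact Submodule.subset_span ⟨n + i, rfl⟩
    have hnP : S.J ^ n ≤ P := by simpa using hJP (S.N + 1) 0 (by omega)
    have hPc : ∀ x ∈ P, ∀ y ∈ P, x * y = y * x := by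
      intro x hx y hy
      rw [hP] at hx hy
      induction hx, hy using Submodule.span_induction₂ with
      | mem_mem x y hx hy =>
        obtain ⟨a, rfl⟩ := hx
        obtain ⟨b, rfl⟩ := hy
        exact (Commute.pow_pow_self v _ _).eq
      | zero_left => simp
      | zero_right => simp
      | add_left _ _ _ _ _ _ h h' => simp [add_mul, mul_add, h, h']
      | add_right _ _ _ _ _ _ h h' => simp [add_mul, mul_add, h, h']
      | smul_left r _ _ _ _ h => simp [h]
      | smul_right r _ _ _ _ h => simp [h]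
    have hcen : ∀ z ∈ S.J ^ (n + n), ∀ a ∈ S.A, z * a = a * z := by
      intro z hz a ha
      have hmul : ∀ g ∈ S.J ^ n, a * g ∈ S.J ^ n ∧ g * a ∈ S.J ^ n := by
        intro g hg
        obtain ⟨r, hr⟩ := S.hA a ha
        have hgA : g ∈ S.A := S.pow_le_A hn hg
        constructor
        · rw [← sub_add_cancel a (r • S.f), add_mul, smul_mul_assoc, (S.hfx g hgA).1]
          refine add_mem (S.pow_le hn (Nat.le_succ n) ?_) (Submodule.smul_mem _ _ hg)
          rw [pow_succ']
          exact Submodule.mul_mem_mul hr hg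
        · rw [← sub_add_cancel a (r • S.f), mul_add, mul_smul_comm, (S.hfx g hgA).2]
          refine add_mem (S.pow_le hn (Nat.le_succ n) ?_) (Submodule.smul_mem _ _ hg)
          rw [pow_succ]
          exact Submodule.mul_mem_mul hg hr
      rw [pow_add] at hz
      induction hz using Submodule.mul_induction_on' with
      | mem_mul_mem p hp q hq =>
        have e1 := hPc _ (hnP (hmul p hp).1) _ (hnP hq)
        have e2 := hPc _ (hnP (hmul q hq).2) _ (hnP hp)
        symm
        calc a * (p * q) = q * (a * p) := by rw [← mul_assoc]; exact e1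
          _ = q * a * p := (mul_assoc _ _ _).symm
          _ = p * (q * a) := e2
          _ = p * q * a := (mul_assoc _ _ _).symm
      | add x _ y _ hx hy => rw [add_mul, mul_add, hx, hy]
    have := S.finrank_central _ (S.pow_le_A (by omega)) hcen
    have := hchain n
    omega

/-- The dimension is less than sixteen. -/
theorem finrank_lt [IsAlgClosed K] (h2 : (2 : K) = 0) {q₁ q₂ : R} (hq₁ : q₁ ∈ S.J) (hq₂ : q₂ ∈ S.J)
    (hind : ∀ α β : K, α • (q₁ * q₁) + β • (q₂ * q₂) ∈ S.C → α = 0 ∧ β = 0) :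
    finrank K S.A < 16 := by
  classical
  by_contra hbig
  push Not at hbig
  haveI : CharP K 2 := CharTwo.of_one_ne_zero_of_two_eq_zero one_ne_zero h2
  have hsub : ∀ r s : R, r - s = r + s := fun r s => by
    have h : s + s = 0 := by rw [← two_smul K s, h2, zero_smul]
    rw [sub_eq_add_neg, neg_eq_of_add_eq_zero_left h]
  have hdbl : ∀ s : R, s + s = 0 := fun s => by rw [← two_smul K s, h2, zero_smul]
  have hA1 := S.finrank_A
  have hA2 := S.finrank_A_C
  have hsq : ∀ x ∈ S.J, x * x ∈ S.J ^ 2 := fun x hx => by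
    rw [pow_two]; exact Submodule.mul_mem_mul hx hx
  -- the second power modulo commutators
  obtain ⟨C2, hC2⟩ : ∃ C2 : Submodule K R,
      C2 = S.C ⊔ Submodule.span K {q₁ * q₁} ⊔ Submodule.span K {q₂ * q₂} := ⟨_, rfl⟩
  have hC2le : C2 ≤ S.J ^ 2 := hC2 ▸ sup_le (sup_le S.C_le
    ((Submodule.span_singleton_le_iff_mem _ _).mpr (hsq q₁ hq₁)))
      ((Submodule.span_singleton_le_iff_mem _ _).mpr (hsq q₂ hq₂))
  have hd2 : finrank K S.C + 2 ≤ finrank K C2 := by
    have h1 : S.C < S.C ⊔ Submodule.span K {q₁ * q₁} := lt_of_le_of_ne le_sup_left fun h =>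
      one_ne_zero (hind 1 0 (by
        rw [one_smul, zero_smul, add_zero, h]
        exact Submodule.mem_sup_right (Submodule.mem_span_singleton_self _))).1
    have h2' : S.C ⊔ Submodule.span K {q₁ * q₁} < C2 := by
      refine lt_of_le_of_ne (hC2 ▸ le_sup_left) fun h => ?_
      have hm : q₂ * q₂ ∈ S.C ⊔ Submodule.span K {q₁ * q₁} := by
        rw [h, hC2]
        exact Submodule.mem_sup_right (Submodule.mem_span_singleton_self _)
      obtain ⟨c, hc, _, hs, e⟩ := Submodule.mem_sup.mp hm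
      obtain ⟨r, rfl⟩ := Submodule.mem_span_singleton.mp hs
      refine one_ne_zero (hind r 1 ?_).2
      rw [one_smul, ← e, show r • (q₁ * q₁) + (c + r • (q₁ * q₁)) =
        c + (r • (q₁ * q₁) + r • (q₁ * q₁)) by abel, hdbl, add_zero]
      exact hc
    have := Submodule.finrank_lt_finrank_of_lt h1
    have := Submodule.finrank_lt_finrank_of_lt h2'
    omega
  have hd22 := Submodule.finrank_mono hC2le
  have hfin : finrank K S.J + 1 ≤ finrank K S.A := by
    refine Submodule.finrank_lt_finrank_of_lt (lt_of_le_of_ne S.hJA fun he => ?_)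
    have hf : S.f ∈ S.J := he ▸ S.hfA
    have : ∀ k : ℕ, S.f ∈ S.J ^ (k + 1) := fun k => by
      induction k with
      | zero => rwa [pow_one]
      | succ k ih =>
        rw [pow_succ', ← (S.hfx _ S.hfA).1]
        exact Submodule.mul_mem_mul hf ih
    have hf0 : S.f = 0 := by
      have := this S.N
      rwa [S.hJnil, Submodule.mem_bot] at this
    have hz : S.A = ⊥ := (Submodule.eq_bot_iff _).mpr fun x hx => by
      rw [← (S.hfx x hx).1, hf0, zero_mul]
    rw [hz, finrank_bot] at hbig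
    omega
  -- two generators
  obtain ⟨x₁, hx₁, x₂, hx₂, hgen⟩ : ∃ x₁ ∈ S.J, ∃ x₂ ∈ S.J,
      S.J = S.J ^ 2 ⊔ Submodule.span K {x₁} ⊔ Submodule.span K {x₂} := by
    have h2J : S.J ^ 2 ≤ S.J := by rw [pow_two]; exact S.hJJ
    have ext : ∀ (X : Submodule K R), X ≤ S.J → ∃ x ∈ S.J,
        X ⊔ Submodule.span K {x} = S.J ∨
          finrank K X < finrank K (X ⊔ Submodule.span K {x} : Submodule K R) := by
      intro X hX
      by_cases he : X = S.J
      · exact ⟨0, zero_mem _, Or.inl (by rw [Submodule.span_singleton_eq_bot.mpr rfl, sup_bot_eq, he])⟩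
      · obtain ⟨x, hx, hxn⟩ := SetLike.exists_of_lt (lt_of_le_of_ne hX he)
        exact ⟨x, hx, Or.inr (Submodule.finrank_lt_finrank_of_lt (lt_of_le_of_ne le_sup_left
          fun h => hxn (h ▸ Submodule.mem_sup_right (Submodule.mem_span_singleton_self x))))⟩
    have hle : ∀ x ∈ S.J, S.J ^ 2 ⊔ Submodule.span K {x} ≤ S.J := fun x hx =>
      sup_le h2J ((Submodule.span_singleton_le_iff_mem _ _).mpr hx)
    obtain ⟨x₁, hx₁, hc₁⟩ := ext _ h2J
    obtain ⟨x₂, hx₂, hc₂⟩ := ext _ (hle x₁ hx₁)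
    refine ⟨x₁, hx₁, x₂, hx₂, ?_⟩
    have hle2 : S.J ^ 2 ⊔ Submodule.span K {x₁} ⊔ Submodule.span K {x₂} ≤ S.J :=
      sup_le (hle x₁ hx₁) ((Submodule.span_singleton_le_iff_mem _ _).mpr hx₂)
    rcases hc₂ with h | h
    · exact h.symm
    rcases hc₁ with h' | h'
    · exact le_antisymm (h'.symm.le.trans le_sup_left) hle2
    refine (Submodule.eq_of_le_of_finrank_le hle2 ?_).symm
    omega
  have hJ1 : finrank K S.J ≤ finrank K (S.J ^ 2 : Submodule K R) + 2 := by
    have h1 := finrank_le_sup_span (S.J ^ 2) x₁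
    have h2' := finrank_le_sup_span (S.J ^ 2 ⊔ Submodule.span K {x₁}) x₂
    rw [← hgen] at h2'
    omega
  -- with a single generator the tail is short
  have hone : ∀ x ∈ S.J, ¬ S.J ≤ S.J ^ 2 ⊔ Submodule.span K {x} := fun x hx h => by
    have := S.tail (n := 1) le_rfl (w := x) (by rw [pow_one, sup_comm]; exact h)
    rw [pow_one] at this
    omega
  have hJdim : finrank K (S.J ^ 2 : Submodule K R) + 2 ≤ finrank K S.J := by
    by_contra hlt
    push Not at hlt
    by_cases he : x₁ ∈ S.J ^ 2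
    · exact hone x₂ hx₂ (hgen.le.trans (by rw [sup_eq_left.mpr
        ((Submodule.span_singleton_le_iff_mem _ _).mpr he)]))
    · have h1 : S.J ^ 2 < S.J ^ 2 ⊔ Submodule.span K {x₁} := lt_of_le_of_ne le_sup_left fun h =>
        he (h ▸ Submodule.mem_sup_right (Submodule.mem_span_singleton_self _))
      have := Submodule.finrank_lt_finrank_of_lt h1
      have hle : S.J ^ 2 ⊔ Submodule.span K {x₁} ≤ S.J := sup_le (by rw [pow_two]; exact S.hJJ)
        ((Submodule.span_singleton_le_iff_mem _ _).mpr hx₁)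
      exact hone x₁ hx₁ (Submodule.eq_of_le_of_finrank_le hle (by omega)).ge
  have hJ2eq : C2 = S.J ^ 2 := Submodule.eq_of_le_of_finrank_le hC2le (by omega)
  -- the commutator of the generators
  have hdec : ∀ z ∈ S.J, ∀ a b : R, S.J = S.J ^ 2 ⊔ Submodule.span K {a} ⊔ Submodule.span K {b} →
      ∃ j ∈ S.J ^ 2, ∃ α β : K, z = j + α • a + β • b := by
    intro z hz a b hg
    rw [hg] at hz
    obtain ⟨w, hw, _, hy', rfl⟩ := Submodule.mem_sup.mp hz
    obtain ⟨j, hj, _, hx', rfl⟩ := Submodule.mem_sup.mp hw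
    obtain ⟨α, rfl⟩ := Submodule.mem_span_singleton.mp hx'
    obtain ⟨β, rfl⟩ := Submodule.mem_span_singleton.mp hy'
    exact ⟨j, hj, α, β, rfl⟩
  have hmul : ∀ {i j : ℕ} {r s : R}, r ∈ S.J ^ i → s ∈ S.J ^ j → r * s ∈ S.J ^ (i + j) :=
    fun {i j r s} hr hs => by rw [pow_add]; exact Submodule.mul_mem_mul hr hs
  have h1 : ∀ {r : R}, r ∈ S.J → r ∈ S.J ^ 1 := fun {r} h => by rwa [pow_one]
  have hJ23 : S.J ^ 3 ≤ S.J ^ 2 := S.pow_le (by norm_num) (by norm_num)
  have hJ34 : S.J ^ 4 ≤ S.J ^ 3 := S.pow_le (by norm_num) (by norm_num)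
  obtain ⟨c₀, hc₀⟩ : ∃ c, c = x₁ * x₂ - x₂ * x₁ := ⟨_, rfl⟩
  have hCc₀ : S.C ≤ Submodule.span K {c₀} ⊔ S.J ^ 3 := by
    rw [C, Submodule.span_le]
    rintro _ ⟨a, ha, b, hb, rfl⟩
    obtain ⟨j, hj, α, β, rfl⟩ := hdec a ha x₁ x₂ hgen
    obtain ⟨j', hj', α', β', rfl⟩ := hdec b hb x₁ x₂ hgen
    refine Submodule.mem_sup.mpr ⟨(α * β' - β * α') • c₀, Submodule.smul_mem _ _
      (Submodule.mem_span_singleton_self c₀),
      (j * (j' + α' • x₁ + β' • x₂) - (j' + α' • x₁ + β' • x₂) * j) +
        ((α • x₁ + β • x₂) * j' - j' * (α • x₁ + β • x₂)), ?_, ?_⟩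
    · have hl : α • x₁ + β • x₂ ∈ S.J :=
        add_mem (Submodule.smul_mem _ _ hx₁) (Submodule.smul_mem _ _ hx₂)
      exact add_mem (sub_mem (hmul (i := 2) (j := 1) hj (h1 hb)) (hmul (i := 1) (j := 2) (h1 hb) hj))
        (sub_mem (hmul (i := 1) (j := 2) (h1 hl) hj') (hmul (i := 2) (j := 1) hj' (h1 hl)))
    · subst hc₀
      simp only [mul_add, add_mul, smul_mul_assoc, mul_smul_comm, smul_smul, smul_add, sub_smul,
        smul_sub, mul_comm α' α, mul_comm β' β, mul_comm β' α, mul_comm α' β]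
      abel
  have hJ2span : S.J ^ 2 ≤ Submodule.span K {c₀} ⊔ S.J ^ 3 ⊔ Submodule.span K {q₁ * q₁} ⊔
      Submodule.span K {q₂ * q₂} := by
    rw [← hJ2eq, hC2]
    exact sup_le_sup_right (sup_le_sup_right hCc₀ _) _
  have hJ2dim : finrank K (S.J ^ 2 : Submodule K R) ≤ finrank K (S.J ^ 3 : Submodule K R) + 3 := by
    refine (Submodule.finrank_mono hJ2span).trans ?_
    refine (finrank_le_sup_span _ _).trans (Nat.succ_le_succ ?_)
    refine (finrank_le_sup_span _ _).trans (Nat.succ_le_succ ?_)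
    rw [sup_comm]
    exact finrank_le_sup_span _ _
  -- the second layer has dimension two
  have htwo : ∀ w, ¬ S.J ^ 2 ≤ Submodule.span K {w} ⊔ S.J ^ 3 := fun w h => by
    have := S.tail (n := 2) (by norm_num) h
    omega
  -- powers outside the commutators
  have houtC : ∀ l : ℕ, 1 ≤ l → S.J ^ l ≠ ⊥ → ¬ S.J ^ l ≤ S.C := by
    intro l hl hne hle
    refine hne ((Submodule.eq_bot_iff _).mpr fun x hx => S.hnd x (S.pow_le_A hl hx) fun y hy => ?_)
    obtain ⟨a, ha⟩ := S.hA y hy
    rw [← sub_add_cancel y (a • S.f), mul_add, map_add, mul_smul_comm,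
      (S.hfx x (S.pow_le_A hl hx)).2, map_smul, S.τ_C (hle hx), smul_zero, add_zero]
    exact S.τ_C (hle (S.pow_le hl (Nat.le_succ l) (by
      rw [pow_succ]; exact Submodule.mul_mem_mul hx ha)))
  have hJ3ne : S.J ^ 3 ≠ ⊥ := fun h => by
    rw [h, finrank_bot] at hJ2dim
    omega
  have hJ4ne : S.J ^ 4 ≠ ⊥ := fun h => by
    have hspan : S.J ^ 3 ≤ Submodule.span K ((fun rs : R × R => rs.1 * rs.2) ''
        (({x₁, x₂} : Finset R) ×ˢ ({c₀, q₁ * q₁, q₂ * q₂} : Finset R) : Set (R × R))) := by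
      rw [pow_succ' S.J 2, Submodule.mul_le]
      intro r hr s hs
      obtain ⟨j, hj, α, β, rfl⟩ := hdec r hr x₁ x₂ hgen
      obtain ⟨s', hs', _, hy', rfl⟩ := Submodule.mem_sup.mp (hJ2span hs)
      obtain ⟨s'', hs'', _, hy'', rfl⟩ := Submodule.mem_sup.mp hs'
      obtain ⟨s3, hs3, j3, hj3, rfl⟩ := Submodule.mem_sup.mp hs''
      obtain ⟨c1, rfl⟩ := Submodule.mem_span_singleton.mp hs3
      obtain ⟨c2, rfl⟩ := Submodule.mem_span_singleton.mp hy''
      obtain ⟨c3, rfl⟩ := Submodule.mem_span_singleton.mp hy'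
      have z0 : ∀ t ∈ S.J ^ 2, j * t = 0 := fun t ht => by
        have := hmul hj ht
        rwa [h, Submodule.mem_bot] at this
      have z1 : ∀ r ∈ S.J, r * j3 = 0 := fun r hr => by
        have := hmul (h1 hr) hj3
        rwa [h, Submodule.mem_bot] at this
      rw [add_mul, add_mul, z0 _ hs, zero_add, smul_mul_assoc, smul_mul_assoc]
      simp only [mul_add, mul_smul_comm, z1 _ hx₁, z1 _ hx₂, add_zero]
      refine add_mem (Submodule.smul_mem _ _ (add_mem (add_mem ?_ ?_) ?_))
        (Submodule.smul_mem _ _ (add_mem (add_mem ?_ ?_) ?_)) <;>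
        refine Submodule.smul_mem _ _ (Submodule.subset_span ⟨(_, _), ?_, rfl⟩) <;> simp
    have h6 : finrank K (S.J ^ 3 : Submodule K R) ≤ 6 := by
      refine (Submodule.finrank_mono hspan).trans ?_
      rw [← Finset.coe_product, ← Finset.coe_image]
      refine (finrank_span_finset_le_card _).trans (Finset.card_image_le.trans ?_)
      rw [Finset.card_product]
      exact Nat.mul_le_mul Finset.card_le_two Finset.card_le_three
    omega
  have hCJ4 : S.C < S.C ⊔ S.J ^ 4 := lt_of_le_of_ne le_sup_left fun h =>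
    houtC 4 (by norm_num) hJ4ne (h ▸ le_sup_right)
  have hC34 : S.C ⊔ S.J ^ 4 ≤ S.C ⊔ S.J ^ 3 := sup_le_sup_left hJ34 _
  have hC32 : S.C ⊔ S.J ^ 3 < S.J ^ 2 := by
    refine lt_of_le_of_ne (sup_le S.C_le hJ23) fun h => htwo c₀ ?_
    rw [← h]
    exact sup_le hCc₀ le_sup_right
  have hC3eq : S.C ⊔ S.J ^ 4 = S.C ⊔ S.J ^ 3 := by
    refine Submodule.eq_of_le_of_finrank_le hC34 ?_
    have := Submodule.finrank_lt_finrank_of_lt hCJ4
    have := Submodule.finrank_lt_finrank_of_lt hC32
    omega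
  have hC3dim : finrank K (S.J ^ 2 : Submodule K R) ≤
      finrank K (S.C ⊔ S.J ^ 3 : Submodule K R) + 1 := by
    have := Submodule.finrank_lt_finrank_of_lt hCJ4
    have := Submodule.finrank_mono hC34
    omega
  -- a square spanning the quotient
  obtain ⟨a, ha, hasq⟩ : ∃ a ∈ S.J, a * a ∉ S.C ⊔ S.J ^ 3 := by
    by_contra h
    push Not at h
    refine hC32.ne (le_antisymm hC32.le ?_)
    rw [← hJ2eq, hC2]
    exact sup_le (sup_le le_sup_left ((Submodule.span_singleton_le_iff_mem _ _).mpr (h q₁ hq₁)))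
      ((Submodule.span_singleton_le_iff_mem _ _).mpr (h q₂ hq₂))
  have hJ2t : S.J ^ 2 = S.C ⊔ S.J ^ 3 ⊔ Submodule.span K {a * a} := by
    refine (Submodule.eq_of_le_of_finrank_le (sup_le hC32.le
      ((Submodule.span_singleton_le_iff_mem _ _).mpr (hsq a ha))) ?_).symm
    have : S.C ⊔ S.J ^ 3 < S.C ⊔ S.J ^ 3 ⊔ Submodule.span K {a * a} := lt_of_le_of_ne le_sup_left
      fun h => hasq (h ▸ Submodule.mem_sup_right (Submodule.mem_span_singleton_self _))
    have := Submodule.finrank_lt_finrank_of_lt this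
    omega
  have ha2 : a ∉ S.J ^ 2 := fun h => hasq (Submodule.mem_sup_right (hJ34 (hmul h h)))
  obtain ⟨b₀, hb₀, hgen'⟩ : ∃ b₀ ∈ S.J,
      S.J = S.J ^ 2 ⊔ Submodule.span K {a} ⊔ Submodule.span K {b₀} := by
    have hle : S.J ^ 2 ⊔ Submodule.span K {a} ≤ S.J := sup_le (by rw [pow_two]; exact S.hJJ)
      ((Submodule.span_singleton_le_iff_mem _ _).mpr ha)
    obtain ⟨x, hx, hxn⟩ : ∃ x ∈ S.J, x ∉ S.J ^ 2 ⊔ Submodule.span K {a} := by
      by_contra h
      push Not at h
      exact hone a ha h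
    refine ⟨x, hx, (Submodule.eq_of_le_of_finrank_le
      (sup_le hle ((Submodule.span_singleton_le_iff_mem _ _).mpr hx)) ?_).symm⟩
    have e1 : S.J ^ 2 < S.J ^ 2 ⊔ Submodule.span K {a} := lt_of_le_of_ne le_sup_left fun h =>
      ha2 (h ▸ Submodule.mem_sup_right (Submodule.mem_span_singleton_self _))
    have e2 : S.J ^ 2 ⊔ Submodule.span K {a} < S.J ^ 2 ⊔ Submodule.span K {a} ⊔ Submodule.span K {x} :=
      lt_of_le_of_ne le_sup_left fun h =>
        hxn (h ▸ Submodule.mem_sup_right (Submodule.mem_span_singleton_self _))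
    have := Submodule.finrank_lt_finrank_of_lt e1
    have := Submodule.finrank_lt_finrank_of_lt e2
    omega
  have hcomb : ∀ z ∈ S.J ^ 2, ∃ ρ : K, ∀ b : R, S.C ≤ Submodule.span K {a * b - b * a} ⊔ S.J ^ 3 →
      ∃ ν' : K, z - ρ • (a * a) - ν' • (a * b - b * a) ∈ S.J ^ 3 := by
    intro z hz
    rw [hJ2t] at hz
    obtain ⟨w, hw, _, hs, rfl⟩ := Submodule.mem_sup.mp hz
    obtain ⟨ρ, rfl⟩ := Submodule.mem_span_singleton.mp hs
    obtain ⟨c, hc, j, hj, rfl⟩ := Submodule.mem_sup.mp hw
    refine ⟨ρ, fun b hb => ?_⟩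
    obtain ⟨s, hs', j', hj', rfl⟩ := Submodule.mem_sup.mp (hb hc)
    obtain ⟨ν', rfl⟩ := Submodule.mem_span_singleton.mp hs'
    refine ⟨ν', ?_⟩
    rw [show ν' • (a * b - b * a) + j' + j + ρ • (a * a) - ρ • (a * a) - ν' • (a * b - b * a) =
      j' + j by abel]
    exact add_mem hj' hj
  have hCgen : ∀ b ∈ S.J, S.J = S.J ^ 2 ⊔ Submodule.span K {a} ⊔ Submodule.span K {b} →
      S.C ≤ Submodule.span K {a * b - b * a} ⊔ S.J ^ 3 ∧
      S.C ≤ Submodule.span K {a * b - b * a} ⊔
        (Submodule.span K {z | ∃ u ∈ S.J, ∃ j ∈ S.J ^ 2, z = u * j - j * u}) := by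
    intro b hb hg
    have key : ∀ p ∈ S.J, ∀ q ∈ S.J, ∃ r : K, ∃ w ∈ Submodule.span K
        {z | ∃ u ∈ S.J, ∃ j ∈ S.J ^ 2, z = u * j - j * u},
        p * q - q * p = r • (a * b - b * a) + w := by
      intro p hp q hq
      obtain ⟨j, hj, α, β, rfl⟩ := hdec p hp a b hg
      obtain ⟨j', hj', α', β', rfl⟩ := hdec q hq a b hg
      refine ⟨α * β' - β * α', (j * (j' + α' • a + β' • b) - (j' + α' • a + β' • b) * j) +
        ((α • a + β • b) * j' - j' * (α • a + β • b)), add_mem ?_ ?_, ?_⟩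
      · rw [show j * (j' + α' • a + β' • b) - (j' + α' • a + β' • b) * j =
          -((j' + α' • a + β' • b) * j - j * (j' + α' • a + β' • b)) by abel]
        exact neg_mem (Submodule.subset_span ⟨_, hq, j, hj, rfl⟩)
      · exact Submodule.subset_span
          ⟨_, add_mem (Submodule.smul_mem _ _ ha) (Submodule.smul_mem _ _ hb), j', hj', rfl⟩
      · simp only [mul_add, add_mul, smul_mul_assoc, mul_smul_comm, smul_smul, smul_add, sub_smul,
          smul_sub, mul_comm α' α, mul_comm β' β, mul_comm β' α, mul_comm α' β]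
        abel
    have h2' : S.C ≤ Submodule.span K {a * b - b * a} ⊔
        (Submodule.span K {z | ∃ u ∈ S.J, ∃ j ∈ S.J ^ 2, z = u * j - j * u}) := by
      rw [C, Submodule.span_le]
      rintro _ ⟨p, hp, q, hq, rfl⟩
      obtain ⟨r, w, hw, e⟩ := key p hp q hq
      rw [e]
      exact add_mem (Submodule.mem_sup_left (Submodule.smul_mem _ _
        (Submodule.mem_span_singleton_self _))) (Submodule.mem_sup_right hw)
    refine ⟨h2'.trans (sup_le_sup_left ?_ _), h2'⟩
    rw [Submodule.span_le]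
    rintro _ ⟨u, hu, j, hj, rfl⟩
    exact sub_mem (hmul (i := 1) (j := 2) (h1 hu) hj) (hmul (i := 2) (j := 1) hj (h1 hu))
  -- normalise the second generator
  obtain ⟨b, hb, hgb, μ, hbb⟩ : ∃ b ∈ S.J, S.J = S.J ^ 2 ⊔ Submodule.span K {a} ⊔ Submodule.span K {b} ∧
      ∃ μ : K, b * b - μ • (a * b - b * a) ∈ S.J ^ 3 := by
    obtain ⟨ρ, hρ⟩ := hcomb _ (hsq b₀ hb₀)
    obtain ⟨ν, hν⟩ := hρ b₀ (hCgen b₀ hb₀ hgen').1
    obtain ⟨r, hr⟩ := IsAlgClosed.exists_pow_nat_eq ρ (n := 2) two_pos
    have hb : b₀ + r • a ∈ S.J := add_mem hb₀ (Submodule.smul_mem _ _ ha)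
    refine ⟨b₀ + r • a, hb, ?_, ν + r, ?_⟩
    · conv_lhs => rw [hgen']
      apply le_antisymm
      · refine sup_le (sup_le (le_sup_left.trans le_sup_left) (le_sup_right.trans le_sup_left)) ?_
        rw [Submodule.span_singleton_le_iff_mem]
        refine (congrArg (· ∈ _) (show b₀ = (b₀ + r • a) - r • a by abel)).mpr ?_
        exact sub_mem (Submodule.mem_sup_right (Submodule.mem_span_singleton_self _))
          (Submodule.mem_sup_left (Submodule.mem_sup_right (Submodule.smul_mem _ _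
            (Submodule.mem_span_singleton_self a))))
      · refine sup_le (sup_le (le_sup_left.trans le_sup_left) (le_sup_right.trans le_sup_left)) ?_
        rw [Submodule.span_singleton_le_iff_mem]
        exact add_mem (Submodule.mem_sup_right (Submodule.mem_span_singleton_self _))
          (Submodule.mem_sup_left (Submodule.mem_sup_right (Submodule.smul_mem _ _
            (Submodule.mem_span_singleton_self a))))
    · refine (congrArg (· ∈ S.J ^ 3) ?_).mpr hν
      rw [← hr, sq]
      simp only [hsub, mul_add, add_mul, smul_mul_assoc, mul_smul_comm, smul_add, add_smul,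
        smul_smul]
      have h3 := hdbl ((r * r) • (a * a))
      calc _ = b₀ * b₀ + (r * r) • (a * a) + ν • (a * b₀) + ν • (b₀ * a) +
            (r • (a * b₀) + r • (a * b₀)) + (r • (b₀ * a) + r • (b₀ * a)) +
            ((ν * r) • (a * a) + (ν * r) • (a * a)) + ((r * r) • (a * a) + (r * r) • (a * a)) := by
              abel
        _ = _ := by simp only [hdbl, add_zero]; abel
  obtain ⟨c, hc⟩ : ∃ c, c = a * b - b * a := ⟨_, rfl⟩
  obtain ⟨hCc, hCfine⟩ := hCgen b hb hgb
  rw [← hc] at hbb hCc hCfine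
  have hcJ : c ∈ S.J ^ 2 := hc ▸ sub_mem (hmul (i := 1) (j := 1) (h1 ha) (h1 hb))
    (hmul (i := 1) (j := 1) (h1 hb) (h1 ha))
  have hc3 : c ∉ S.J ^ 3 := fun h => htwo (a * a) (by
    rw [hJ2t]
    exact sup_le (sup_le (hCc.trans (sup_le ((Submodule.span_singleton_le_iff_mem _ _).mpr
      (Submodule.mem_sup_right h)) le_sup_right)) le_sup_right) le_sup_left)
  obtain ⟨β, hβ⟩ := hcomb _ (hmul (i := 1) (j := 1) (h1 ha) (h1 hb))
  obtain ⟨γ, hab⟩ := hβ b (hc ▸ hCc)
  rw [← hc] at hab
  have hba : b * a - β • (a * a) - (γ + 1) • c ∈ S.J ^ 3 := by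
    refine (congrArg (· ∈ S.J ^ 3) ?_).mpr hab
    rw [add_smul, one_smul]
    rw [show b * a - β • (a * a) - (γ • c + c) = a * b - β • (a * a) - γ • c - (c + c) by
      conv_rhs => arg 2; arg 1; rw [hc]
      abel, hdbl, sub_zero]
  obtain ⟨q, hq⟩ : ∃ q : R →ₗ[K] R ⧸ (S.J ^ 4), q = (S.J ^ 4).mkQ := ⟨_, rfl⟩
  have q0 : ∀ r, r ∈ S.J ^ 4 → q r = 0 := fun r hr => by
    rw [hq, Submodule.mkQ_apply, Submodule.Quotient.mk_eq_zero]; exact hr
  have qL : ∀ u ∈ S.J, ∀ z z', z - z' ∈ S.J ^ 3 → q (u * z) = q (u * z') ∧ q (z * u) = q (z' * u) := by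
    intro u hu z z' h
    refine ⟨sub_eq_zero.mp ?_, sub_eq_zero.mp ?_⟩
    · rw [← map_sub, ← mul_sub]; exact q0 _ (hmul (i := 1) (j := 3) (h1 hu) h)
    · rw [← map_sub, ← sub_mul]; exact q0 _ (hmul (i := 3) (j := 1) h (h1 hu))
  have hab' : a * b - (β • (a * a) + γ • c) ∈ S.J ^ 3 := by rwa [sub_sub] at hab
  have hba' : b * a - (β • (a * a) + (γ + 1) • c) ∈ S.J ^ 3 := by rwa [sub_sub] at hba
  -- the relations in degree three
  obtain ⟨X, hX⟩ : ∃ X, X = q (a * c - c * a) := ⟨_, rfl⟩
  obtain ⟨Y, hY⟩ : ∃ Y, Y = q (b * c - c * b) := ⟨_, rfl⟩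
  obtain ⟨T, hT⟩ : ∃ T, T = q (a * (a * a)) := ⟨_, rfl⟩
  have hac : q (a * c) = γ • X := by
    have e : q (a * (a * b)) - q ((a * b) * a) = γ • X := by
      rw [(qL a ha _ _ hab').1, (qL a ha _ _ hab').2, hX]
      simp only [mul_add, add_mul, mul_smul_comm, smul_mul_assoc, map_add, map_smul, mul_assoc,
        map_sub, smul_sub]
      abel
    rw [← e, ← map_sub, show a * (a * b) - a * b * a = a * c by
      rw [hc, mul_sub, ← mul_assoc, ← mul_assoc]]
  have hca : q (c * a) = (γ + 1) • X := by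
    have : X = q (a * c) - q (c * a) := by rw [hX, map_sub]
    rw [add_smul, one_smul, ← hac, this]
    have hd : q (c * a) + q (c * a) = 0 := by rw [← map_add, hdbl, map_zero]
    rw [sub_eq_add_neg, neg_eq_of_add_eq_zero_left hd, ← add_assoc, ← map_add, hdbl, map_zero,
      zero_add]
  have htb : q (a * a * b) = β • T + γ • q (a * c) := by
    rw [mul_assoc, (qL a ha _ _ hab').1, hT]
    simp only [mul_add, mul_smul_comm, map_add, map_smul]
  have hbt : q (b * (a * a)) = β • T + (γ + 1) • q (c * a) := by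
    rw [← mul_assoc, (qL a ha _ _ hba').2, hT]
    simp only [add_mul, smul_mul_assoc, map_add, map_smul, mul_assoc]
  have hd : ∀ w : R ⧸ (S.J ^ 4), w + w = 0 := fun w => by rw [← two_smul K w, h2, zero_smul]
  have hK : ∀ r : K, r + r = 0 := fun r => by rw [← two_mul, h2, zero_mul]
  have htbbt : q (b * (a * a)) - q (a * a * b) = X := by
    rw [hbt, htb, hac, hca, smul_smul, smul_smul,
      show (β • T + ((γ + 1) * (γ + 1)) • X) - (β • T + (γ * γ) • X) =
        ((γ + 1) * (γ + 1) - γ * γ) • X by rw [sub_smul]; abel,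
      show (γ + 1) * (γ + 1) - γ * γ = 1 + (γ + γ) by ring, hK, add_zero, one_smul]
  have hcb : q (c * b) = β • X + γ • Y := by
    have e : q (c * b) = q (b * (a * b)) - q ((a * b) * b) := by
      rw [← map_sub, show b * (a * b) - a * b * b = -(c * b) by
        rw [hc, sub_mul, neg_sub, ← mul_assoc], map_neg]
      exact (neg_eq_of_add_eq_zero_left (hd _)).symm
    rw [e, (qL b hb _ _ hab').1, (qL b hb _ _ hab').2, hY]
    simp only [mul_add, add_mul, mul_smul_comm, smul_mul_assoc, map_add, map_smul, map_sub, smul_sub]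
    rw [← htbbt, smul_sub]
    abel
  have hbc : q (b * c) = β • X + (γ + 1) • Y := by
    have : q (b * c) = Y + q (c * b) := by rw [hY, map_sub, sub_add_cancel]
    rw [this, hcb, add_smul, one_smul]
    abel
  have hYX : Y = μ • X := by
    have e1 : μ • q (a * c) = β • q (a * a * b) + γ • q (c * b) := by
      rw [← map_smul, ← mul_smul_comm, ← (qL a ha _ _ hbb).1, ← mul_assoc, (qL b hb _ _ hab').2]
      simp only [add_mul, smul_mul_assoc, map_add, map_smul]
    have e2 : μ • q (c * a) = β • q (b * (a * a)) + (γ + 1) • q (b * c) := by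
      rw [← map_smul, ← smul_mul_assoc, ← (qL a ha _ _ hbb).2, mul_assoc, (qL b hb _ _ hba').1]
      simp only [mul_add, mul_smul_comm, map_add, map_smul]
    have h3 : μ • (q (a * c) + q (c * a)) =
        β • (q (a * a * b) + q (b * (a * a))) + (γ • q (c * b) + (γ + 1) • q (b * c)) := by
      rw [smul_add, e1, e2]; module
    have hsum : q (a * c) + q (c * a) = X := by
      rw [hac, hca, ← add_smul, ← add_assoc, hK, zero_add, one_smul]
    have hsum2 : q (a * a * b) + q (b * (a * a)) = X := by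
      rw [← htbbt, sub_eq_add_neg, neg_eq_of_add_eq_zero_left (hd _), add_comm]
    rw [hsum, hsum2, hcb, hbc] at h3
    rw [h3, show β • X + (γ • (β • X + γ • Y) + (γ + 1) • (β • X + (γ + 1) • Y)) =
      (β + β + (γ * β + γ * β)) • X + (γ * γ + γ * γ + (γ + γ) + 1) • Y by module,
      show β + β + (γ * β + γ * β) = 0 by rw [hK, hK, add_zero],
      show γ * γ + γ * γ + (γ + γ) + 1 = 1 by rw [hK, hK, zero_add, zero_add],
      zero_smul, zero_add, one_smul]
  -- the third layer
  refine absurd (S.tail (n := 3) (w := a * c - c * a) (by norm_num) ?_) (by omega)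
  have hmod : ∀ z, z ∈ S.J ^ 3 → q z ∈ Submodule.span K {X} →
      z ∈ Submodule.span K {a * c - c * a} ⊔ S.J ^ 4 := by
    intro z _ hz'
    obtain ⟨r, hr⟩ := Submodule.mem_span_singleton.mp hz'
    rw [← sub_add_cancel z (r • (a * c - c * a))]
    refine add_mem (Submodule.mem_sup_right ?_) (Submodule.mem_sup_left (Submodule.smul_mem _ _
      (Submodule.mem_span_singleton_self _)))
    rw [← Submodule.Quotient.mk_eq_zero, ← Submodule.mkQ_apply, ← hq, map_sub, map_smul, ← hX, hr,
      sub_self]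
  intro z hz
  have hz' : z ∈ S.C ⊔ S.J ^ 4 := hC3eq ▸ Submodule.mem_sup_right hz
  obtain ⟨z₁, hz₁, j₄, hj₄, rfl⟩ := Submodule.mem_sup.mp hz'
  refine add_mem ?_ (Submodule.mem_sup_right hj₄)
  obtain ⟨s, hs, w, hw, rfl⟩ := Submodule.mem_sup.mp (hCfine hz₁)
  obtain ⟨r, rfl⟩ := Submodule.mem_span_singleton.mp hs
  have hgen3 : Submodule.span K {z | ∃ u ∈ S.J, ∃ j ∈ S.J ^ 2, z = u * j - j * u} ≤ S.J ^ 3 := by
    rw [Submodule.span_le]
    rintro _ ⟨u, hu, j, hj, rfl⟩
    exact sub_mem (hmul (i := 1) (j := 2) (h1 hu) hj) (hmul (i := 2) (j := 1) hj (h1 hu))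
  have hw3 := hgen3 hw
  have hr : r • c ∈ S.J ^ 3 := by
    have := sub_mem (sub_mem hz (hJ34 hj₄)) hw3
    simpa using this
  have hr0 : r = 0 := by
    by_contra hne
    exact hc3 ((Submodule.smul_mem_iff _ hne).mp hr)
  rw [hr0, zero_smul, zero_add]
  refine hmod _ hw3 ?_
  clear hz hz' hz₁ hr hw3
  induction hw using Submodule.span_induction with
  | zero => rw [map_zero]; exact zero_mem _
  | add p q _ _ hp hq => rw [map_add]; exact add_mem hp hq
  | smul k p _ hp => rw [map_smul]; exact Submodule.smul_mem _ _ hp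
  | mem p hp =>
    obtain ⟨u, hu, j, hj, rfl⟩ := hp
    obtain ⟨j₁, hj₁, α, α', rfl⟩ := hdec u hu a b hgb
    have hj' := hj
    rw [hJ2t] at hj'
    obtain ⟨w', hw', _, hs', rfl⟩ := Submodule.mem_sup.mp hj'
    obtain ⟨ρ, rfl⟩ := Submodule.mem_span_singleton.mp hs'
    obtain ⟨c', hc', j₂, hj₂, rfl⟩ := Submodule.mem_sup.mp hw'
    obtain ⟨s', hs'', j₃, hj₃, rfl⟩ := Submodule.mem_sup.mp (hCc hc')
    obtain ⟨ν, rfl⟩ := Submodule.mem_span_singleton.mp hs''
    have e0 : (j₁ + α • a + α' • b) * (ν • c + j₃ + j₂ + ρ • (a * a)) -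
        (ν • c + j₃ + j₂ + ρ • (a * a)) * (j₁ + α • a + α' • b) =
        ((α * ν) • (a * c - c * a) + (α' * ν) • (b * c - c * b) +
          (α' * ρ) • (b * (a * a) - a * a * b)) +
        ((j₁ * (ν • c + j₃ + j₂ + ρ • (a * a)) - (ν • c + j₃ + j₂ + ρ • (a * a)) * j₁) +
          ((α • a + α' • b) * (j₃ + j₂) - (j₃ + j₂) * (α • a + α' • b))) := by
      simp only [mul_add, add_mul, smul_mul_assoc, mul_smul_comm, smul_add, smul_sub, smul_smul,
        mul_comm ν α, mul_comm ν α', mul_comm ρ α, mul_comm ρ α', mul_assoc]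
      abel
    have hab1 : α • a + α' • b ∈ S.J :=
      add_mem (Submodule.smul_mem _ _ ha) (Submodule.smul_mem _ _ hb)
    rw [e0, map_add, q0 (_ + _) (add_mem (sub_mem (hmul (i := 2) (j := 2) hj₁ hj)
      (hmul (i := 2) (j := 2) hj hj₁)) (sub_mem (hmul (i := 1) (j := 3) (h1 hab1) (add_mem hj₃ hj₂))
      (hmul (i := 3) (j := 1) (add_mem hj₃ hj₂) (h1 hab1)))), add_zero, map_add, map_add, map_smul,
      map_smul, map_smul, ← hX, ← hY, hYX, map_sub, htbbt, smul_smul, ← add_smul, ← add_smul]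
    exact Submodule.smul_mem _ _ (Submodule.mem_span_singleton_self X)

end Corner5

end Cfsg.Agent.DihBlock
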