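import Cfsg.Agent.Lib.Blocks.CornerFour
import Cfsg.Agent.Lib.DihBlock.LocalSixteen

/-!
# Central summands with a single simple module, five traces and two independent squares
-/

set_option autoImplicit false
set_option linter.unusedSectionVars false
set_option linter.style.haveILetI false

namespace Cfsg.Agent.DihBlock

open Module Cfsg.Agent.Corner

universe u v

variable {K : Type u} [Field K] [IsAlgClosed K] {R : Type v} [Ring R] [Algebra K R]
  [FiniteDimensional K R]

theorem sum_symm_diag {ι : Type*} {V : Type*} [AddCommMonoid V] (hdd : ∀ w : V, w + w = 0)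
    (F : ι → ι → V) (hsym : ∀ j k, F j k = F k j) (s : Finset ι) :
    ∑ j ∈ s, ∑ k ∈ s, F j k = ∑ j ∈ s, F j j := by
  classical
  induction s using Finset.induction_on with
  | empty => simp
  | @insert a s ha ih =>
    simp only [Finset.sum_insert ha, Finset.sum_add_distrib, ih]
    rw [Finset.sum_congr rfl fun j _ => hsym j a]
    calc F a a + ∑ k ∈ s, F a k + (∑ k ∈ s, F a k + ∑ j ∈ s, F j j)
        = F a a + ((∑ k ∈ s, F a k) + ∑ k ∈ s, F a k) + ∑ j ∈ s, F j j := by abel
      _ = _ := by rw [hdd, add_zero]

/-- The dimensions of a summand with a single trace, a centre of dimension at most five and two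
tracial functionals separating two squares, in characteristic two. -/
theorem exists_corner_dims_sixteen (h2 : (2 : K) = 0) (τ : R →ₗ[K] K) (hτ : IsTracial τ)
    (hnd : ∀ x, (∀ y, τ (x * y) = 0) → x = 0) {e : R} (he : ∀ x, e * x = x * e)
    (he2 : e * e = e) (he0 : e ≠ 0)
    (hone : ∀ φ ψ : R →ₗ[K] K, φ ∈ tracialOn (K := K) e → ψ ∈ tracialOn (K := K) e →
      IsModTrace φ → IsModTrace ψ → ¬ LinearIndependent K ![φ, ψ])
    (Z : Submodule K R) (hZ : ∀ c, (∀ x, c * x = x * c) → c * e = c → c ∈ Z)
    (hZ4 : finrank K Z ≤ 5) (l₁ l₂ : R →ₗ[K] K) (hl₁ : l₁ ∈ tracialOn (K := K) e)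
    (hl₂ : l₂ ∈ tracialOn (K := K) e) (hl₁i : ∀ g, g * g = g → l₁ g = 0)
    (hl₂i : ∀ g, g * g = g → l₂ g = 0) (x₁ x₂ : R) (h11 : l₁ (x₁ * x₁) ≠ 0)
    (h12 : l₁ (x₂ * x₂) = 0) (h22 : l₂ (x₂ * x₂) ≠ 0) :
    ∃ n a : ℕ, (1 ≤ a ∧ a < 16) ∧
      finrank K (LinearMap.range (LinearMap.mulLeft K e)) = n * n * a ∧
      ∃ f : R, f * f = f ∧ finrank K (LinearMap.range (LinearMap.mulRight K f)) = n * a := by
  classical
  have htr := (finrank_tracialOn_le τ hτ hnd he Z hZ he2).trans hZ4
  obtain ⟨m, d, π, hπ, hd, hker⟩ := exists_matrix_quotient (K := K) (R := R)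
  have hker' := hker
  obtain ⟨N, hN⟩ := hker'
  have hnil : ∀ x, π x = 0 → IsNilpotent x := fun x hx => ⟨N, by
    have := Ideal.pow_mem_pow (show x ∈ RingHom.ker π.toRingHom from hx) N
    rw [hN] at this
    exact this⟩
  have hzero : ∀ x, x * x = x → π x = 0 → x = 0 := fun x hx hx0 => by
    obtain ⟨n, hn⟩ := hnil x hx0
    rcases n with - | n
    · rw [pow_zero] at hn
      rw [← mul_one x, hn, mul_zero]
    · rwa [IsIdempotentElem.pow_succ_eq n hx] at hn
  -- the components of `e` are scalars `0` or `1`
  have hcomp : ∀ i, π e i = 0 ∨ π e i = 1 := by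
    intro i
    obtain ⟨r, hr⟩ := (Matrix.mem_range_scalar_iff_commute_single').mpr
      (fun a b => by
        obtain ⟨x, hx⟩ := hπ (Pi.single i (Matrix.single a b 1))
        have := congrArg (fun y => π y i) (he x)
        simp only [map_mul, Pi.mul_apply, hx, Pi.single_eq_same] at this
        exact this.symm : ∀ a b, Commute (Matrix.single a b (1 : K)) (π e i))
    have hidem : π e i * π e i = π e i := by rw [← Pi.mul_apply, ← map_mul, he2]
    rw [← hr] at hidem ⊢
    rw [← map_mul] at hidem
    haveI : NeZero (d i) := hd i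
    have := congrFun (congrFun hidem 0) 0
    simp [Matrix.scalar_apply] at this
    rcases IsIdempotentElem.iff_eq_zero_or_one.mp (show IsIdempotentElem r from this) with h | h
    · exact Or.inl (by rw [h, map_zero])
    · exact Or.inr (by rw [h, map_one])
  -- exactly one component
  obtain ⟨i, hi⟩ : ∃ i, π e = Pi.single i 1 := by
    obtain ⟨i, hi⟩ : ∃ i, π e i ≠ 0 := by
      by_contra h
      push Not at h
      exact he0 (hzero e he2 (funext h))
    refine ⟨i, ?_⟩
    by_contra hne
    obtain ⟨i', hi'⟩ : ∃ i', i' ≠ i ∧ π e i' ≠ 0 := by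
      by_contra h
      push Not at h
      refine hne (funext fun k => ?_)
      rcases eq_or_ne k i with rfl | hk
      · rw [Pi.single_eq_same]; exact (hcomp k).resolve_left hi
      · rw [Pi.single_eq_of_ne hk]; exact h k hk
    haveI : NeZero (d i) := hd i
    haveI : NeZero (d i') := hd i'
    -- two independent traces
    let φ : Fin m → (R →ₗ[K] K) := fun k =>
      (Matrix.traceLinearMap (Fin (d k)) K K).comp ((LinearMap.proj k).comp π.toLinearMap)
    have hφ : ∀ k x, φ k x = Matrix.trace (π x k) := fun k x => rfl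
    have hφmem : ∀ k, π e k = 1 → φ k ∈ tracialOn (K := K) e := fun k hk =>
      ⟨fun x y => by rw [hφ, hφ, map_mul, map_mul, Pi.mul_apply, Pi.mul_apply, Matrix.trace_mul_comm],
        fun x => by rw [hφ, hφ, map_mul, Pi.mul_apply, hk, one_mul]⟩
    have hi1 := (hcomp i).resolve_left hi
    have hi1' := (hcomp i').resolve_left hi'.2
    have hindep : LinearIndependent K ![φ i, φ i'] := by
      rw [LinearIndependent.pair_iff]
      intro s t hst
      obtain ⟨x, hx⟩ := hπ (Pi.single i (Matrix.single 0 0 1))
      obtain ⟨x', hx'⟩ := hπ (Pi.single i' (Matrix.single 0 0 1))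
      have h1 := LinearMap.congr_fun hst x
      have h2 := LinearMap.congr_fun hst x'
      simp [hφ, hx, hx', Pi.single_eq_of_ne hi'.1, Pi.single_eq_of_ne hi'.1.symm] at h1 h2
      exact ⟨h1, h2⟩
    have hmod : ∀ k, IsModTrace (φ k) := fun k x y hxy hn => by
      have h : IsNilpotent (π x k - π y k) := by
        have := hn.map ((Pi.evalRingHom _ k).comp π.toRingHom)
        simpa using this
      rw [hφ, hφ, ← sub_eq_zero, ← Matrix.trace_sub]
      exact (Matrix.isNilpotent_trace_of_isNilpotent h).eq_zero
    exact hone _ _ (hφmem i hi1) (hφmem i' hi1') (hmod i) (hmod i') hindep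
  haveI : NeZero (d i) := hd i
  obtain ⟨f, u, v, hff, hef, hπf, hu0, hv0, huv1, huv, hsum⟩ :=
    exists_matrix_units he he2 π hπ hker i hi 0
  have hf0 : f ≠ 0 := fun h => by
    rw [h, map_zero] at hπf
    have := congrFun (congrFun (congrFun hπf i) 0) 0
    simp at this
  set φA := (LinearMap.mulLeft K f).comp (LinearMap.mulRight K f) with hφA
  set A := LinearMap.range φA
  have hmemA : ∀ x, x ∈ A ↔ f * x * f = x := fun x => by
    constructor
    · rintro ⟨y, rfl⟩
      simp only [φA, LinearMap.comp_apply, LinearMap.mulLeft_apply, LinearMap.mulRight_apply,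
        ← mul_assoc]
      rw [hff, mul_assoc, hff]
    · intro h
      exact ⟨x, by simp only [φA, LinearMap.comp_apply, LinearMap.mulLeft_apply,
        LinearMap.mulRight_apply, ← mul_assoc, h]⟩
  have hfu : ∀ j, f * u j = u j := fun j => (huv1 j).1
  have hvf : ∀ j, v j * f = v j := fun j => (huv1 j).2.1
  have huxv : ∀ x j k, u j * x * v k ∈ A := fun x j k => (hmemA _).mpr (by
    rw [← mul_assoc, ← mul_assoc, hfu, mul_assoc, hvf])
  have huev : ∀ x j k, u j * (e * x) * v k = u j * x * v k := fun x j k => by
    rw [← mul_assoc (u j), show u j * e = u j by rw [← he]; exact (huv1 j).2.2]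
  -- the corner
  let J : Submodule K R := A ⊓ LinearMap.ker π.toLinearMap
  have hJmem : ∀ {x}, x ∈ J ↔ x ∈ A ∧ π x = 0 := Iff.rfl
  have hJ : ∀ x, f * x * f - x = 0 → ∃ a : K, x - a • f ∈ J := by
    intro x hx
    rw [sub_eq_zero] at hx
    refine ⟨π x i 0 0, hJmem.mpr ⟨sub_mem ((hmemA x).mpr hx) (Submodule.smul_mem _ _ ((hmemA f).mpr
      (by rw [hff, hff]))), ?_⟩⟩
    rw [map_sub, map_smul, sub_eq_zero]
    conv_lhs => rw [← hx, map_mul, map_mul, hπf]
    rw [hπf]
    funext k
    rcases eq_or_ne k i with rfl | hk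
    · ext a b
      simp only [Pi.mul_apply, Pi.smul_apply, Pi.single_eq_same, Matrix.smul_apply,
        Matrix.single_apply, smul_eq_mul, Matrix.single_mul_mul_single]
      split_ifs <;> simp
    · simp [Pi.single_eq_of_ne hk]
  have hJpow : ∀ k : ℕ, ∀ x ∈ J ^ (k + 1), x ∈ RingHom.ker π.toRingHom ^ (k + 1) := by
    intro k
    induction k with
    | zero =>
      intro x hx
      rw [zero_add] at hx ⊢
      rw [pow_one] at hx
      rw [Submodule.pow_one]
      exact (hJmem.mp hx).2
    | succ k ih =>
      intro x hx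
      rw [pow_succ] at hx
      rw [Submodule.pow_succ]
      induction hx using Submodule.mul_induction_on' with
      | mem_mul_mem a ha b hb => exact Ideal.mul_mem_mul (ih a ha) (hJmem.mp hb).2
      | add a _ b _ ha hb => exact add_mem ha hb
  have hJnil : J ^ (N + 1) = ⊥ := by
    rw [eq_bot_iff]
    intro x hx
    have := hJpow N x hx
    rw [Submodule.pow_succ, hN, zero_mul] at this
    simpa using this
  -- traces of the corner extend
  have hfun : ∀ T : Submodule K (Module.Dual K A), (∀ l ∈ T, ∀ a b c c' : A,
      (c : R) = a * b → (c' : R) = b * a → l c = l c') → finrank K T ≤ 5 := by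
    intro T hT
    let D : Fin (d i) → R →ₗ[K] A := fun j =>
      ((LinearMap.mulLeft K (u j)).comp (LinearMap.mulRight K (v j))).codRestrict A fun x => by
        simp only [LinearMap.comp_apply, LinearMap.mulLeft_apply, LinearMap.mulRight_apply, ← mul_assoc]
        exact huxv x j j
    have hD : ∀ j x, (D j x : R) = u j * x * v j := fun j x => by
      show u j * (x * v j) = _
      rw [mul_assoc]
    let Λ : T →ₗ[K] (R →ₗ[K] K) :=
      { toFun := fun l => ∑ j, (l : Module.Dual K A).comp (D j)
        map_add' := fun a b => by simp [LinearMap.add_comp, Finset.sum_add_distrib]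
        map_smul' := fun r a => by simp [LinearMap.smul_comp, Finset.smul_sum] }
    have hΛ : ∀ (l : T) x, Λ l x = ∑ j, (l : Module.Dual K A) (D j x) := fun l x => by
      simp [Λ]
    have hΛe : ∀ (l : T) x, Λ l (e * x) = Λ l x := fun l x => by
      rw [hΛ, hΛ]
      refine Finset.sum_congr rfl fun j _ => congrArg _ (Subtype.ext ?_)
      rw [hD, hD, huev]
    have hmem : ∀ l, Λ l ∈ tracialOn (K := K) e := by
      refine fun l => ⟨fun x y => ?_, hΛe l⟩
      have hsplit : ∀ x y, Λ l (x * y) = ∑ j, ∑ k,
          (l : Module.Dual K A) ⟨(u j * x * v k) * (u k * y * v j), (hmemA _).mpr (by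
            simp only [← mul_assoc, hfu]
            simp only [mul_assoc, hvf])⟩ := fun x y => by
        rw [← hΛe, hΛ]
        refine Finset.sum_congr rfl fun j _ => ?_
        rw [← map_sum]
        refine congrArg _ (Subtype.ext ?_)
        rw [hD, AddSubmonoidClass.coe_finsetSum]
        calc u j * (e * (x * y)) * v j = u j * x * (∑ k, v k * u k) * y * v j := by
              rw [hsum, ← mul_assoc e x y, he x]; simp only [mul_assoc]
          _ = _ := by
              simp only [Finset.mul_sum, Finset.sum_mul]
              exact Finset.sum_congr rfl fun k _ => by simp only [mul_assoc]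
      rw [hsplit, hsplit, Finset.sum_comm]
      exact Finset.sum_congr rfl fun k _ => Finset.sum_congr rfl fun j _ =>
        hT l l.2 ⟨_, huxv x j k⟩ ⟨_, huxv y k j⟩ _ _ rfl rfl
    have hΛinj : Function.Injective Λ := by
      intro l l' h
      refine Subtype.ext (LinearMap.ext fun a => ?_)
      have hres : ∀ l : T, Λ l (a : R) = (l : Module.Dual K A) a := by
        intro l
        have hfa : f * (a : R) * f = a := (hmemA _).mp a.2
        rw [hΛ, Finset.sum_eq_single 0]
        · refine congrArg _ (Subtype.ext ?_)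
          rw [hD, hu0, hv0, hfa]
        · intro j _ hj
          have hz : u j * f = 0 := by rw [← hv0, huv, if_neg hj]
          have : D j (a : R) = 0 := Subtype.ext (by
            rw [hD, ← hfa, ← mul_assoc, ← mul_assoc, hz]; simp)
          rw [this, map_zero]
        · simp
      rw [← hres l, ← hres l', h]
    calc finrank K T = finrank K (LinearMap.range Λ) :=
          (LinearEquiv.ofInjective Λ hΛinj).finrank_eq
      _ ≤ finrank K (tracialOn (K := K) e) :=
          Submodule.finrank_mono (LinearMap.range_le_iff_comap.mpr (eq_top_iff.mpr fun l _ => hmem l))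
      _ ≤ 5 := htr
  have hfxA : ∀ x ∈ A, f * x = x ∧ x * f = x := fun x hx => by
    have h := (hmemA x).mp hx
    constructor
    · conv_lhs => rw [← h]
      rw [← mul_assoc, ← mul_assoc, hff, h]
    · conv_lhs => rw [← h]
      rw [mul_assoc, hff, h]
  have hJA : J ≤ A := inf_le_left
  have hbd : ∀ C : Submodule K R, C ≤ A → (∀ x ∈ A, ∀ y ∈ A, x * y - y * x ∈ C) →
      finrank K A ≤ finrank K C + 5 := by
    intro C hCA hC
    obtain ⟨S, hS⟩ : ∃ S : Submodule K A, S = C.comap A.subtype := ⟨_, rfl⟩
    have h2' : finrank K S.dualAnnihilator ≤ 5 := hfun _ fun l hl a b c c' hc hc' => by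
      have hmem : c - c' ∈ S := by
        rw [hS]
        show ((c - c' : A) : R) ∈ C
        rw [AddSubgroupClass.coe_sub, hc, hc']
        exact hC _ a.2 _ b.2
      have := (Submodule.mem_dualAnnihilator l).mp hl _ hmem
      rwa [map_sub, sub_eq_zero] at this
    have h3 := Subspace.finrank_add_finrank_dualAnnihilator_eq S
    have h4 : finrank K S = finrank K C := hS ▸ (Submodule.comapSubtypeEquivOfLe hCA).finrank_eq
    omega
  let S5 : DihBlock.Corner5 K R :=
    { f := f
      A := A
      J := J
      N := N
      τ := τ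
      hfA := (hmemA f).mpr (by rw [hff, hff])
      hJA := hJA
      hA := fun x hx => hJ x (sub_eq_zero.mpr ((hmemA x).mp hx))
      hfx := hfxA
      hJJ := Submodule.mul_le.mpr fun x hx y hy => hJmem.mpr ⟨(hmemA _).mpr (by
        rw [← mul_assoc, (hfxA x (hJA hx)).1, mul_assoc, (hfxA y (hJA hy)).2]),
        by rw [map_mul, (hJmem.mp hx).2, zero_mul]⟩
      hJnil := hJnil
      hτ := hτ
      hnd := fun x hx h => hnd x fun y => by
        have h1 := h (f * y * f) ((hmemA _).mpr (by
          simp only [← mul_assoc, hff]; simp only [mul_assoc, hff]))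
        rw [← mul_assoc, ← mul_assoc, (hfxA x hx).2, hτ, ← mul_assoc, (hfxA x hx).1] at h1
        exact h1
      hfun := hbd }
  -- squares in the corner
  have hsq : ∀ x : R, ∃ q ∈ J, ∀ l ∈ tracialOn (K := K) e, (∀ g, g * g = g → l g = 0) →
      l (q * q) = l (x * x) := by
    intro x
    obtain ⟨a, ha⟩ : ∃ a, a = ∑ k, u k * x * v k := ⟨_, rfl⟩
    have haA : a ∈ A := ha ▸ Submodule.sum_mem _ fun k _ => huxv x k k
    obtain ⟨α, hα⟩ := hJ a (sub_eq_zero.mpr ((hmemA a).mp haA))
    refine ⟨_, hα, fun l hl hli => ?_⟩
    have hdd : ∀ w : K, w + w = 0 := fun w => by rw [← two_mul, h2, zero_mul]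
    obtain ⟨F, hF⟩ : ∃ F, F = fun j k => l (u j * x * v k * (u k * x * v j)) := ⟨_, rfl⟩
    have hsym : ∀ j k, F j k = F k j := fun j k => by simp only [hF]; exact hl.1 _ _
    have h1 : l (x * x) = ∑ j, F j j := by
      calc l (x * x) = ∑ j, l (v j * u j * (x * x)) := by
            rw [← map_sum, ← Finset.sum_mul, hsum, hl.2]
        _ = ∑ j, l (u j * x * e * x * v j) := Finset.sum_congr rfl fun j _ => by
            rw [mul_assoc (v j), hl.1, mul_assoc (u j) x e, ← he x, ← mul_assoc (u j) e x,
              show u j * e = u j by rw [← he]; exact (huv1 j).2.2]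
            simp only [mul_assoc]
        _ = ∑ j, ∑ k, F j k := Finset.sum_congr rfl fun j _ => by
            rw [← hsum]
            simp only [hF, Finset.mul_sum, Finset.sum_mul, map_sum, mul_assoc]
        _ = _ := sum_symm_diag hdd F hsym Finset.univ
    have h2' : l (a * a) = ∑ j, F j j := by
      rw [ha, Finset.sum_mul_sum, map_sum]
      simp only [map_sum]
      rw [sum_symm_diag hdd (fun j k => l (u j * x * v j * (u k * x * v k))) (fun j k => hl.1 _ _)
        Finset.univ]
      simp only [hF]
    rw [h1, ← h2']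
    have hqq : (a - α • f) * (a - α • f) = a * a - α • a - α • a + (α * α) • f := by
      simp only [sub_mul, mul_sub, smul_mul_assoc, mul_smul_comm, (hfxA a haA).1, (hfxA a haA).2,
        hff, smul_smul, smul_sub]
      abel
    rw [hqq, map_add, map_sub, map_sub, map_smul, map_smul, smul_eq_mul, smul_eq_mul, hli f hff]
    linear_combination -(l a * α) * h2
  obtain ⟨q₁, hq₁J, hq₁⟩ := hsq x₁
  obtain ⟨q₂, hq₂J, hq₂⟩ := hsq x₂
  have hA2 : finrank K A < 16 := S5.finrank_lt h2 hq₁J hq₂J fun α β hC => by
    have hvan : ∀ l ∈ tracialOn (K := K) e, ∀ z ∈ S5.C, l z = 0 := by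
      intro l hl z hz
      induction hz using Submodule.span_induction with
      | mem z hz => obtain ⟨r, -, w, -, rfl⟩ := hz; rw [map_sub, hl.1, sub_self]
      | zero => exact map_zero _
      | add r w _ _ hr hw => rw [map_add, hr, hw, add_zero]
      | smul c r _ hr => rw [map_smul, hr, smul_zero]
    have e1 := hvan l₁ hl₁ _ hC
    have e2 := hvan l₂ hl₂ _ hC
    simp only [map_add, map_smul, smul_eq_mul, hq₁ l₁ hl₁ hl₁i, hq₂ l₁ hl₁ hl₁i, h12, mul_zero,
      add_zero] at e1
    have hα := (mul_eq_zero.mp e1).resolve_right h11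
    simp only [map_add, map_smul, smul_eq_mul, hq₂ l₂ hl₂ hl₂i, hα, zero_mul, zero_add] at e2
    exact ⟨hα, (mul_eq_zero.mp e2).resolve_right h22⟩
  have hA1 : 0 < finrank K A := by
    refine Nat.pos_of_ne_zero fun h => hf0 ?_
    have := (hmemA f).mpr (by rw [hff, hff])
    rwa [Submodule.finrank_eq_zero.mp h, Submodule.mem_bot] at this
  refine ⟨d i, finrank K A, by omega, ?_, f, hff, ?_⟩
  · let Φ : LinearMap.range (LinearMap.mulLeft K e) ≃ₗ[K] (Fin (d i) → Fin (d i) → A) :=
      { toFun := fun x j k => ⟨u j * x * v k, huxv x j k⟩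
        map_add' := fun x y => by ext j k; simp [mul_add, add_mul]
        map_smul' := fun r x => by ext j k; simp
        invFun := fun c => ⟨∑ j, ∑ k, v j * c j k * u k, ⟨∑ j, ∑ k, v j * c j k * u k, by
          simp only [LinearMap.mulLeft_apply, Finset.mul_sum]
          refine Finset.sum_congr rfl fun j _ => Finset.sum_congr rfl fun k _ => ?_
          rw [he, mul_assoc, ← he (u k), (huv1 k).2.2]⟩⟩
        left_inv := fun x => Subtype.ext (by
          obtain ⟨y, hy⟩ := x.2
          have hx : e * (x : R) = x := by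
            rw [← hy, LinearMap.mulLeft_apply, ← mul_assoc, he2]
          calc ∑ j, ∑ k, v j * (u j * (x : R) * v k) * u k
              = (∑ j, v j * u j) * x * ∑ k, v k * u k := by
                simp only [Finset.sum_mul, Finset.mul_sum]
                rw [Finset.sum_comm]
                simp only [mul_assoc]
            _ = x := by rw [hsum, hx, ← he, hx])
        right_inv := fun c => by
          ext j k
          show u j * (∑ j', ∑ k', v j' * (c j' k' : R) * u k') * v k = c j k
          simp only [Finset.mul_sum, Finset.sum_mul]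
          rw [Finset.sum_eq_single j, Finset.sum_eq_single k]
          · rw [show u j * (v j * (c j k : R) * u k) * v k = (u j * v j) * c j k * (u k * v k) by
              simp only [mul_assoc], huv, huv, if_pos rfl, if_pos rfl, (hmemA _).mp (c j k).2]
          · intro k' _ hk
            rw [show u j * (v j * (c j k' : R) * u k') * v k = u j * v j * c j k' * (u k' * v k) by
              simp only [mul_assoc], huv k' k, if_neg hk, mul_zero]
          · simp
          · intro j' _ hj
            refine Finset.sum_eq_zero fun k' _ => ?_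
            rw [show u j * (v j' * (c j' k' : R) * u k') * v k = u j * v j' * (c j' k' * u k' * v k) by
              simp only [mul_assoc], huv, if_neg (Ne.symm hj), zero_mul]
          · simp }
    rw [Φ.finrank_eq, Module.finrank_pi_fintype, Finset.sum_congr rfl fun j _ =>
      Module.finrank_pi_fintype K]
    simp [mul_assoc]
  · let Ψ : LinearMap.range (LinearMap.mulRight K f) ≃ₗ[K] (Fin (d i) → A) :=
      { toFun := fun x j => ⟨u j * x, (hmemA _).mpr (by
          obtain ⟨y, hy⟩ := x.2
          rw [← hy, LinearMap.mulRight_apply, ← mul_assoc, ← mul_assoc, hfu]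
          simp only [mul_assoc, hff])⟩
        map_add' := fun x y => by ext j; simp [mul_add]
        map_smul' := fun r x => by ext j; simp
        invFun := fun c => ⟨∑ j, v j * c j, ⟨∑ j, v j * c j, by
          simp only [LinearMap.mulRight_apply, Finset.sum_mul]
          refine Finset.sum_congr rfl fun j _ => ?_
          have hc := (hmemA _).mp (c j).2
          rw [← hc]
          simp only [mul_assoc, hff]⟩⟩
        left_inv := fun x => Subtype.ext (by
          obtain ⟨y, hy⟩ := x.2
          show ∑ j, v j * (u j * (x : R)) = x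
          simp only [← mul_assoc, ← Finset.sum_mul, hsum]
          rw [← hy, LinearMap.mulRight_apply, ← mul_assoc, he y, mul_assoc, hef])
        right_inv := fun c => by
          ext j
          show u j * ∑ j', v j' * (c j' : R) = c j
          rw [Finset.mul_sum, Finset.sum_eq_single j]
          · rw [← mul_assoc, huv, if_pos rfl]
            conv_lhs => rw [← (hmemA _).mp (c j).2, ← mul_assoc, ← mul_assoc, hff]
            exact (hmemA _).mp (c j).2
          · intro j' _ hj
            rw [← mul_assoc, huv, if_neg (Ne.symm hj), zero_mul]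
          · simp }
    rw [Ψ.finrank_eq, Module.finrank_pi_fintype]
    simp

end Cfsg.Agent.DihBlock
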