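import Mathlib.GroupTheory.SpecificGroups.Dihedral
import Mathlib.GroupTheory.SpecificGroups.Cyclic
import Mathlib.GroupTheory.Index
import Mathlib.FieldTheory.Finite.Basic

/-!
# Dihedral subgroups of a finite group
-/

set_option autoImplicit false
set_option linter.style.haveILetI false
set_option linter.unusedSectionVars false

namespace Cfsg.Agent.DihBlock

universe u

variable {G : Type u} [Group G] [Finite G]

/-- A dihedral subgroup with a generator of its rotations. -/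
structure DihSub (D : Subgroup G) where
  n : ℕ
  σ : G
  hn : 3 ≤ n
  hσ : σ ∈ D
  hσo : orderOf σ = 2 ^ (n - 1)
  hcard : Nat.card D = 2 ^ n
  hrefl : ∀ x ∈ D, x ∉ Subgroup.zpowers σ → x * x = 1 ∧ x * σ * x⁻¹ = σ⁻¹
  hindex : ∀ x ∈ D, ∀ y ∈ D, x ∉ Subgroup.zpowers σ → y ∉ Subgroup.zpowers σ →
    x⁻¹ * y ∈ Subgroup.zpowers σ

open DihedralGroup in
theorem exists_dihSub {D : Subgroup G} {n : ℕ} (hn : 3 ≤ n)
    (e : D ≃* DihedralGroup (2 ^ (n - 1))) : ∃ S : DihSub D, S.n = n := by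
  haveI : NeZero (2 ^ (n - 1)) := ⟨by positivity⟩
  obtain ⟨σ, hσ⟩ : ∃ σ : D, σ = e.symm (DihedralGroup.r 1) := ⟨_, rfl⟩
  have hrot : ∀ x : D, (x : G) ∈ Subgroup.zpowers (σ : G) ↔ ∃ i, e x = DihedralGroup.r i := by
    intro x
    constructor
    · intro h
      obtain ⟨k, hk⟩ := mem_powers_iff_mem_zpowers.mpr h
      refine ⟨(k : ZMod _), ?_⟩
      have hx : x = σ ^ k := Subtype.ext (by simpa using hk.symm)
      rw [hx, map_pow, hσ, MulEquiv.apply_symm_apply, DihedralGroup.r_one_pow]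
    · rintro ⟨i, hi⟩
      refine mem_powers_iff_mem_zpowers.mp ⟨i.val, ?_⟩
      have hx : x = σ ^ i.val := e.injective (by
        rw [hi, map_pow, hσ, MulEquiv.apply_symm_apply, DihedralGroup.r_one_pow,
          ZMod.natCast_zmod_val])
      rw [hx]; simp
  have hrefl : ∀ x : D, (x : G) ∉ Subgroup.zpowers (σ : G) → ∃ i, e x = DihedralGroup.sr i := by
    intro x hx
    rcases hv : e x with i | i
    · exact absurd ((hrot x).mpr ⟨i, hv⟩) hx
    · exact ⟨i, rfl⟩
  refine ⟨⟨n, σ, hn, σ.2, ?_, ?_, ?_, ?_⟩, rfl⟩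
  · rw [Subgroup.orderOf_coe, hσ, MulEquiv.orderOf_eq, DihedralGroup.orderOf_r_one]
  · rw [Nat.card_congr e.toEquiv, DihedralGroup.nat_card, ← pow_succ', Nat.sub_add_cancel (by omega)]
  · intro x hx hnot
    obtain ⟨i, hi⟩ := hrefl ⟨x, hx⟩ hnot
    refine ⟨?_, ?_⟩
    · have : (⟨x, hx⟩ : D) * ⟨x, hx⟩ = 1 := e.injective (by
        rw [map_mul, hi, DihedralGroup.sr_mul_self, map_one])
      exact congrArg Subtype.val this
    · have : (⟨x, hx⟩ : D) * σ * (⟨x, hx⟩ : D)⁻¹ = σ⁻¹ := e.injective (by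
        rw [map_mul, map_mul, map_inv, map_inv, hi, hσ, MulEquiv.apply_symm_apply, inv_sr, inv_r,
          sr_mul_r, sr_mul_sr]
        congr 1
        ring)
      exact congrArg Subtype.val this
  · intro x hx y hy hnx hny
    obtain ⟨i, hi⟩ := hrefl ⟨x, hx⟩ hnx
    obtain ⟨j, hj⟩ := hrefl ⟨y, hy⟩ hny
    exact (hrot ((⟨x, hx⟩ : D)⁻¹ * ⟨y, hy⟩)).mpr ⟨j - i, by
      rw [map_mul, map_inv, hi, hj, inv_sr, sr_mul_sr]⟩

namespace DihSub

variable {D : Subgroup G} (S : DihSub D)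

/-- The order of the rotations. -/
def m : ℕ := 2 ^ (S.n - 1)

/-- Half of it. -/
def h : ℕ := 2 ^ (S.n - 2)

/-- The central involution. -/
def z : G := S.σ ^ S.h

theorem two_h : S.m = 2 * S.h := by
  rw [m, h, ← pow_succ']
  congr 1
  have := S.hn
  omega

theorem h_pos : 0 < S.h := pow_pos (by norm_num) _

theorem two_le_h : 2 ≤ S.h := by
  have := S.hn
  calc 2 = 2 ^ 1 := by norm_num
    _ ≤ S.h := Nat.pow_le_pow_right (by norm_num) (by omega)

theorem m_pos : 0 < S.m := pow_pos (by norm_num) _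

theorem h_even : Even S.h := by
  rw [h]
  exact Nat.even_pow.mpr ⟨even_two, by have := S.hn; omega⟩

theorem h_cases : S.h = 2 ∨ S.h = 4 ∨ 8 ≤ S.h := by
  have := S.hn
  rcases Nat.lt_or_ge S.n 5 with hlt | hge
  · rcases Nat.lt_or_ge S.n 4 with h' | h'
    · left; rw [h, show S.n - 2 = 1 by omega, pow_one]
    · right; left; rw [h, show S.n - 2 = 2 by omega]; norm_num
  · right; right
    calc 8 = 2 ^ 3 := by norm_num
      _ ≤ S.h := Nat.pow_le_pow_right (by norm_num) (by omega)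

theorem two_m : 2 ^ S.n = 2 * S.m := by
  rw [m, ← pow_succ', Nat.sub_add_cancel (by have := S.hn; omega)]

theorem orderOf_σ : orderOf S.σ = S.m := S.hσo

theorem z_mem : S.z ∈ D := pow_mem S.hσ _

theorem z_sq : S.z * S.z = 1 := by
  rw [z, ← pow_add, ← two_mul, ← S.two_h, ← S.orderOf_σ, pow_orderOf_eq_one]

theorem z_ne_one : S.z ≠ 1 := fun e => by
  have h1 := Nat.le_of_dvd S.h_pos (orderOf_dvd_of_pow_eq_one (show S.σ ^ S.h = 1 from e))
  rw [S.orderOf_σ, S.two_h] at h1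
  have := S.h_pos
  omega

theorem pow_inj {k l : ℕ} (hk : k < S.m) (hl : l < S.m) (e : S.σ ^ k = S.σ ^ l) : k = l :=
  pow_injOn_Iio_orderOf (by rw [Set.mem_Iio, S.orderOf_σ]; exact hk)
    (by rw [Set.mem_Iio, S.orderOf_σ]; exact hl) e

theorem pow_ne_one {l : ℕ} (hl : 0 < l) (hlm : l < S.m) : S.σ ^ l ≠ 1 := fun e =>
  hl.ne' (S.pow_inj hlm S.m_pos (e.trans (pow_zero _).symm))

theorem exists_pow {x : G} (hx : x ∈ Subgroup.zpowers S.σ) : ∃ k < S.m, x = S.σ ^ k := by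
  obtain ⟨k, hk⟩ := mem_powers_iff_mem_zpowers.mpr hx
  refine ⟨k % S.m, Nat.mod_lt _ S.m_pos, ?_⟩
  rw [← hk, ← S.orderOf_σ]
  exact (pow_mod_orderOf _ _).symm

theorem pow_inv {l : ℕ} (hl : l ≤ S.m) : S.σ ^ (S.m - l) = (S.σ ^ l)⁻¹ := by
  refine eq_inv_of_mul_eq_one_left ?_
  rw [← pow_add, Nat.sub_add_cancel hl, ← S.orderOf_σ, pow_orderOf_eq_one]

theorem sq_eq_one_mem {x : G} (hx : x ∈ Subgroup.zpowers S.σ) (h2 : x * x = 1) :
    x = 1 ∨ x = S.z := by
  obtain ⟨k, hk, rfl⟩ := S.exists_pow hx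
  rw [← pow_add, ← two_mul] at h2
  have hd := orderOf_dvd_of_pow_eq_one h2
  rw [S.orderOf_σ, S.two_h] at hd
  obtain ⟨c, hc⟩ := (Nat.mul_dvd_mul_iff_left (by norm_num : 0 < 2)).mp hd
  have h2h := S.two_h
  have hc2 : c < 2 := by
    by_contra hge
    have : S.h * 2 ≤ S.h * c := Nat.mul_le_mul_left _ (by omega)
    omega
  interval_cases c
  · left; rw [hc, mul_zero, pow_zero]
  · right; rw [hc, mul_one]; rfl

theorem z_commute {x : G} (hx : x ∈ D) : Commute x S.z := by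
  by_cases h' : x ∈ Subgroup.zpowers S.σ
  · obtain ⟨k, -, rfl⟩ := S.exists_pow h'
    exact Commute.pow_pow_self _ _ _
  · have h2 := (S.hrefl x hx h').2
    have h3 : x * S.z * x⁻¹ = S.z := by
      rw [z, ← conj_pow, h2, inv_pow]
      exact inv_eq_of_mul_eq_one_right S.z_sq
    exact mul_inv_eq_iff_eq_mul.mp h3

theorem exists_refl : ∃ τ ∈ D, τ ∉ Subgroup.zpowers S.σ := by
  by_contra hcon
  push Not at hcon
  have := Subgroup.card_le_of_le (K := Subgroup.zpowers S.σ) fun x hx => hcon x hx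
  rw [S.hcard, Nat.card_zpowers, S.orderOf_σ, S.two_m] at this
  have := S.m_pos
  omega

theorem zpowers_le : Subgroup.zpowers S.σ ≤ D := Subgroup.zpowers_le.mpr S.hσ

/-- The centralizer in `D` of a rotation of order at least four. -/
theorem centralizer_rot {l : ℕ} (hl : 0 < l) (hlm : l < S.m) (hlh : l ≠ S.h) :
    D ⊓ Subgroup.centralizer ({S.σ ^ l} : Set G) = Subgroup.zpowers S.σ := by
  refine le_antisymm (fun x hx => ?_) (le_inf S.zpowers_le fun x hx => ?_)
  · by_contra hnot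
    have hc : x * S.σ ^ l = S.σ ^ l * x := Subgroup.mem_centralizer_singleton_iff.mp hx.2
    have h1 : x * S.σ ^ l * x⁻¹ = S.σ ^ l := by rw [hc, mul_inv_cancel_right]
    rw [← conj_pow, (S.hrefl x hx.1 hnot).2, inv_pow, ← S.pow_inv hlm.le] at h1
    have := S.pow_inj (show S.m - l < S.m by omega) hlm h1
    have := S.two_h
    omega
  · obtain ⟨k, -, rfl⟩ := S.exists_pow hx
    exact Subgroup.mem_centralizer_singleton_iff.mpr (Commute.pow_pow_self _ _ _).eq

theorem card_centralizer_z : D ⊓ Subgroup.centralizer ({S.z} : Set G) = D :=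
  inf_eq_left.mpr fun _ hx => Subgroup.mem_centralizer_singleton_iff.mpr (S.z_commute hx).eq

/-- A nontrivial rotation has the central involution among its powers. -/
theorem z_mem_zpowers {l : ℕ} (hl : 0 < l) (hlm : l < S.m) :
    S.z ∈ Subgroup.zpowers (S.σ ^ l) := by
  obtain ⟨y, hy⟩ : ∃ y : Subgroup.zpowers (S.σ ^ l), orderOf y = 2 := by
    refine @exists_prime_orderOf_dvd_card' _ _ _ 2 ⟨Nat.prime_two⟩ ?_
    rw [Nat.card_zpowers]
    obtain ⟨i, -, hi⟩ := (Nat.dvd_prime_pow Nat.prime_two).mp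
      ((orderOf_pow_dvd l).trans (S.hσo.dvd) : orderOf (S.σ ^ l) ∣ 2 ^ (S.n - 1))
    rcases Nat.eq_zero_or_pos i with rfl | hi0
    · exact absurd (orderOf_eq_one_iff.mp (hi.trans (pow_zero _))) (S.pow_ne_one hl hlm)
    · rw [hi]; exact dvd_pow_self 2 hi0.ne'
  have hy2 : (y : G) * (y : G) = 1 := by
    have := pow_orderOf_eq_one y
    rw [hy, sq] at this
    exact congrArg Subtype.val this
  rcases S.sq_eq_one_mem ((Subgroup.zpowers_le.mpr (pow_mem (Subgroup.mem_zpowers _) l)) y.2) hy2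
    with h' | h'
  · exact absurd (Subtype.ext h' : y = 1) fun e => by rw [e, orderOf_one] at hy; omega
  · exact h' ▸ y.2

/-- An odd element fixing the central involution and normalizing a subgroup containing it. -/
theorem fix_of_odd {Q : Subgroup G} (hQ : Q ≤ D) (hz : S.z ∈ Q) {x : G} (hx : Odd (orderOf x))
    (hxz : Commute x S.z) (hN : ∀ q ∈ Q, x * q * x⁻¹ ∈ Q) : ∀ q ∈ Q, Commute x q := by
  obtain ⟨R, hR⟩ : ∃ R, R = Q ⊓ Subgroup.zpowers S.σ := ⟨_, rfl⟩
  haveI : IsCyclic R := Subgroup.isCyclic_of_le (hR ▸ inf_le_right : R ≤ Subgroup.zpowers S.σ)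
  obtain ⟨⟨r, hrR⟩, hr⟩ := IsCyclic.exists_generator (α := R)
  have hgen : ∀ y ∈ R, y ∈ Subgroup.zpowers r := fun y hy => by
    obtain ⟨k, hk⟩ := hr ⟨y, hy⟩
    exact ⟨k, by simpa using congrArg Subtype.val hk⟩
  have hrQ : r ∈ Q ∧ r ∈ Subgroup.zpowers S.σ := by rw [hR] at hrR; exact hrR
  have hzR : S.z ∈ R := hR ▸ ⟨hz, pow_mem (Subgroup.mem_zpowers _) _⟩
  have hr1 : x * r * x⁻¹ ∈ R := by
    by_cases h2 : r * r = 1
    · rcases S.sq_eq_one_mem hrQ.2 h2 with h' | h'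
      · rw [h', mul_one, mul_inv_cancel]; exact R.one_mem
      · rw [h', hxz.eq, mul_inv_cancel_right]; exact hzR
    · rw [hR]
      refine ⟨hN r hrQ.1, ?_⟩
      by_contra hnot
      have h3 := (S.hrefl _ (hQ (hN r hrQ.1)) hnot).1
      apply h2
      have h4 : x * (r * r) * x⁻¹ = 1 := by rw [← h3]; group
      exact conj_eq_one_iff.mp h4
  -- `x` fixes `r`
  have hrfix : Commute x r := by
    obtain ⟨i, hi⟩ := mem_powers_iff_mem_zpowers.mpr (hgen _ hr1)
    have hiter : ∀ k : ℕ, x ^ k * r * (x ^ k)⁻¹ = r ^ i ^ k := by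
      intro k
      induction k with
      | zero => simp
      | succ k ih =>
        calc x ^ (k + 1) * r * (x ^ (k + 1))⁻¹ = x * (x ^ k * r * (x ^ k)⁻¹) * x⁻¹ := by
              rw [pow_succ']; group
          _ = (x * r * x⁻¹) ^ i ^ k := by rw [ih, conj_pow]
          _ = _ := by rw [← hi, ← pow_mul, ← pow_succ']
    have h1 := hiter (orderOf x)
    rw [pow_orderOf_eq_one, one_mul, inv_one, mul_one] at h1
    obtain ⟨s, -, hs⟩ := (Nat.dvd_prime_pow Nat.prime_two).mp (show orderOf r ∣ 2 ^ (S.n - 1) by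
      rw [← S.hσo]; exact orderOf_dvd_of_mem_zpowers hrQ.2)
    have hmod : ((i : ZMod (2 ^ s)) ^ orderOf x) = 1 := by
      rw [← Nat.cast_pow, ← Nat.cast_one, ZMod.natCast_eq_natCast_iff, ← hs,
        ← pow_eq_pow_iff_modEq, pow_one, ← h1]
    have hi1 : (i : ZMod (2 ^ s)) = 1 := by
      haveI : NeZero (2 ^ s) := ⟨by positivity⟩
      obtain ⟨ui, hui⟩ := IsUnit.of_pow_eq_one hmod hx.pos.ne'
      have ho : orderOf ui ∣ orderOf x := orderOf_dvd_of_pow_eq_one
        (Units.ext (by rw [Units.val_pow_eq_pow_val, hui, hmod, Units.val_one]))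
      have ho2 : orderOf ui ∣ Nat.totient (2 ^ s) := by
        rw [← ZMod.card_units_eq_totient, ← Nat.card_eq_fintype_card]
        exact orderOf_dvd_natCard ui
      have hone : orderOf ui = 1 := by
        rcases Nat.eq_zero_or_pos s with rfl | hs0
        · simpa using ho2
        · rw [Nat.totient_prime_pow Nat.prime_two hs0, show (2 - 1 : ℕ) = 1 from rfl, mul_one] at ho2
          obtain ⟨t, -, ht⟩ := (Nat.dvd_prime_pow Nat.prime_two).mp ho2
          rcases Nat.eq_zero_or_pos t with rfl | ht0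
          · rwa [pow_zero] at ht
          · exact absurd ((dvd_pow_self 2 ht0.ne').trans (ht ▸ ho)) hx.not_two_dvd_nat
      rw [← hui, orderOf_eq_one_iff.mp hone, Units.val_one]
    have hri : r ^ i = r := by
      conv_rhs => rw [← pow_one r]
      rw [pow_eq_pow_iff_modEq, hs, ← ZMod.natCast_eq_natCast_iff, hi1, Nat.cast_one]
    exact mul_inv_eq_iff_eq_mul.mp (hi.symm.trans hri)
  have hfixR : ∀ y ∈ R, Commute x y := fun y hy => by
    obtain ⟨k, rfl⟩ := Subgroup.mem_zpowers_iff.mp (hgen y hy)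
    exact hrfix.zpow_right k
  intro q hq
  by_cases hqR : q ∈ Subgroup.zpowers S.σ
  · exact hfixR q (hR ▸ ⟨hq, hqR⟩)
  have hq' : x * q * x⁻¹ ∉ Subgroup.zpowers S.σ := fun hc => hqR (by
    have h1 : x * q * x⁻¹ ∈ R := hR ▸ ⟨hN q hq, hc⟩
    have h2 := hfixR _ h1
    have : x * q * x⁻¹ = q := by
      have h3 : x⁻¹ * (x * q * x⁻¹) * x = x * q * x⁻¹ := by rw [mul_assoc, ← h2.eq]; group
      conv_lhs => rw [← h3]
      group
    rwa [this] at hc)
  have hd := S.hindex q (hQ hq) _ (hQ (hN q hq)) hqR hq'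
  obtain ⟨w, hw⟩ : ∃ w, w = q⁻¹ * (x * q * x⁻¹) := ⟨_, rfl⟩
  have hwR : w ∈ R := by rw [hR, hw]; exact ⟨Q.mul_mem (Q.inv_mem hq) (hN q hq), hd⟩
  have hxq : x * q * x⁻¹ = q * w := by rw [hw]; group
  have hiter : ∀ k : ℕ, x ^ k * q * (x ^ k)⁻¹ = q * w ^ k := by
    intro k
    induction k with
    | zero => simp
    | succ k ih =>
      calc x ^ (k + 1) * q * (x ^ (k + 1))⁻¹ = x * (x ^ k * q * (x ^ k)⁻¹) * x⁻¹ := by
            rw [pow_succ']; group
        _ = (x * q * x⁻¹) * (x * w ^ k * x⁻¹) := by rw [ih]; group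
        _ = q * w * w ^ k := by
          rw [hxq, ((hfixR w hwR).pow_right k).eq, mul_inv_cancel_right]
        _ = _ := by rw [mul_assoc, ← pow_succ']
  have h1 := hiter (orderOf x)
  rw [pow_orderOf_eq_one, one_mul, inv_one, mul_one, eq_comm, mul_eq_left] at h1
  have hwo : orderOf w ∣ 2 ^ (S.n - 1) := by
    rw [← S.hσo]
    exact orderOf_dvd_of_mem_zpowers (by rw [hR] at hwR; exact hwR.2)
  obtain ⟨t, -, ht⟩ := (Nat.dvd_prime_pow Nat.prime_two).mp hwo
  rcases Nat.eq_zero_or_pos t with rfl | ht0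
  · rw [pow_zero, orderOf_eq_one_iff] at ht
    rw [ht, mul_one] at hxq
    exact mul_inv_eq_iff_eq_mul.mp hxq
  · exact absurd ((dvd_pow_self 2 ht0.ne').trans (ht ▸ orderOf_dvd_of_pow_eq_one h1))
      hx.not_two_dvd_nat

end DihSub

end Cfsg.Agent.DihBlock
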