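import Cfsg.Agent.Lib.DihBlock.Cols
import Cfsg.Agent.Lib.DihBlock.CornerSixteen
import Mathlib.FieldTheory.IsAlgClosed.Basic

/-!
# Functionals of class functions in characteristic two
-/

set_option autoImplicit false
set_option linter.style.haveILetI false
set_option linter.unusedSectionVars false

namespace Cfsg.Agent.DihBlock

open Cfsg.Agent.Blocks Cfsg.Agent.BPairs MonoidAlgebra
open scoped ComplexConjugate

universe u v

section Squares

variable {K : Type v} [Field K] {G : Type u} [Group G] [Fintype G]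

theorem ev_sq (h2 : (2 : K) = 0) {φ : G → K} (hφ : IsClassFn φ) (x : MonoidAlgebra K G) :
    ev φ (x * x) = ∑ g, x.coeff g ^ 2 * φ (g * g) := by
  have hdd : ∀ w : K, w + w = 0 := fun w => by rw [← two_mul, h2, zero_mul]
  have e : x = ∑ g, single g (x.coeff g) := eq_sum_single x
  conv_lhs => rw [e, Finset.sum_mul_sum]
  simp only [ev_sum, single_mul_single, ev_single]
  rw [sum_symm_diag hdd (fun g k => x.coeff g * x.coeff k * φ (g * k))
    (fun g k => by rw [hφ.mul_comm]; ring) Finset.univ]
  exact Finset.sum_congr rfl fun g _ => by ring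

theorem ev_pow_two_pow [IsAlgClosed K] (h2 : (2 : K) = 0) (N : ℕ) :
    ∀ {φ : G → K}, IsClassFn φ → ∀ x : MonoidAlgebra K G,
      ev φ (x ^ 2 ^ N) = ∑ g, x.coeff g ^ 2 ^ N * φ (g ^ 2 ^ N) := by
  induction N with
  | zero => intro φ _ x; simp [ev_eq_sum]
  | succ N ih =>
    intro φ hφ x
    haveI : CharP K 2 := CharTwo.of_one_ne_zero_of_two_eq_zero one_ne_zero h2
    choose r hr using fun w : K => IsAlgClosed.exists_pow_nat_eq w (by norm_num : 0 < 2)
    obtain ⟨ψ, hψ⟩ : ∃ ψ : G → K, ψ = fun g => r (φ (g * g)) := ⟨_, rfl⟩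
    have hψc : IsClassFn ψ := fun g k => by
      simp only [hψ]
      rw [show k * g * k⁻¹ * (k * g * k⁻¹) = k * (g * g) * k⁻¹ by group, hφ]
    rw [show x ^ 2 ^ (N + 1) = x ^ 2 ^ N * x ^ 2 ^ N by rw [← pow_add]; ring_nf, ev_sq h2 hφ]
    calc ∑ g, (x ^ 2 ^ N).coeff g ^ 2 * φ (g * g)
        = (∑ g, (x ^ 2 ^ N).coeff g * ψ g) ^ 2 := by
          rw [sum_pow_char 2]
          exact Finset.sum_congr rfl fun g _ => by rw [mul_pow, hψ, hr]
      _ = (ev ψ (x ^ 2 ^ N)) ^ 2 := by rw [ev_eq_sum]
      _ = _ := by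
          rw [ih hψc x, sum_pow_char 2]
          refine Finset.sum_congr rfl fun g _ => ?_
          rw [mul_pow, hψ, hr, ← pow_mul, ← pow_succ, ← pow_add, ← two_mul, ← pow_succ']

/-- A class function vanishing on the elements of odd order kills the idempotents. -/
theorem ev_idem_zero [IsAlgClosed K] (h2 : (2 : K) = 0) {φ : G → K} (hφ : IsClassFn φ)
    (h0 : ∀ y : G, ¬ 2 ∣ orderOf y → φ y = 0) {x : MonoidAlgebra K G} (hx : x * x = x) :
    ev φ x = 0 := by
  obtain ⟨N, hN⟩ : ∃ N, N = Nat.card G := ⟨_, rfl⟩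
  rw [← IsIdempotentElem.pow_eq hx (n := 2 ^ N) (pow_ne_zero _ two_ne_zero),
    ev_pow_two_pow h2 N hφ]
  refine Finset.sum_eq_zero fun g _ => ?_
  rw [h0 _ ?_, mul_zero]
  intro hd
  have hle : orderOf g ≤ N := hN ▸ orderOf_le_card
  have hpos := orderOf_pos g
  obtain ⟨a, r, hr, he⟩ := Nat.exists_eq_pow_mul_and_not_dvd hpos.ne' 2 (by norm_num)
  have ha : a ≤ N := by
    have h1 : 2 ^ a ≤ orderOf g := Nat.le_of_dvd hpos (he ▸ dvd_mul_right _ _)
    have := Nat.lt_two_pow_self (n := a)
    omega
  have h1 : orderOf (g ^ 2 ^ N) ∣ r := orderOf_dvd_of_pow_eq_one (by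
    rw [← pow_mul, show 2 ^ N * r = orderOf g * 2 ^ (N - a) by
      rw [he, mul_right_comm, ← pow_add, Nat.add_sub_cancel' ha], pow_mul, pow_orderOf_eq_one,
      one_pow])
  exact hr (hd.trans h1)

end Squares

section Trace

variable {G : Type u} [Group G] [Fintype G] {p : ℕ} {M : Ideal AlgInt} [M.IsPrime]

theorem phi_mem_loc (θ : IrrCharacter G) (g : G) (a : MonoidAlgebra (Res M) G) :
    phi p θ g a ∈ Loc M := by
  classical
  rw [phi, liftVal]
  split_ifs
  · exact Subtype.prop _
  · exact Subring.zero_mem _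

theorem psi_ind_eq [Fact p.Prime] {u : G} {a : MonoidAlgebra (Res M) G} (ha : a ∈ blkIdem M u)
    (θ : IrrCharacter G) {g : G} (hg : pPart p g = u) :
    Blocks.psi p (ind u a) θ g = phi p θ g a := by
  classical
  rw [psi, hg, Finset.sum_eq_single_of_mem a ha fun a' _ hne => ?_]
  · rw [ind, if_pos ⟨1, by group, conjA_one a⟩, one_mul]
  · rw [ind, if_neg, zero_mul]
    rintro ⟨c, h1, h2⟩
    refine hne (h2.symm.trans (isInv_iff_conjA.mp (blkIdem_isInv ha) c (mem_cz.mpr ?_)))
    exact mul_inv_eq_iff_eq_mul.mp h1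

/-- The functional of a column. -/
theorem exists_traceFun (hM : IsPModular 2 M) {B : Set (IrrCharacter G)} (hB : IsPBlock M B) {u : G}
    {a : MonoidAlgebra (Res M) G} {ν : IrrCharacter G → ℂ} {q : ℂ} (hu : Col 2 M u a ν q)
    (hu1 : u ≠ 1) (hi : InB M B u a) (θ : IrrCharacter G) :
    ∃ l : MonoidAlgebra (Res M) G →ₗ[Res M] Res M,
      l ∈ Corner.tracialOn (K := Res M) (bBar M B : MonoidAlgebra (Res M) G) ∧
      (∀ x, x * x = x → l x = 0) ∧
      (∀ (g : G) (w : Loc M), pPart 2 g = u → phi 2 θ g a = (w : ℂ) → l (single g 1) = red M w) ∧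
      ∀ g : G, ¬ IsConj u (pPart 2 g) → l (single g 1) = 0 := by
  classical
  haveI : Fact (Nat.Prime 2) := ⟨Nat.prime_two⟩
  haveI := charP_res hM
  haveI : IsAlgClosed (Res M) := isAlgClosed_res hM
  have hmem : ∀ g, Blocks.psi 2 (ind u a) θ g ∈ Loc M := fun g => by
    refine Subring.sum_mem _ fun b _ => ?_
    refine Subring.mul_mem _ ?_ (phi_mem_loc θ g b)
    rw [ind]
    split_ifs
    · exact Subring.one_mem _
    · exact Subring.zero_mem _
  obtain ⟨F, hF⟩ : ∃ F : G → Loc M, ∀ g, (F g : ℂ) = Blocks.psi 2 (ind u a) θ g :=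
    ⟨fun g => ⟨_, hmem g⟩, fun g => rfl⟩
  have hFc : IsClassFn F := fun g k => Subtype.ext (by
    rw [hF, hF]; exact isClassFunction_psi_ind hM u a θ g k)
  obtain ⟨φ, hφ⟩ : ∃ φ : G → Res M, φ = fun g => red M (F g) := ⟨_, rfl⟩
  have hφc : IsClassFn φ := fun g k => by simp only [hφ, hFc g k]
  have hzero : ∀ g : G, ¬ IsConj u (pPart 2 g) → F g = 0 := fun g hg => Subtype.ext (by
    rw [hF, psi, ZeroMemClass.coe_zero]
    refine Finset.sum_eq_zero fun b _ => ?_
    rw [ind, if_neg, zero_mul]
    rintro ⟨c, h1, -⟩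
    exact hg (isConj_iff.mpr ⟨c, h1⟩))
  let l : MonoidAlgebra (Res M) G →ₗ[Res M] Res M :=
    { toFun := ev φ
      map_add' := ev_add φ
      map_smul' := fun c x => by rw [ev_smul, RingHom.id_apply, smul_eq_mul] }
  refine ⟨l, ⟨fun x y => ev_mul_comm hφc x y, fun x => ?_⟩, fun x hx => ?_, fun g w hg hw => ?_,
    fun g hg => ?_⟩
  · show ev φ _ = ev φ x
    induction x using MonoidAlgebra.induction_linear with
    | zero => simp
    | add x y hx hy => rw [mul_add, ev_add, ev_add, hx, hy]
    | single g r =>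
      rw [show single g r = r • single g (1 : Res M) by simp, mul_smul_comm, ev_smul, ev_smul]
      congr 1
      have hA := blockCoeff_mem_loc (M := M) hB
      obtain ⟨E, hE⟩ : ∃ E : MonoidAlgebra (Loc M) G, E = (bIdem M B : MonoidAlgebra (Loc M) G) :=
        ⟨_, rfl⟩
      have key : ev F (E * single g 1) = F g := by
        have hsum : Blocks.psi 2 (ind u a) θ = ∑ χ : IrrCharacter G,
            classInner (Blocks.psi 2 (ind u a) θ) χ • (χ : G → ℂ) :=
          CT.classFunction_eq_sum (isClassFunction_psi_ind hM u a θ)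
        apply Subtype.ext
        have hcoe : ∀ X : MonoidAlgebra (Loc M) G, ((ev F X : Loc M) : ℂ) =
            ev (Blocks.psi 2 (ind u a) θ) (toC M G X) := by
          intro X
          induction X using MonoidAlgebra.induction_linear with
          | zero => simp
          | add x y hx hy => rw [ev_add, map_add, ev_add, AddMemClass.coe_add, hx, hy]
          | single g r => simp [hF]
        rw [hcoe, map_mul, hE, toC_bIdem hA, toC_single, hF]
        conv_rhs => rw [hsum]
        conv_lhs => rw [hsum, ev_sum_smul_fun]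
        rw [Finset.sum_apply]
        refine Finset.sum_congr rfl fun χ _ => ?_
        rw [ev_idemC_mul, Pi.smul_apply, smul_eq_mul]
        split_ifs with hχ
        · rw [ev_single, one_mul]
        · rw [classInner_ind hM hu, col_outside hM hB hu hi hχ]; simp
      have hev : ∀ X : MonoidAlgebra (Loc M) G, ev φ (redG M G X) = red M (ev F X) := by
        intro X
        induction X using MonoidAlgebra.induction_linear with
        | zero => simp
        | add x y hx hy => rw [map_add, ev_add, ev_add, map_add, hx, hy]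
        | single g r => simp [hφ]
      have hred : (bBar M B : MonoidAlgebra (Res M) G) * single g 1 = redG M G (E * single g 1) := by
        rw [map_mul, hE]
        simp only [mapRingHom_single, map_one]
        rfl
      rw [hred, hev, key, ev_single, one_mul, hφ]
  · exact ev_idem_zero (CharTwo.two_eq_zero) hφc (fun y hy => by
      rw [hφ]
      simp only
      rw [hzero y (by rw [pPart_of_regular hy]; exact fun h => hu1 (isConj_one_left.mp h)),
        map_zero]) hx
  · show ev φ _ = _
    rw [ev_single, one_mul, hφ]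
    simp only
    congr 1
    exact Subtype.ext (by rw [hF, psi_ind_eq hu.mem θ hg, hw])
  · show ev φ _ = _
    rw [ev_single, one_mul, hφ]
    simp only
    rw [hzero g hg, map_zero]

end Trace

end Cfsg.Agent.DihBlock
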