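import Cfsg.Agent.Lib.DihBlock.Rows
import Cfsg.Agent.Lib.Blocks.Regular

/-!
# Sections at which the part of the local character is a unit
-/

set_option autoImplicit false
set_option linter.style.haveILetI false
set_option linter.unusedSectionVars false

namespace Cfsg.Agent.DihBlock.Rot

open Cfsg.Agent.Blocks Cfsg.Agent.BPairs MonoidAlgebra
open scoped ComplexConjugate

universe u

variable {G : Type u} [Group G] [Fintype G] {M : Ideal AlgInt} [M.IsPrime]
  {B : Set (IrrCharacter G)} {L : LocalData M B} [Fintype (cz L.S.z)] [Fintype L.P'] (T : Rot L)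

/-- The values at the rotations are congruent. -/
theorem exists_red_nu (hM : IsPModular 2 M) (χ : IrrCharacter G) :
    ∃ n : Res M, ∀ l : ℕ, ∃ w : Loc M, (w : ℂ) = T.nu χ l ∧ red M w = n := by
  classical
  obtain ⟨d, ρ, hρ⟩ := T.isCharacter_theta χ
  obtain ⟨ω, hω, he⟩ := CT.exists_eigenvalues ρ (L.rot 1)
  have hint : ∀ i, ω i ∈ Loc M := fun i =>
    integral_mem_loc (IsIntegral.of_pow (orderOf_pos (L.rot 1)) (by rw [hω i]; exact isIntegral_one))
  have hone : ∀ i, red M (⟨ω i, hint i⟩ : Loc M) = 1 := fun i => by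
    refine red_root_eq_one hM (k := L.S.n - 1) (Subtype.ext ?_)
    have := hω i
    rw [orderOf_rot] at this
    simpa [DihSub.m] using this
  refine ⟨(d : Res M), fun l => ⟨∑ i, (⟨ω i, hint i⟩ : Loc M) ^ l, ?_, ?_⟩⟩
  · push_cast
    rw [nu, rot_pow, ← hρ, he]
  · rw [map_sum, Finset.sum_congr rfl fun i _ => by rw [map_pow, hone, one_pow]]
    simp

theorem odd_sqrt {H : Type*} [Group H] [Finite H] {s : H} (hs : ¬ 2 ∣ orderOf s) :
    ∃ t ∈ Subgroup.zpowers s, t * t = s := by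
  refine ⟨s ^ ((orderOf s + 1) / 2), pow_mem (Subgroup.mem_zpowers s) _, ?_⟩
  rw [← pow_add, show (orderOf s + 1) / 2 + (orderOf s + 1) / 2 = orderOf s + 1 by omega, pow_succ,
    pow_orderOf_eq_one, one_mul]

theorem commute_of_zpowers {H : Type*} [Group H] {x s t : H} (h : Commute x s)
    (ht : t ∈ Subgroup.zpowers s) : Commute x t := by
  obtain ⟨k, rfl⟩ := Subgroup.mem_zpowers_iff.mp ht
  exact h.zpow_right k

/-- A square in the section of the central involution with a unit value. -/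
theorem exists_unit_z (hM : IsPModular 2 M) {aC : MonoidAlgebra (Res M) (cz L.S.z)}
    (ha : BelAt 2 M L.P' L.c' ((L.rot L.S.h : L.P') : cz L.S.z) aC) :
    ∃ (g : cz L.S.z) (w : Loc M), pPart 2 (g * g) = L.rot L.S.h ∧
      phi 2 T.χ₀ (g * g) aC = (w : ℂ) ∧ red M w ≠ 0 := by
  classical
  haveI : Fact (Nat.Prime 2) := ⟨Nat.prime_two⟩
  haveI := charP_res hM
  obtain ⟨s, hs, hPs, -, -⟩ := defectGroup_spec (isDefectGroup_of_maximal hM L.hmax')
  have hsreg := regular_of_defectClass hM L.hf hs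
  obtain ⟨t, ht, htt⟩ := odd_sqrt hsreg
  obtain ⟨c, hc⟩ : ∃ c, L.S.h = c + c := L.S.h_even
  have hcomm : ∀ l, Commute ((L.rot l : L.P') : cz L.S.z) s := fun l =>
    Subgroup.mem_centralizer_singleton_iff.mp (hPs (L.rot l).2)
  have hu := exists_pow_eq_one_of_isPGroup L.hmax'.1.1.1 (L.rot L.S.h).2
  have hsq : (((L.rot c : L.P') : cz L.S.z) * t) * (((L.rot c : L.P') : cz L.S.z) * t) =
      ((L.rot L.S.h : L.P') : cz L.S.z) * s := by
    rw [(commute_of_zpowers (hcomm c) ht).symm.mul_mul_mul_comm, htt]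
    congr 1
    rw [rot_pow L.S.h, rot_pow c, hc, pow_add]
    rfl
  have hp : pPart 2 (((L.rot L.S.h : L.P') : cz L.S.z) * s) = L.rot L.S.h :=
    pPart_eq (isPPart_mk (hcomm _) hu hsreg)
  have htop : cz ((L.rot L.S.h : L.P') : cz L.S.z) = ⊤ := eq_top_iff.mpr fun v _ =>
    mem_cz.mpr (Subtype.ext (by
      rw [Subgroup.coe_mul, Subgroup.coe_mul, L.coe_rot]
      exact (mem_cz.mp v.2).eq))
  have hphi : phi 2 T.χ₀ (((L.rot L.S.h : L.P') : cz L.S.z) * s) aC =
      ((charL M T.χ₀ (((L.rot L.S.h : L.P') : cz L.S.z) * s) : Loc M) : ℂ) := by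
    rw [coe_charL, ← sum_phi (M := M) (p := 2) hM T.χ₀ _]
    refine (Finset.sum_eq_single_of_mem aC (hp.symm ▸ mem_blkIdem_of_belAt L.hmax' ha)
      fun a' ha' hne => phi_eq_zero_of_not_inB hM L.hf T.hχ₀ ha' fun hi => hne ?_).symm
    rw [hp] at ha' hi
    obtain ⟨k, hk⟩ := exists_belAt_of_inB hM L.hmax' hu ha' hi
    have hkc : Commute k ((L.rot L.S.h : L.P') : cz L.S.z) :=
      mem_cz.mp (htop ▸ Subgroup.mem_top k)
    rw [hkc.eq, mul_inv_cancel_right,
      isInv_iff_conjA.mp (blkIdem_isInv ha') k (htop ▸ Subgroup.mem_top k)] at hk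
    exact belAt_unique hM L.hmax' hk ha
  refine ⟨((L.rot c : L.P') : cz L.S.z) * t,
    charL M T.χ₀ (((L.rot L.S.h : L.P') : cz L.S.z) * s), by rw [hsq, hp], by rw [hsq, hphi], ?_⟩
  exact red_charL_defectClass_ne_zero hM L.hf hs T.hχ₀ T.h0 (hcomm _) hu

/-- A square in the section of the square of the generator with a unit value. -/
theorem exists_unit_two (hM : IsPModular 2 M) (h2 : 2 < L.S.h)
    {aC : MonoidAlgebra (Res M) (cz L.S.z)}
    (ha : BelAt 2 M L.P' L.c' ((L.rot 2 : L.P') : cz L.S.z) aC) :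
    ∃ (g : cz L.S.z) (w : Loc M), pPart 2 (g * g) = L.rot 2 ∧
      phi 2 T.χ₀ (g * g) aC = (w : ℂ) ∧ red M w ≠ 0 := by
  classical
  haveI : Fact (Nat.Prime 2) := ⟨Nat.prime_two⟩
  haveI := charP_res hM
  obtain ⟨u, hudef⟩ : ∃ u : cz L.S.z, u = ((L.rot 2 : L.P') : cz L.S.z) := ⟨_, rfl⟩
  rw [← hudef] at ha ⊢
  have huP : u ∈ L.P' := hudef ▸ (L.rot 2).2
  have hx := exists_pow_eq_one_of_isPGroup L.hmax'.1.1.1 huP
  haveI := Fintype.ofFinite (cz u)
  obtain ⟨f, hle, he⟩ := id ha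
  have hfb : IsPBlock M f := (isBrauerPair_of_subpair hle L.hmax'.1.1 :
    IsBrauerPair 2 M (Subgroup.zpowers u) f).2
  have hpair := isBrauerPairOf_of_inB hM L.hf hx hfb (he ▸ inB_of_belAt hM L.hmax' ha)
  have hind := isInducedBlock_of_brauerPair hM hpair
  obtain ⟨ξ₀, hξ₀, -, hn⟩ := nilData hM _ (cz u) rfl f (isNilpotentBlock_centralizer hM L.hnil hpair)
  choose n hn using hn
  have hdef : IsDefectGroup 2 M f ((L.P' ⊓ cz u).subgroupOf (cz u)) :=
    centralizer_defect_of_fullyCentralized hM L.hmax' hle fun g hg => by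
      obtain ⟨y, hy, hyg⟩ := exists_mem_of_nilpotent hM L.hnil L.hmax' hle hg
      calc Nat.card (L.P' ⊓ Subgroup.centralizer (((Subgroup.zpowers u).map
            (MulAut.conj g).toMonoidHom : Subgroup (cz L.S.z)) : Set (cz L.S.z)) : Subgroup (cz L.S.z))
          ≤ Nat.card ((L.P' ⊓ cz u).map (MulAut.conj y).toMonoidHom : Subgroup (cz L.S.z)) := by
            refine Subgroup.card_le_of_le fun w hw => ⟨y⁻¹ * w * y,
              ⟨L.P'.mul_mem (L.P'.mul_mem (L.P'.inv_mem hy) hw.1) hy, mem_cz.mpr ?_⟩,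
              by simp [mul_assoc]⟩
            have h1 : u = y⁻¹ * g * u * (y⁻¹ * g)⁻¹ := by
              rw [(mem_cz.mp hyg).eq, mul_inv_cancel_right]
            have h2 : Commute w (g * u * g⁻¹) :=
              (Subgroup.mem_centralizer_iff.mp hw.2 _ ⟨u, Subgroup.mem_zpowers _, rfl⟩).symm
            rw [h1]
            have h3 : Commute (y⁻¹ * w * (y⁻¹)⁻¹) (y⁻¹ * (g * u * g⁻¹) * (y⁻¹)⁻¹) :=
              h2.map (MulAut.conj y⁻¹).toMonoidHom
            simpa [mul_assoc] using h3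
        _ = _ := card_map_conj _ _
  obtain ⟨s, hs, hPs, -, -⟩ := defectGroup_spec hdef
  have hsreg := regular_of_defectClass hM hfb hs
  have hσu : Commute ((L.rot 1 : L.P') : cz L.S.z) u := by
    rw [hudef, rot_pow 2, SubgroupClass.coe_pow]
    exact (Commute.refl _).pow_right 2
  have hσs : Commute ((L.rot 1 : L.P') : cz L.S.z) (s : cz L.S.z) :=
    congrArg Subtype.val (Subgroup.mem_centralizer_singleton_iff.mp (hPs
      (show (⟨_, mem_cz.mpr hσu⟩ : cz u) ∈ (L.P' ⊓ cz u).subgroupOf (cz u) from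
        ⟨(L.rot 1).2, mem_cz.mpr hσu⟩)))
  have hsreg' : ¬ 2 ∣ orderOf (s : cz L.S.z) := by rwa [Subgroup.orderOf_coe]
  obtain ⟨t, ht, htt⟩ := odd_sqrt hsreg'
  have hsq : (((L.rot 1 : L.P') : cz L.S.z) * t) * (((L.rot 1 : L.P') : cz L.S.z) * t) =
      u * (s : cz L.S.z) := by
    rw [(commute_of_zpowers hσs ht).symm.mul_mul_mul_comm, htt]
    refine congrArg (· * _) (Eq.trans ?_ hudef.symm)
    rw [rot_pow 2, SubgroupClass.coe_pow, sq]
  obtain ⟨c, hc0, hc1, hc⟩ := exists_coeff_phi hM hx T.χ₀ hfb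
  have hcw : ∀ η, ∃ w : Loc M, red M w = 1 ∧ (η ∈ f → c η =
      (CT.mult (fun h : cz u => (T.χ₀ : cz L.S.z → ℂ) h) (η : cz u → ℂ) : ℂ) * (w : ℂ)) := by
    intro η
    by_cases hη : η ∈ f
    · obtain ⟨w, k, hw, -, hcη⟩ := hc1 η hη
      exact ⟨⟨w, integral_mem_loc (IsIntegral.of_pow (pow_pos two_pos k)
        (by rw [hw]; exact isIntegral_one))⟩, red_root_eq_one hM (Subtype.ext (by simpa using hw)),
        fun _ => hcη⟩
    · exact ⟨1, map_one _, fun h => absurd h hη⟩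
  choose w hw hcη using hcw
  obtain ⟨K, hK⟩ : ∃ K : Loc M, K = ∑ η, if h : η ∈ f then
      (CT.mult (fun h : cz u => (T.χ₀ : cz L.S.z → ℂ) h) (η : cz u → ℂ) : Loc M) * w η *
        (n η h : Loc M) else 0 := ⟨_, rfl⟩
  have hval : phi 2 T.χ₀ (u * (s : cz L.S.z)) aC = ((K * charL M ξ₀ s : Loc M) : ℂ) := by
    have h := hc s
    rw [if_neg hsreg, ← he] at h
    rw [h, MulMemClass.coe_mul, coe_charL, hK, AddSubmonoidClass.coe_finsetSum, Finset.sum_mul]
    refine Finset.sum_congr rfl fun η _ => ?_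
    rw [regFun, if_neg hsreg]
    split_ifs with hη
    · rw [hn η hη s hsreg, hcη η hη]
      push_cast
      ring
    · rw [hc0 η hη]; simp
  refine ⟨((L.rot 1 : L.P') : cz L.S.z) * t, K * charL M ξ₀ s, ?_, by rw [hsq, hval], ?_⟩
  · rw [hsq]
    exact pPart_eq (isPPart_mk (mem_cz.mp s.2).symm hx hsreg')
  have hξ0 : blockHeight 2 f (ξ₀ : cz u → ℂ) = 0 := by
    rw [blockHeight, Nat.sub_eq_zero_iff_le]
    refine le_csInf ⟨_, ξ₀, hξ₀, rfl⟩ ?_
    rintro _ ⟨η, hη, rfl⟩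
    have h1 := hn η hη 1 (by rw [orderOf_one]; norm_num)
    rw [charDegree_cast, charDegree_cast, ← Nat.cast_mul, Nat.cast_inj] at h1
    exact (Nat.factorization_le_iff_dvd (charDegree_pos ξ₀).ne' (charDegree_pos η).ne').mpr
      (h1 ▸ dvd_mul_left _ _) 2
  have h1 : red M (charL M ξ₀ ((1 : cz u) * s)) ≠ 0 :=
    red_charL_defectClass_ne_zero hM hfb hs hξ₀ hξ0 (Commute.one_left s) ⟨0, one_pow _⟩
  rw [one_mul] at h1
  rw [map_mul]
  refine mul_ne_zero (fun hK0 => red_sum_mult_ne_zero hM hind T.hχ₀ T.h0 hξ₀ ?_) h1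
  have hterm : ∀ η : IrrCharacter (cz u),
      (CT.mult (fun h : cz u => (T.χ₀ : cz L.S.z → ℂ) h) η : Res M) * red M (regS M 2 ξ₀ η) =
      red M (if h : η ∈ f then (CT.mult (fun h : cz u => (T.χ₀ : cz L.S.z → ℂ) h) (η : cz u → ℂ) : Loc M)
        * w η * (n η h : Loc M) else 0) * red M (regS M 2 ξ₀ ξ₀) := by
    intro η
    split_ifs with hη
    · have e : regS M 2 ξ₀ η = (n η hη : Loc M) * regS M 2 ξ₀ ξ₀ := by
        apply Subtype.ext
        apply mul_left_cancel₀ (CT.irr_one_ne_zero ξ₀.2)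
        rw [MulMemClass.coe_mul, SubringClass.coe_natCast, mul_left_comm, deg_mul_regS, deg_mul_regS,
          regPair, regPair, Finset.mul_sum]
        refine Finset.sum_congr rfl fun y _ => ?_
        split_ifs with hy
        · rw [mul_zero]
        · rw [hn η hη y hy, map_mul, map_natCast]; ring
      rw [e, map_mul, map_mul, map_mul, hw, map_natCast, map_natCast]
      ring
    · rw [regS_eq_zero hM fun h => hη ((mem_block_iff hfb hξ₀).mpr h), map_zero, mul_zero, zero_mul]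
  rw [Finset.sum_congr rfl fun η _ => hterm η, ← Finset.sum_mul, ← map_sum, ← hK, hK0, zero_mul]

end Cfsg.Agent.DihBlock.Rot
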