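import Cfsg.Agent.Lib.DihBlock.Invariants
import Cfsg.Agent.Lib.DihBlock.Units
import Cfsg.Agent.Lib.DihBlock.SquareTrace
import Cfsg.Agent.Lib.Blocks.OneSimple

/-!
# There is no block of the exceptional shape
-/

set_option autoImplicit false
set_option linter.style.haveILetI false
set_option linter.unusedSectionVars false

namespace Cfsg.Agent.DihBlock

open Cfsg.Agent.Blocks Cfsg.Agent.BPairs MonoidAlgebra Module
open scoped ComplexConjugate

universe u

variable {G : Type u} [Group G] [Fintype G] {M : Ideal AlgInt} [M.IsPrime]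
  {B : Set (IrrCharacter G)}

theorem pPart_coe_sq [Fact (Nat.Prime 2)] {H : Subgroup G} {g : H} {x : H}
    (h : pPart 2 (g * g) = x) : pPart 2 ((g : G) * (g : G)) = (x : G) := by
  rw [show (g : G) * (g : G) = ((g * g : H) : G) from rfl, pPart_coe, h]

namespace Rot

variable {L : LocalData M B} [Fintype (cz L.S.z)] [Fintype L.P'] (T : Rot L)

open Classical in
include T in
/-- Two functionals separating two squares. -/
theorem exists_two_funs (hM : IsPModular 2 M) (h4 : L.S.h = 4) {ζ : ℂ}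
    (hζ : IsPrimitiveRoot ζ L.S.m) {θ : IrrCharacter G} (hθ : ¬ (2 : ℤ) ∣ T.V hζ θ) :
    ∃ (l₁ l₂ : MonoidAlgebra (Res M) G →ₗ[Res M] Res M) (x₁ x₂ : MonoidAlgebra (Res M) G),
      l₁ ∈ Corner.tracialOn (K := Res M) (bBar M B : MonoidAlgebra (Res M) G) ∧
      l₂ ∈ Corner.tracialOn (K := Res M) (bBar M B : MonoidAlgebra (Res M) G) ∧
      (∀ g, g * g = g → l₁ g = 0) ∧ (∀ g, g * g = g → l₂ g = 0) ∧
      l₁ (x₁ * x₁) ≠ 0 ∧ l₁ (x₂ * x₂) = 0 ∧ l₂ (x₂ * x₂) ≠ 0 := by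
  haveI : Fact (Nat.Prime 2) := ⟨Nat.prime_two⟩
  haveI := charP_res hM
  have hh := L.S.two_h
  have hlh : L.S.h < L.S.m := by omega
  have hl2 : 2 < L.S.m := by omega
  have hB := L.hmax.1.2.1
  obtain ⟨az, haz, hGz, hcolz, hvalz⟩ := T.col hM L.S.h_pos hlh
  obtain ⟨a2, ha2, hG2, hcol2, hval2⟩ := T.col hM two_pos hl2
  obtain ⟨l₁, hl₁, hl₁i, hl₁v, hl₁0⟩ := exists_traceFun hM hB hcolz
    (L.S.pow_ne_one L.S.h_pos hlh) (inB_of_belAt hM L.hmax hGz) θ
  obtain ⟨l₂, hl₂, hl₂i, hl₂v, -⟩ := exists_traceFun hM hB hcol2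
    (L.S.pow_ne_one two_pos hl2) (inB_of_belAt hM L.hmax hG2) θ
  obtain ⟨g₁, w₁, hp₁, hw₁, hw₁0⟩ := T.exists_unit_z hM haz
  obtain ⟨g₂, w₂, hp₂, hw₂, hw₂0⟩ := T.exists_unit_two hM (by omega) ha2
  obtain ⟨n, hn⟩ := T.exists_red_nu hM θ
  have hn0 : n ≠ 0 := by
    obtain ⟨w, hw, hwn⟩ := hn L.S.h
    rw [← hwn, show w = (T.V hζ θ : Loc M) from Subtype.ext (by rw [hw, T.nu_h hζ]; simp), map_intCast]
    exact mt (CharP.intCast_eq_zero_iff (Res M) 2 _).mp hθ
  have hP₁ := pPart_coe_sq hp₁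
  have hP₂ := pPart_coe_sq hp₂
  rw [L.coe_rot] at hP₁ hP₂
  obtain ⟨v₁, hv₁, hv₁n⟩ := hn L.S.h
  obtain ⟨v₂, hv₂, hv₂n⟩ := hn 2
  refine ⟨l₁, l₂, single (g₁ : G) 1, single (g₂ : G) 1, hl₁, hl₂, hl₁i, hl₂i, ?_, ?_, ?_⟩
  · rw [single_mul_single, mul_one, hl₁v _ (v₁ * w₁) hP₁ (by
      rw [show (g₁ : G) * (g₁ : G) = ((g₁ * g₁ : cz L.S.z) : G) from rfl, hvalz θ _ hp₁, hw₁,
        MulMemClass.coe_mul, hv₁]), map_mul, hv₁n]
    exact mul_ne_zero hn0 hw₁0
  · rw [single_mul_single, mul_one]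
    refine hl₁0 _ fun hc => ?_
    rw [hP₂] at hc
    obtain ⟨k, hk⟩ := isConj_iff.mp hc
    have h1 : (L.S.σ ^ 2) ^ 2 = 1 := by
      rw [← hk, conj_pow, ← pow_mul, show L.S.h * 2 = L.S.m by omega, ← L.S.orderOf_σ,
        pow_orderOf_eq_one, mul_one, mul_inv_cancel]
    rw [← pow_mul] at h1
    exact L.S.pow_ne_one (by norm_num) (by omega) h1
  · rw [single_mul_single, mul_one, hl₂v _ (v₂ * w₂) hP₂ (by
      rw [show (g₂ : G) * (g₂ : G) = ((g₂ * g₂ : cz L.S.z) : G) from rfl, hval2 θ _ hp₂, hw₂,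
        MulMemClass.coe_mul, hv₂]), map_mul, hv₂n]
    exact mul_ne_zero hn0 hw₂0

open Classical in
include T in
/-- The exceptional shape does not occur. -/
theorem not_exceptional (hM : IsPModular 2 M) {ζ : ℂ} (hζ : IsPrimitiveRoot ζ L.S.m)
    (h4 : L.S.h = 4) (h5 : Nat.card B ≤ 5) : False := by
  haveI : Fact (Nat.Prime 2) := ⟨Nat.prime_two⟩
  haveI := charP_res hM
  haveI : IsAlgClosed (Res M) := isAlgClosed_res hM
  haveI : FiniteDimensional (Res M) (MonoidAlgebra (Res M) G) :=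
    Module.Finite.of_basis (MonoidAlgebra.basis G (Res M))
  have hh := L.S.two_h
  have hB := L.hmax.1.2.1
  have hlow := one_le_blockRank hB
  have hup := T.blockRank_add_le hM
  have hl : blockRank 2 B = 1 := by omega
  have hk : Nat.card B = 5 := by omega
  -- a member with odd value at the involution
  obtain ⟨θ, hθ⟩ : ∃ θ : IrrCharacter G, ¬ (2 : ℤ) ∣ T.V hζ θ := by
    by_contra hcon
    push Not at hcon
    obtain ⟨hind, hd⟩ := local_defect (L := L) hM
    obtain ⟨t, -, hphi⟩ := T.phi_z hζ hM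
    have hsum : ∑ χ, T.V hζ χ * T.V hζ χ = 16 := by
      refine (Int.cast_inj (α := ℂ)).mp ?_
      push_cast
      simp only [← T.nu_h hζ]
      rw [T.inner hM L.S.h_pos (show L.S.h < L.S.m by omega) L.S.h_pos (by omega), if_pos rfl,
        if_pos (by omega), show L.S.m = 8 by omega]
      norm_num
    have hge : ∀ χ ∈ B.toFinset, (4 : ℤ) ≤ T.V hζ χ * T.V hζ χ := by
      intro χ hχ
      have hne : T.V hζ χ ≠ 0 := fun h => phi_ne_zero_of_full_defect hM
        (exists_pow_eq_one_of_isPGroup L.hmax.1.1.1 L.S.z_mem) hind hd (Set.mem_toFinset.mp hχ)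
        (by rw [hphi, h, Int.cast_zero, zero_mul])
      obtain ⟨c, hc⟩ := hcon χ
      rw [hc] at hne ⊢
      have : 0 < c * c := mul_self_pos.mpr fun e => hne (by rw [e, mul_zero])
      linarith
    have h20 := (Finset.card_nsmul_le_sum B.toFinset _ 4 hge).trans
      (Finset.sum_le_sum_of_subset_of_nonneg (Finset.subset_univ _) fun χ _ _ => mul_self_nonneg _)
    rw [hsum, Set.toFinset_card, ← Nat.card_eq_fintype_card, hk] at h20
    norm_num at h20
  obtain ⟨l₁, l₂, x₁, x₂, hl₁, hl₂, hl₁i, hl₂i, h11, h12, h22⟩ := T.exists_two_funs hM h4 hζ hθ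
  obtain ⟨χ, z, S, hχ, h0, hz, hzp, hS, hrel⟩ := exists_rank_one_relation hM hB hl
  have hA := blockCoeff_mem_loc (M := M) hB
  have he0 : (bBar M B : MonoidAlgebra (Res M) G) ≠ 0 := fun h =>
    bBar_ne_zero (M := M) hB (Subtype.ext h)
  obtain ⟨n, m, ⟨hm1, hm16⟩, hdim, f, hff, hfdim⟩ := exists_corner_dims_sixteen
    CharTwo.two_eq_zero (coeffOne (Res M) G) isTracial_coeffOne coeffOne_nondeg
    (fun x => (Subring.mem_center_iff.mp (bBar M B).2 x).symm)
    (congrArg Subtype.val (bBar_mul_self (M := M) hA)) he0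
    (fun φ ψ hφ hψ hφm hψm => not_indep_modTrace hM hB hl φ ψ hφ hψ hφm hψm)
    (centerSpan M B) (fun c hc hce => mem_centerSpan hc hce)
    ((finrank_centerSpan_le hB).trans h5) l₁ l₂ hl₁ hl₂ hl₁i hl₂i x₁ x₂ h11 h12 h22
  obtain ⟨Q⟩ : Nonempty (Sylow 2 G) := inferInstance
  have hdvd : 2 ^ (Nat.card G).factorization 2 ∣ n * m := by
    have := PFix.card_dvd_finrank_mulRight (p := 2) Q.isPGroup' hff
    rw [hfdim] at this
    rwa [Sylow.card_eq_multiplicity] at this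
  have hSn : S = ((n * n * m : ℕ) : ℤ) := by
    have := finrank_bBar hB
    rw [← hS, hdim] at this
    exact_mod_cast this.symm
  obtain ⟨a, ha⟩ : ∃ a, a = (Nat.card G).factorization 2 := ⟨_, rfl⟩
  obtain ⟨deg, hdeg⟩ : ∃ deg, deg = charDegree (χ : G → ℂ) := ⟨_, rfl⟩
  rw [← ha] at hdvd
  have hmain : 2 ^ (2 * a) ∣ m * 2 ^ blockDefect 2 B * deg ^ 2 := by
    have h1 : (2 ^ (2 * a) : ℕ) ∣ (n * m) ^ 2 := by
      rw [show 2 * a = a * 2 by ring, pow_mul]
      exact pow_dvd_pow_of_dvd hdvd 2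
    have h2 : ((2 ^ (2 * a) : ℕ) : ℤ) ∣ ((m * 2 ^ blockDefect 2 B * deg ^ 2 : ℕ) : ℤ) := by
      have e1 : ((m * 2 ^ blockDefect 2 B * deg ^ 2 : ℕ) : ℤ) = z * (((n * m) ^ 2 : ℕ) : ℤ) := by
        push_cast
        rw [hSn] at hrel
        push_cast at hrel
        rw [← hdeg] at hrel
        linear_combination -(m : ℤ) * hrel
      rw [e1]
      exact Dvd.dvd.mul_left (by exact_mod_cast h1) _
    exact_mod_cast h2
  have hm0 : m ≠ 0 := by omega
  have hdeg0 : deg ≠ 0 := hdeg ▸ (charDegree_pos χ).ne'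
  have hfac := (Nat.Prime.pow_dvd_iff_le_factorization Nat.prime_two
    (mul_ne_zero (mul_ne_zero hm0 (pow_ne_zero _ two_ne_zero)) (pow_ne_zero _ hdeg0))).mp hmain
  rw [Nat.factorization_mul (mul_ne_zero hm0 (pow_ne_zero _ two_ne_zero)) (pow_ne_zero _ hdeg0),
    Nat.factorization_mul hm0 (pow_ne_zero _ two_ne_zero), Nat.factorization_pow,
    Nat.factorization_pow] at hfac
  simp only [Finsupp.add_apply, Finsupp.smul_apply, smul_eq_mul, Nat.prime_two.factorization_self]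
    at hfac
  have hh' : a = blockDefect 2 B + deg.factorization 2 := by
    have := height_add (p := 2) hχ
    rwa [h0, zero_add, ← ha, ← hdeg] at this
  have h16 : 2 ^ blockDefect 2 B = 16 := by
    rw [← card_defectGroup hM hB (isDefectGroup_of_maximal hM L.hmax), L.S.hcard, L.S.two_m]
    omega
  have hdm : 2 ^ blockDefect 2 B ∣ m :=
    (Nat.Prime.pow_dvd_iff_le_factorization Nat.prime_two hm0).mpr (by omega)
  rw [h16] at hdm
  have := Nat.le_of_dvd (by omega) hdm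
  omega

end Rot

end Cfsg.Agent.DihBlock
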