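import Cfsg.Agent.Lib.DihBlock.Exclude

/-!
# The involutions of the defect group of a dihedral block of rank three
-/

set_option autoImplicit false
set_option linter.style.haveILetI false
set_option linter.unusedSectionVars false

namespace Cfsg.Agent.DihBlock

open Cfsg.Agent.Blocks Cfsg.Agent.BPairs MonoidAlgebra
open scoped ComplexConjugate

universe u

variable {G : Type u} [Group G] [Fintype G] {p : ℕ} {M : Ideal AlgInt} [M.IsPrime]

/-- The expansion of a section is supported in the block of the section. -/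
theorem classInner_psi_outside (hM : IsPModular p M) [Fact p.Prime] {B : Set (IrrCharacter G)}
    (hB : IsPBlock M B) {u : G} {a : MonoidAlgebra (Res M) G} (hi : InB M B u a)
    (θ : IrrCharacter G) {χ : IrrCharacter G} (hχ : χ ∉ B) :
    classInner (Blocks.psi p (ind u a) θ) (χ : G → ℂ) = 0 := by
  classical
  rw [← psi_one (M := M) (p := p) hM χ, classInner, sum_psi_mul hM θ χ]
  refine mul_eq_zero_of_right _ (Finset.sum_eq_zero fun g _ => Finset.sum_eq_zero fun a' ha' => ?_)
  by_cases h : ∃ c, c * u * c⁻¹ = pPart p g ∧ conjA c a = a'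
  · obtain ⟨c, h1, h2⟩ := h
    have hin : InB M B (pPart p g) a' := by
      rw [← h1, ← h2]; exact (inB_conj c u a).mpr hi
    rw [phi_eq_zero_of_inB hM hB hχ ha' hin, map_zero, mul_zero, mul_zero]
  · rw [ind, if_neg h, zero_mul, zero_mul]

namespace Rot

variable {B : Set (IrrCharacter G)} {L : LocalData M B} [Fintype (cz L.S.z)] [Fintype L.P']
  (T : Rot L)

include T in
theorem isConj_z_of_rank_three (hM : IsPModular 2 M) (hl : blockRank 2 B = 3) {τ : G}
    (hτ : τ ∈ L.P) (h2 : τ * τ = 1) (h1 : τ ≠ 1) : IsConj τ L.S.z := by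
  classical
  haveI : Fact (Nat.Prime 2) := ⟨Nat.prime_two⟩
  haveI : Fintype B := Fintype.ofFinite B
  by_contra hcon
  have hB := L.hmax.1.2.1
  obtain ⟨f, hf, hbel⟩ := exists_belAt hM L.hmax ⟨τ, hτ⟩
  dsimp only at hbel
  have hux := exists_pow_eq_one_of_isPGroup L.hmax.1.1.1 hτ
  have hin := inB_of_belAt hM L.hmax hbel
  have hind := isInducedBlock_of_brauerPair hM (isBrauerPairOf_of_inB hM hB hux hf hin)
  have hmem := mem_blkIdem_of_belAt L.hmax hbel
  obtain ⟨χ', hχ', h0'⟩ := exists_height_zero (p := 2) hB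
  obtain ⟨y, hy, hne⟩ := exists_phi_ne_zero hM hux hind hχ' h0'
  obtain ⟨a, ha⟩ : ∃ a, a = bel M (cz τ) f := ⟨_, rfl⟩
  rw [← ha] at hin hmem hne
  have hg0 : pPart 2 (τ * (y : G)) = τ :=
    pPart_fiber hux y.2 (by rwa [Subgroup.orderOf_coe])
  have hψne : Blocks.psi 2 (ind τ a) χ' (τ * (y : G)) ≠ 0 := by
    rwa [psi_ind_eq hmem χ' hg0]
  obtain ⟨w, hw⟩ : ∃ w : IrrCharacter G → ℂ,
      ∀ χ, w χ = classInner (Blocks.psi 2 (ind τ a) χ') (χ : G → ℂ) := ⟨_, fun _ => rfl⟩
  have hout : ∀ χ, χ ∉ B → w χ = 0 := fun χ hχ => by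
    rw [hw]; exact classInner_psi_outside hM hB hin χ' hχ
  have hexp : ∀ g, Blocks.psi 2 (ind τ a) χ' g = ∑ χ : IrrCharacter G, w χ * (χ : G → ℂ) g := by
    intro g
    have h := congrFun (CT.classFunction_eq_sum (isClassFunction_psi_ind hM τ a χ')) g
    simpa [hw] using h
  have hsumB : ∀ g, Blocks.psi 2 (ind τ a) χ' g =
      ∑ χ : B, w χ * ((χ : IrrCharacter G) : G → ℂ) g := by
    intro g
    rw [hexp, ← Finset.sum_filter_add_sum_filter_not Finset.univ
      (fun χ : IrrCharacter G => χ ∈ B) (fun χ : IrrCharacter G => w χ * (χ : G → ℂ) g),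
      Finset.sum_eq_zero (s := Finset.univ.filter fun χ : IrrCharacter G => χ ∉ B) fun χ hχ => by
        rw [hout χ (Finset.mem_filter.mp hχ).2, zero_mul], add_zero]
    exact Finset.sum_subtype _ (fun χ => by simp) (fun χ : IrrCharacter G => w χ * (χ : G → ℂ) g)
  have h2h := L.S.two_h
  have hperp : ∀ l, 0 < l → l ≤ L.S.h → ∑ χ, w χ * T.nu χ l = 0 := by
    intro l hl0 hlh
    have hlm : l < L.S.m := by have := L.S.h_pos; omega
    obtain ⟨aC, -, -, hcol, -⟩ := T.col hM hl0 hlm
    obtain ⟨θ, -, hθ⟩ := T.exists_nu_ne_zero hM hl0 hlm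
    have hdis : ∀ g, ¬ (g * L.S.σ ^ l * g⁻¹ = τ ∧ conjA g (embH (cz L.S.z) aC) = a) := by
      rintro g ⟨hg, -⟩
      have hsq : L.S.σ ^ l * L.S.σ ^ l = 1 := by
        rw [← hg] at h2
        have : g * (L.S.σ ^ l * L.S.σ ^ l) * g⁻¹ = 1 := by rw [← h2]; group
        exact conj_eq_one_iff.mp this
      rcases L.S.sq_eq_one_mem (pow_mem (Subgroup.mem_zpowers _) l) hsq with h | h
      · exact L.S.pow_ne_one hl0 hlm h
      · exact hcon (isConj_comm.mp (isConj_iff.mpr ⟨g, h ▸ hg⟩))
    have h := classInner_ind_ind (p := 2) hM θ χ' hdis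
    rw [CT.classInner_eq_sum (isClassFunction_psi_ind hM τ a χ')] at h
    simp only [classInner_ind hM hcol, ← hw] at h
    rw [Finset.sum_congr rfl (g := fun χ => T.nu θ l / (L.qq l : ℂ) * conj (w χ * T.nu χ l))
      fun χ _ => by rw [map_mul, T.value_real]; ring, ← Finset.mul_sum, ← map_sum] at h
    have hq := hcol.q0
    have := (mul_eq_zero.mp h).resolve_left (div_ne_zero hθ hq)
    exact (map_eq_zero _).mp this
  obtain ⟨Φ, hΦ⟩ : ∃ Φ : (B → ℂ) →ₗ[ℂ] (G → ℂ), Φ = Fintype.linearCombination ℂ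
      (fun χ : B => pRegularPart 2 ((χ : IrrCharacter G) : G → ℂ)) := ⟨_, rfl⟩
  have hrange : Module.finrank ℂ (LinearMap.range Φ) = blockRank 2 B := by
    rw [blockRank, hΦ, Fintype.range_linearCombination, Set.image_eq_range]
  have hker : ∀ c : IrrCharacter G → ℂ, (∀ χ, χ ∉ B → c χ = 0) →
      (∀ y : G, ¬ 2 ∣ orderOf y → ∑ χ : IrrCharacter G, c χ * (χ : G → ℂ) y = 0) →
      (fun χ : B => c χ) ∈ LinearMap.ker Φ := by
    intro c hc hreg
    rw [LinearMap.mem_ker, hΦ, Fintype.linearCombination_apply]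
    funext g
    simp only [Finset.sum_apply, Pi.smul_apply, smul_eq_mul, Pi.zero_apply,
      pRegularPart, IsPRegular]
    by_cases hg : 2 ∣ orderOf g
    · simp [hg]
    · simp only [hg, not_false_eq_true, if_true]
      rw [← hreg g hg,
        ← Finset.sum_filter_add_sum_filter_not Finset.univ (fun χ : IrrCharacter G => χ ∈ B)
          (fun χ : IrrCharacter G => c χ * (χ : G → ℂ) g),
        Finset.sum_eq_zero (s := Finset.univ.filter fun χ : IrrCharacter G => χ ∉ B) fun χ hχ => by
          rw [hc χ (Finset.mem_filter.mp hχ).2, zero_mul], add_zero]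
      exact (Finset.sum_subtype _ (fun χ => by simp)
        (fun χ : IrrCharacter G => c χ * (χ : G → ℂ) g)).symm
  obtain ⟨cc, hcc⟩ : ∃ cc : Option (Fin L.S.h) → IrrCharacter G → ℂ,
      cc = fun o χ => o.elim (w χ) (fun i => T.nu χ (i + 1)) := ⟨_, rfl⟩
  have hcoutside : ∀ o χ, χ ∉ B → cc o χ = 0 := by
    rintro (_ | i) χ hχ <;> simp only [hcc, Option.elim]
    · exact hout χ hχ
    · exact T.outside hM (Nat.succ_pos i) (by omega) hχ
  have hcreg : ∀ o, ∀ g : G, ¬ 2 ∣ orderOf g →
      ∑ χ : IrrCharacter G, cc o χ * (χ : G → ℂ) g = 0 := by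
    rintro (_ | i) g hg <;> simp only [hcc, Option.elim]
    · rw [← hexp, Blocks.psi]
      refine Finset.sum_eq_zero fun b _ => ?_
      rw [ind, if_neg, zero_mul]
      rintro ⟨c, hc, -⟩
      rw [pPart_of_regular hg] at hc
      exact h1 (conj_eq_one_iff.mp hc)
    · exact T.reg hM (Nat.succ_pos i) (by omega) hg
  have hli : LinearIndependent ℂ fun o => (⟨fun χ : B => cc o χ,
      hker (cc o) (hcoutside o) (hcreg o)⟩ : LinearMap.ker Φ) := by
    rw [Fintype.linearIndependent_iff]
    intro c hc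
    have e : ∀ χ : IrrCharacter G, ∑ o, c o * cc o χ = 0 := by
      intro χ
      by_cases hχ : χ ∈ B
      · have := congrArg (fun v : LinearMap.ker Φ => (v : B → ℂ) ⟨χ, hχ⟩) hc
        simpa using this
      · exact Finset.sum_eq_zero fun o _ => by rw [hcoutside o χ hχ, mul_zero]
    have esome : ∀ i, c (some i) = 0 := by
      intro k
      have h3 : ∑ χ, (∑ o, c o * cc o χ) * T.nu χ (k + 1) = 0 :=
        Finset.sum_eq_zero fun χ _ => by rw [e, zero_mul]
      simp only [Fintype.sum_option, hcc, Option.elim, add_mul, Finset.sum_mul, mul_assoc,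
        Finset.sum_add_distrib, ← Finset.mul_sum] at h3
      rw [hperp _ (Nat.succ_pos k) (by omega), mul_zero, zero_add, Finset.sum_comm] at h3
      simp only [← Finset.mul_sum] at h3
      rw [Finset.sum_eq_single k (fun i _ hik => by
          have hv' : (i : ℕ) ≠ k := fun e => hik (Fin.ext e)
          rw [T.inner hM (Nat.succ_pos i) (by omega) (Nat.succ_pos k) (by omega),
            if_neg (by omega), if_neg (by omega)]
          simp) (fun h => absurd (Finset.mem_univ k) h)] at h3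
      refine (mul_eq_zero.mp h3).resolve_right ?_
      rw [T.inner hM (Nat.succ_pos k) (by omega) (Nat.succ_pos k) (by omega), if_pos rfl]
      refine mul_ne_zero (m_ne_zero L) ?_
      split_ifs <;> norm_num
    rintro (_ | i)
    · by_contra hc0
      refine hψne ?_
      rw [hexp]
      refine Finset.sum_eq_zero fun χ _ => mul_eq_zero_of_left ?_ _
      have := e χ
      simp only [Fintype.sum_option, esome, zero_mul, Finset.sum_const_zero, add_zero, hcc,
        Option.elim] at this
      exact (mul_eq_zero.mp this).resolve_left hc0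
    · exact esome i
  have h := hli.fintype_card_le_finrank
  have e := LinearMap.finrank_range_add_finrank_ker Φ
  rw [hrange, hl, Module.finrank_fintype_fun_eq_card, ← Nat.card_eq_fintype_card] at e
  rw [Fintype.card_option, Fintype.card_fin] at h
  obtain ⟨ζ, hζ⟩ : ∃ ζ : ℂ, IsPrimitiveRoot ζ L.S.m :=
    ⟨_, Complex.isPrimitiveRoot_exp _ L.S.m_pos.ne'⟩
  rcases T.dichotomy hζ hM with ⟨hk, -, -⟩ | ⟨h4, h5⟩
  · omega
  · exact (T.not_exceptional hM hζ h4 h5).elim

end Rot

end Cfsg.Agent.DihBlock
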