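import Cfsg.Agent.Lib.DihBlock.Rows

/-!
# The invariants of a block with dihedral defect group, up to the exceptional shape
-/

set_option autoImplicit false
set_option linter.style.haveILetI false
set_option linter.unusedSectionVars false

namespace Cfsg.Agent.DihBlock.Rot

open Cfsg.Agent.Blocks Cfsg.Agent.BPairs MonoidAlgebra
open scoped ComplexConjugate

universe u

variable {G : Type u} [Group G] [Fintype G] {M : Ideal AlgInt} [M.IsPrime]
  {B : Set (IrrCharacter G)} {L : LocalData M B} [Fintype (cz L.S.z)] [Fintype L.P'] (T : Rot L)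

include T in
theorem blockRank_add_le (hM : IsPModular 2 M) : blockRank 2 B + L.S.h ≤ Nat.card B := by
  classical
  haveI : Fact (Nat.Prime 2) := ⟨Nat.prime_two⟩
  haveI : Fintype B := Fintype.ofFinite B
  have h2 := L.S.two_h
  obtain ⟨Φ, hΦ⟩ : ∃ Φ : (B → ℂ) →ₗ[ℂ] (G → ℂ), Φ = Fintype.linearCombination ℂ
      (fun χ : B => pRegularPart 2 ((χ : IrrCharacter G) : G → ℂ)) := ⟨_, rfl⟩
  have hrange : Module.finrank ℂ (LinearMap.range Φ) = blockRank 2 B := by
    rw [blockRank, hΦ, Fintype.range_linearCombination, Set.image_eq_range]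
  obtain ⟨v, hv⟩ : ∃ v : Fin L.S.h → LinearMap.ker Φ,
      ∀ i χ, (v i : B → ℂ) χ = T.nu χ (i + 1) := by
    refine ⟨fun i => ⟨fun χ => T.nu χ (i + 1), ?_⟩, fun i χ => rfl⟩
    rw [LinearMap.mem_ker, hΦ, Fintype.linearCombination_apply]
    funext y
    simp only [Finset.sum_apply, Pi.smul_apply, smul_eq_mul, Pi.zero_apply,
      pRegularPart, IsPRegular]
    by_cases hy : 2 ∣ orderOf y
    · simp [hy]
    · simp only [hy, not_false_eq_true, if_true]
      have hl : (i : ℕ) + 1 < L.S.m := by omega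
      rw [← T.reg hM (Nat.succ_pos i) hl hy,
        ← Finset.sum_filter_add_sum_filter_not Finset.univ (fun χ : IrrCharacter G => χ ∈ B)
          (fun χ : IrrCharacter G => T.nu χ (i + 1) * (χ : G → ℂ) y),
        Finset.sum_eq_zero (s := Finset.univ.filter fun χ : IrrCharacter G => χ ∉ B) fun χ hχ => by
          rw [T.outside hM (Nat.succ_pos i) hl (Finset.mem_filter.mp hχ).2, zero_mul], add_zero]
      exact (Finset.sum_subtype _ (fun χ => by simp)
        (fun χ : IrrCharacter G => T.nu χ (i + 1) * (χ : G → ℂ) y)).symm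
  have hli : LinearIndependent ℂ v := by
    rw [Fintype.linearIndependent_iff]
    intro c hc k
    have h1 : ∀ χ : IrrCharacter G, ∑ i : Fin L.S.h, c i * T.nu χ (i + 1) = 0 := by
      intro χ
      by_cases hχ : χ ∈ B
      · have := congrArg (fun w : LinearMap.ker Φ => (w : B → ℂ) ⟨χ, hχ⟩) hc
        simpa [hv] using this
      · exact Finset.sum_eq_zero fun i _ => by
          rw [T.outside hM (Nat.succ_pos i) (by omega) hχ, mul_zero]
    have h3 : ∑ χ, (∑ i : Fin L.S.h, c i * T.nu χ (i + 1)) * T.nu χ (k + 1) = 0 :=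
      Finset.sum_eq_zero fun χ _ => by rw [h1, zero_mul]
    simp only [Finset.sum_mul, mul_assoc] at h3
    rw [Finset.sum_comm] at h3
    simp only [← Finset.mul_sum] at h3
    rw [Finset.sum_eq_single k (fun i _ hik => by
        have hv' : (i : ℕ) ≠ k := fun e => hik (Fin.ext e)
        rw [T.inner hM (Nat.succ_pos i) (by omega) (Nat.succ_pos k) (by omega),
          if_neg (by omega), if_neg (by omega)]
        simp) (fun h => absurd (Finset.mem_univ k) h)] at h3
    refine (mul_eq_zero.mp h3).resolve_right ?_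
    rw [T.inner hM (Nat.succ_pos k) (by omega) (Nat.succ_pos k) (by omega), if_pos rfl]
    refine mul_ne_zero (m_ne_zero L) ?_
    split_ifs <;> norm_num
  have h := hli.fintype_card_le_finrank
  have e := LinearMap.finrank_range_add_finrank_ker Φ
  rw [hrange, Module.finrank_fintype_fun_eq_card, ← Nat.card_eq_fintype_card] at e
  rw [Fintype.card_fin] at h
  omega

theorem one_le_blockRank {H : Type u} [Group H] [Finite H] {A : Set (IrrCharacter H)}
    (hA : IsPBlock M A) : 1 ≤ blockRank 2 A := by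
  haveI := Fintype.ofFinite H
  obtain ⟨χ, hχ⟩ := block_nonempty hA
  rw [blockRank, Nat.one_le_iff_ne_zero, ne_eq, Submodule.finrank_eq_zero, Submodule.span_eq_bot]
  intro h
  refine CT.irr_one_ne_zero χ.2 ?_
  have := congrFun (h _ ⟨χ, hχ, rfl⟩) 1
  simpa [pRegularPart, IsPRegular] using this

theorem local_defect (hM : IsPModular 2 M) :
    IsInducedBlock M (cz L.S.z) L.f B ∧ blockDefect 2 L.f = blockDefect 2 B := by
  haveI : Fact (Nat.Prime 2) := ⟨Nat.prime_two⟩
  have hB := L.hmax.1.2.1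
  have hx := exists_pow_eq_one_of_isPGroup L.hmax.1.1.1 L.S.z_mem
  refine ⟨isInducedBlock_of_brauerPair hM (isBrauerPairOf_of_inB hM hB hx L.hf
    (inB_of_belAt hM L.hmax ⟨L.f, L.hle, rfl⟩)), Nat.pow_right_injective le_rfl ?_⟩
  show 2 ^ blockDefect 2 L.f = 2 ^ blockDefect 2 B
  rw [← card_defectGroup hM L.hf (isDefectGroup_of_maximal hM L.hmax'),
    ← card_defectGroup hM hB (isDefectGroup_of_maximal hM L.hmax),
    ← Subgroup.card_map_of_injective (cz L.S.z).subtype_injective (K := L.P')]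
  exact congrArg (fun X : Subgroup G => Nat.card X) L.hpush.2.2.1

variable {ζ : ℂ} (hζ : IsPrimitiveRoot ζ L.S.m)

theorem phi_z (hM : IsPModular 2 M) : ∃ t : ℂ, t ≠ 0 ∧ ∀ χ : IrrCharacter G,
    phi 2 χ L.S.z (bel M (cz L.S.z) L.f) = (T.V hζ χ : ℂ) * t := by
  haveI : Fact (Nat.Prime 2) := ⟨Nat.prime_two⟩
  have hh := L.S.two_h
  have h0 := L.S.h_pos
  obtain ⟨aC, -, hG, -, hval⟩ := T.col hM h0 (show L.S.h < L.S.m by omega)
  have hg : pPart 2 ((L.rot L.S.h : L.P') : cz L.S.z) = L.rot L.S.h :=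
    pPart_self (exists_pow_eq_one_of_isPGroup L.hmax'.1.1.1 (L.rot L.S.h).2)
  have ha : embH (cz L.S.z) aC = bel M (cz L.S.z) L.f :=
    belAt_unique hM L.hmax hG ⟨L.f, L.hle, rfl⟩
  have hv : ∀ χ : IrrCharacter G, phi 2 χ L.S.z (bel M (cz L.S.z) L.f) =
      (T.V hζ χ : ℂ) * phi 2 T.χ₀ ((L.rot L.S.h : L.P') : cz L.S.z) aC := fun χ => by
    rw [← ha, ← T.nu_h hζ, ← hval χ _ hg, L.coe_rot]
    rfl
  refine ⟨_, fun ht => ?_, hv⟩
  obtain ⟨hind, hd⟩ := local_defect (L := L) hM
  obtain ⟨χ, hχ⟩ := block_nonempty L.hmax.1.2.1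
  refine phi_ne_zero_of_full_defect hM (exists_pow_eq_one_of_isPGroup L.hmax.1.1.1 L.S.z_mem)
    hind hd hχ ?_
  rw [hv, ht, mul_zero]

open Classical in
include T hζ in
theorem dichotomy (hM : IsPModular 2 M) :
    (Nat.card B = L.S.h + 3 ∧
      Nat.card {χ : IrrCharacter G // χ ∈ B ∧ blockHeight 2 B (χ : G → ℂ) = 0} = 4 ∧
      ∀ χ ∈ B, blockHeight 2 B (χ : G → ℂ) ≤ 1) ∨
    (L.S.h = 4 ∧ Nat.card B ≤ 5) := by
  haveI : Fact (Nat.Prime 2) := ⟨Nat.prime_two⟩
  have hh := L.S.two_h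
  have h0 := L.S.h_pos
  have hB := L.hmax.1.2.1
  obtain ⟨hind, hd⟩ := local_defect (L := L) hM
  obtain ⟨t, ht, hphi⟩ := T.phi_z hζ hM
  have hu2 := exists_pow_eq_one_of_isPGroup L.hmax.1.1.1 L.S.z_mem
  have hV0 : ∀ χ ∈ B, T.V hζ χ ≠ 0 := fun χ hχ h => by
    refine phi_ne_zero_of_full_defect hM hu2 hind hd hχ ?_
    rw [hphi, h, Int.cast_zero, zero_mul]
  obtain ⟨supp, hsupp⟩ : ∃ supp : Finset (IrrCharacter G), supp = Finset.univ.filter fun χ =>
      ∃ j, 1 ≤ j ∧ j ≤ L.S.h ∧ T.u hζ χ j ≠ 0 := ⟨_, rfl⟩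
  have hset : ∀ χ, χ ∈ supp ↔ χ ∈ B := by
    intro χ
    rw [hsupp, Finset.mem_filter]
    constructor
    · rintro ⟨-, j, -, -, hne⟩
      by_contra hχ
      apply hne
      have h := T.u_spec hζ χ j
      rw [Finset.sum_eq_zero fun l hl => ?_, mul_eq_zero] at h
      · exact_mod_cast h.resolve_right (m_ne_zero L)
      rcases Nat.eq_zero_or_pos l with rfl | hl0
      · simp
      · rw [T.outside hM hl0 (Finset.mem_range.mp hl) hχ, zero_mul]
    · intro hχ
      refine ⟨Finset.mem_univ _, ?_⟩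
      by_contra hcon
      push Not at hcon
      refine hV0 χ hχ ?_
      rw [V, hcon L.S.h h0 le_rfl, add_zero]
      refine Finset.sum_eq_zero fun j hj => ?_
      rw [Finset.mem_Ico] at hj
      rw [hcon j hj.1 hj.2.le, mul_zero]
  have hcard : Nat.card B = supp.card := by
    rw [← Nat.card_eq_finsetCard supp]
    exact Nat.card_congr (Equiv.subtypeEquivRight fun χ => (hset χ).symm)
  rcases rows Finset.univ (fun χ : IrrCharacter G => (charDegree (χ : G → ℂ) : ℤ))
      (fun χ _ => by exact_mod_cast charDegree_pos χ) L.S.h_cases L.S.h_even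
      (fun j χ => T.u hζ χ j) (fun j _ _ => T.deg hζ hM j)
      (fun j hj hjH => by rw [T.gram hζ hM hj hjH.le hj hjH.le, if_pos rfl, if_neg hjH.ne])
      (by rw [T.gram hζ hM h0 le_rfl h0 le_rfl, if_pos rfl, if_pos rfl])
      (fun j k hj hjH hk hkH hne => by rw [T.gram hζ hM hj hjH hk hkH, if_neg hne])
      supp hsupp (T.V hζ) (fun χ _ => rfl) with ⟨hc, h4, hv⟩ | ⟨h4, h5⟩
  · left
    obtain ⟨ψ, hψm⟩ := Finset.card_pos.mp (show 0 < (supp.filter fun χ =>
      T.V hζ χ = 1 ∨ T.V hζ χ = -1).card by omega)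
    obtain ⟨hψs, hψv⟩ := Finset.mem_filter.mp hψm
    have hψ := (hset ψ).mp hψs
    have hψ1 : (T.V hζ ψ).natAbs = 1 := by omega
    have hdeg : ∀ χ ∈ B, (charDegree (χ : G → ℂ)).factorization 2 =
        (charDegree (ψ : G → ℂ)).factorization 2 + (T.V hζ χ).natAbs.factorization 2 := by
      intro χ hχ
      have := factorization_add hM hu2 hind hd ht (fun θ _ => hphi θ) hψ hχ
      rw [hψ1, Nat.factorization_one, Finsupp.zero_apply, zero_add] at this
      omega
    have hinf : sInf ((fun χ : IrrCharacter G => (charDegree (χ : G → ℂ)).factorization 2) '' B) =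
        (charDegree (ψ : G → ℂ)).factorization 2 :=
      le_antisymm (Nat.sInf_le ⟨ψ, hψ, rfl⟩) (le_csInf ⟨_, ψ, hψ, rfl⟩ (by
        rintro _ ⟨χ, hχ, rfl⟩
        exact le_of_le_of_eq (Nat.le_add_right _ _) (hdeg χ hχ).symm))
    have hht : ∀ χ ∈ B, blockHeight 2 B (χ : G → ℂ) = (T.V hζ χ).natAbs.factorization 2 := by
      intro χ hχ
      rw [blockHeight, hinf, hdeg χ hχ, Nat.add_sub_cancel_left]
    have hval : ∀ χ ∈ B, ((T.V hζ χ = 1 ∨ T.V hζ χ = -1) ∧ blockHeight 2 B (χ : G → ℂ) = 0) ∨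
        (¬ (T.V hζ χ = 1 ∨ T.V hζ χ = -1) ∧ blockHeight 2 B (χ : G → ℂ) = 1) := by
      intro χ hχ
      rw [hht χ hχ]
      rcases hv χ ((hset χ).mpr hχ) with h | h | h | h <;> rw [h] <;>
        simp [Nat.prime_two.factorization_self]
    refine ⟨by omega, ?_, fun χ hχ => ?_⟩
    · rw [← h4, ← Nat.card_eq_finsetCard]
      refine Nat.card_congr (Equiv.subtypeEquivRight fun χ => ?_)
      rw [Finset.mem_filter, hset]
      constructor
      · rintro ⟨hχ, h⟩
        rcases hval χ hχ with h' | h'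
        · exact ⟨hχ, h'.1⟩
        · omega
      · rintro ⟨hχ, h⟩
        rcases hval χ hχ with h' | h'
        · exact ⟨hχ, h'.2⟩
        · exact absurd h h'.1
    · rcases hval χ hχ with h' | h' <;> omega
  · exact Or.inr ⟨h4, by omega⟩

end Cfsg.Agent.DihBlock.Rot
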