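import Cfsg.Agent.Lib.Blocks.NilMain

/-!
# The characters of a nilpotent block as star products, with their parts
-/

set_option autoImplicit false
set_option linter.style.haveILetI false
set_option linter.unusedSectionVars false

namespace Cfsg.Agent.DihBlock

open Cfsg.Agent.Blocks Cfsg.Agent.BPairs MonoidAlgebra
open scoped ComplexConjugate

universe u

variable {G : Type u} [Group G] [Fintype G] {p : ℕ} {M : Ideal AlgInt} [M.IsPrime]
  {B : Set (IrrCharacter G)} {P : Subgroup G}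
  {e : Set (IrrCharacter (Subgroup.centralizer (P : Set G)))}

theorem mem_blkIdem_of_belAt (hmax : IsMaximalBrauerPair p M B P e) {u : G}
    {a : MonoidAlgebra (Res M) G} (h : BelAt p M P e u a) : a ∈ blkIdem M u := by
  obtain ⟨f, hf, rfl⟩ := h
  exact mem_blkIdemS.mpr ⟨f, (isBrauerPair_of_subpair hf hmax.1.1 :
    IsBrauerPair p M (Subgroup.zpowers u) f).2, rfl⟩

/-- The parametrization of a nilpotent block, with the parts of its characters. -/
theorem exists_param (hM : IsPModular p M) [hp : Fact p.Prime] (hnil : IsNilpotentBlock p M B)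
    (hmax : IsMaximalBrauerPair p M B P e) [Fintype P] :
    ∃ χ₀ ∈ B, blockHeight p B (χ₀ : G → ℂ) = 0 ∧
      ∃ F : IrrCharacter P → IrrCharacter G, Function.Injective F ∧
        (∀ η, η ∈ B ↔ ∃ ζ, F ζ = η) ∧
        (∀ (ζ : IrrCharacter P) (u : P) (g : G) (a : MonoidAlgebra (Res M) G),
          pPart p g = u → BelAt p M P e (u : G) a →
            phi p (F ζ) g a = (ζ : P → ℂ) u * phi p χ₀ g a) ∧
        ∀ (u : P) (a : MonoidAlgebra (Res M) G), BelAt p M P e (u : G) a →
          qVal p P χ₀ (u : G) a = 1 := by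
  classical
  have hB := hmax.1.2.1
  obtain ⟨χ, hχ, h0⟩ := exists_height_zero (p := p) hB
  choose f hfb hA using fun u : P => exists_belAt hM hmax u
  obtain ⟨hq, -⟩ := qVal_eq_one hM hnil hmax hχ h0
    (fun u _ _ f hf => nilData hM _ (cz (u : G)) rfl f hf) hA
  have hst : ∀ ζ : IrrCharacter P, Stable p M P e (extendByZero P (ζ : P → ℂ)) := fun ζ =>
    stable_of_nilpotent hM hnil hmax (CT.isClassFunction_of_isIrr ζ.2)
  obtain ⟨ψ, hψ⟩ : ∃ ψ : IrrCharacter P → G → ℂ, ψ = fun ζ : IrrCharacter P =>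
      psi p (weight (M := M) p P e (extendByZero P (ζ : P → ℂ))) χ := ⟨_, rfl⟩
  have hinner : ∀ ζ ζ' : IrrCharacter P,
      classInner (ψ ζ) (ψ ζ') = if ζ = ζ' then 1 else 0 := by
    intro ζ ζ'
    simp only [hψ]
    rw [classInner_psi hM hnil hmax hχ (hst ζ) (hst ζ') hA, ← CT.irr_inner_subtype ζ ζ', classInner]
    simp only [CT.extendByZero_coe, hq, mul_one]
  have hone : ∀ ζ : IrrCharacter P, ψ ζ 1 = (ζ : P → ℂ) 1 * (χ : G → ℂ) 1 := by
    intro ζ
    simp only [hψ]
    rw [← sum_phi (M := M) (p := p) hM χ 1, Finset.mul_sum, psi]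
    refine Finset.sum_congr rfl fun a ha => ?_
    have hy : ¬ p ∣ orderOf (1 : G) := by rw [orderOf_one]; exact hp.out.not_dvd_one
    by_cases hi : InB M B (pPart p (1 : G)) a
    · rw [pPart_of_regular hy] at ha hi ⊢
      obtain ⟨k, hk⟩ := exists_belAt_of_inB hM hmax ⟨0, one_pow _⟩ ha hi
      rw [weight_eq (hst ζ) hk, CT.extendByZero_mem P _ (belAt_mem hk),
        show (⟨k * 1 * k⁻¹, belAt_mem hk⟩ : P) = 1 from Subtype.ext (by simp)]
    · rw [phi_eq_zero_of_not_inB hM hB hχ ha hi, mul_zero, mul_zero]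
  have hirr : ∀ ζ : IrrCharacter P, ∃ η : B, ((η : IrrCharacter G) : G → ℂ) = ψ ζ := by
    intro ζ
    have hgen : IsGeneralizedCharacter G (ψ ζ) := by
      simp only [hψ]
      refine isGen_psi hM (isWeight_weight hM hmax (hst ζ) ?_) χ
      rw [show (fun x : P => extendByZero P (ζ : P → ℂ) (x : G)) = (ζ : P → ℂ) from
        funext fun x => CT.extendByZero_coe P _ x]
      exact CT.isGen_of_isIrr ζ.2
    have hpos : 0 < (ψ ζ 1).re := by
      rw [hone, charDegree_cast, charDegree_cast, ← Nat.cast_mul, Complex.natCast_re]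
      exact_mod_cast Nat.mul_pos (charDegree_pos ζ) (charDegree_pos χ)
    have h1 := CT.isIrr_of_isGen_norm_one hgen (by rw [hinner, if_pos rfl]) hpos
    exact ⟨⟨⟨_, h1⟩, mem_block_of_psi hM hB hχ (W := weight (M := M) p P e
      (extendByZero P (ζ : P → ℂ))) (by simp only [hψ])⟩, rfl⟩
  choose F hF using hirr
  have hinj : Function.Injective F := fun ζ ζ' h => by
    by_contra hne
    have := hinner ζ ζ'
    rw [← hF ζ, ← hF ζ', h, CT.irr_inner_self (F ζ' : IrrCharacter G).2, if_neg hne] at this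
    exact one_ne_zero this
  obtain ⟨-, -, -, Φ, -, -⟩ := exists_nilpotent_equiv hM hnil hmax
  have hsurj : Function.Surjective F := fun η => by
    obtain ⟨ζ, hζ⟩ := Finite.injective_iff_surjective.mp (Φ.symm.injective.comp hinj) (Φ.symm η)
    exact ⟨ζ, Φ.symm.injective hζ⟩
  refine ⟨χ, hχ, h0, fun ζ => (F ζ : IrrCharacter G), Subtype.val_injective.comp hinj,
    fun η => ⟨fun hη => ?_, ?_⟩, fun ζ u g a hu ha => ?_, fun u a ha => ?_⟩
  · obtain ⟨ζ, hζ⟩ := hsurj ⟨η, hη⟩
    exact ⟨ζ, congrArg Subtype.val hζ⟩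
  · rintro ⟨ζ, rfl⟩
    exact (F ζ).2
  · rw [phi_of_eq_psi hM (θ := χ) (W := weight (M := M) p P e (extendByZero P (ζ : P → ℂ)))
      ((hF ζ).trans (by simp only [hψ])) (hu ▸ mem_blkIdem_of_belAt hmax ha), hu,
      weight_self (hst ζ) ha, CT.extendByZero_coe]
  · rw [belAt_unique hM hmax ha (hA u)]
    exact hq u

end Cfsg.Agent.DihBlock
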