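import Cfsg.Agent.Lib.DihBlock.Dih
import Cfsg.Agent.Lib.DihBlock.Param
import Cfsg.Agent.Lib.Blocks.BelowRank

/-!
# The local block at the central involution of a dihedral defect group
-/

set_option autoImplicit false
set_option linter.style.haveILetI false
set_option linter.unusedSectionVars false

namespace Cfsg.Agent.DihBlock

open Cfsg.Agent.Blocks Cfsg.Agent.BPairs MonoidAlgebra

universe u

variable {G : Type u} [Group G] [Finite G] {M : Ideal AlgInt} [M.IsPrime]

/-- The block of the centralizer of the central involution below a maximal pair. -/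
structure LocalData (M : Ideal AlgInt) [M.IsPrime] (B : Set (IrrCharacter G)) where
  P : Subgroup G
  e : Set (IrrCharacter (Subgroup.centralizer (P : Set G)))
  hmax : IsMaximalBrauerPair 2 M B P e
  S : DihSub P
  f : Set (IrrCharacter (cz S.z))
  hf : IsPBlock M f
  hle : SubpairLE 2 M (Subgroup.zpowers S.z) f P e
  P' : Subgroup (cz S.z)
  c' : Set (IrrCharacter (Subgroup.centralizer (P' : Set (cz S.z))))
  hmax' : IsMaximalBrauerPair 2 M f P' c'
  hpush : IsPush M (⟨P', c'⟩ : BrauerPairIdx (cz S.z)) (⟨P, e⟩ : BrauerPairIdx G)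
  hnil : IsNilpotentBlock 2 M f

theorem exists_localData (hM : IsPModular 2 M) {B : Set (IrrCharacter G)} (hB : IsPBlock M B)
    {D : Subgroup G} (hD : IsDefectGroup 2 M B D) {n : ℕ} (hn : 3 ≤ n)
    (hdih : Nonempty (D ≃* DihedralGroup (2 ^ (n - 1)))) :
    ∃ L : LocalData M B, L.S.n = n := by
  haveI : Fact (Nat.Prime 2) := ⟨Nat.prime_two⟩
  obtain ⟨P, e, hmax⟩ := exists_maximal_of_block hM hB
  obtain ⟨y, hy⟩ := defect_conj hM hB (isDefectGroup_of_maximal hM hmax) hD
  obtain ⟨iso⟩ := hdih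
  obtain ⟨S, hS⟩ := exists_dihSub hn
    (((P.equivMapOfInjective (MulAut.conj y).toMonoidHom (MulAut.conj y).injective).trans
      (MulEquiv.subgroupCongr hy)).trans iso)
  have hzP : Subgroup.zpowers S.z ≤ P := Subgroup.zpowers_le.mpr S.z_mem
  obtain ⟨f, ⟨hf, hle⟩, -⟩ := existsUnique_below hM hmax.1.1 hzP
  have hPC : P ≤ cz S.z := fun v hv => mem_cz.mpr (S.z_commute hv)
  have hC : Subgroup.centralizer (P : Set G) ≤ cz S.z := Subgroup.centralizer_le hzP
  obtain ⟨⟨P', c'⟩, hpush⟩ := exists_pull (⟨P, e⟩ : BrauerPairIdx G) hmax.1.1.2 hPC hC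
  have hpush' := hpush
  obtain ⟨hc', -, hsub, hbel⟩ := hpush
  dsimp only at hc' hsub hbel
  have hP'p : IsPGroup 2 P' := (isPGroup_push hsub).mpr hmax.1.1.1
  have hpair : IsBrauerPairOf 2 M f P' c' := by
    refine isBrauerPairOf_iff.mpr ⟨hP'p, hc', hf, ?_⟩
    refine (occ_push hM hpush' hC hP'p (inv2_center P' (bBar M f).2) (by
      rw [← Subring.coe_mul, bBar_mul_self (blockCoeff_mem_loc hf)])).mp ?_
    exact (isNormalSubpair_iff.mp (rel_of_below hM hmax.1.1 hle hzP
      (hPC.trans (Subgroup.centralizer_le_normalizer _)) Relation.ReflTransGen.refl)).2.2.2.2.2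
  have heq : P ⊓ Subgroup.centralizer (Subgroup.zpowers S.z : Set G) = P := inf_eq_left.mpr hPC
  have hdef : IsDefectGroup 2 M f (P.subgroupOf (cz S.z)) := by
    have h1 := centralizer_defect_of_fullyCentralized hM hmax hle fun g _ => by
      rw [heq]; exact Subgroup.card_le_of_le inf_le_left
    rwa [heq] at h1
  have hmax' : IsMaximalBrauerPair 2 M f P' c' := by
    refine ⟨hpair, fun R g hR hle' => ?_⟩
    obtain ⟨⟨R', g'⟩, hle'', hm'⟩ := exists_maximal hM hR
    have hcd := card_defect_eq hM hf (isDefectGroup_of_maximal hM hm') hdef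
    refine (Subgroup.eq_of_le_of_card_ge (subpair_le hle') ?_).symm
    refine (Subgroup.card_le_of_le (subpair_le hle'')).trans (hcd.le.trans (le_of_eq ?_))
    rw [Nat.card_congr (Subgroup.subgroupOfEquivOfLe hPC).toEquiv]
    exact (congrArg (fun X : Subgroup G => Nat.card X) hsub).symm.trans
      (Subgroup.card_map_of_injective (cz S.z).subtype_injective)
  refine ⟨⟨P, e, hmax, S, f, hf, hle, P', c', hmax', hpush', hf, fun Q k hQ x hxN _ hxreg => ?_⟩, hS⟩
  -- the local block is nilpotent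
  obtain ⟨t, ht⟩ := exists_conj_below_maximal hM hmax' hQ
  have htP : ∀ q ∈ Q, ((t * q * t⁻¹ : cz S.z) : G) ∈ P := fun q hq =>
    hsub.le ⟨_, subpair_le ht ⟨q, hq, rfl⟩, rfl⟩
  obtain ⟨R, hR⟩ : ∃ R : Subgroup G, R = ((Q.map (MulAut.conj t).toMonoidHom).map (cz S.z).subtype) ⊔
      Subgroup.zpowers S.z := ⟨_, rfl⟩
  obtain ⟨x', hx'⟩ : ∃ x' : G, x' = ((t * x * t⁻¹ : cz S.z) : G) := ⟨_, rfl⟩
  have hxz : Commute x' S.z := hx' ▸ mem_cz.mp (t * x * t⁻¹).2
  have hodd : Odd (orderOf x') := by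
    rw [← Nat.not_even_iff_odd, even_iff_two_dvd, hx', Subgroup.orderOf_coe,
      show t * x * t⁻¹ = MulAut.conj t x from rfl, MulEquiv.orderOf_eq]
    exact hxreg
  have hRP : R ≤ P := by
    rw [hR]
    refine sup_le ?_ hzP
    rintro _ ⟨_, ⟨q, hq, rfl⟩, rfl⟩
    exact htP q hq
  have hRN : ∀ q ∈ R, x' * q * x'⁻¹ ∈ R := by
    intro q hq
    have : R ≤ R.comap (MulAut.conj x').toMonoidHom := by
      conv_lhs => rw [hR]
      refine sup_le ?_ (Subgroup.zpowers_le.mpr ?_)
      · rintro _ ⟨_, ⟨q, hq, rfl⟩, rfl⟩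
        show x' * ((t * q * t⁻¹ : cz S.z) : G) * x'⁻¹ ∈ R
        rw [hR]
        refine Subgroup.mem_sup_left ⟨_, ⟨x * q * x⁻¹, (Subgroup.mem_normalizer_iff.mp hxN q).mp hq,
          rfl⟩, ?_⟩
        rw [hx']
        simp [mul_assoc]
      · show x' * S.z * x'⁻¹ ∈ R
        rw [hxz.eq, mul_inv_cancel_right, hR]
        exact Subgroup.mem_sup_right (Subgroup.mem_zpowers _)
    exact this hq
  have hcomm := S.fix_of_odd hRP (hR ▸ Subgroup.mem_sup_right (Subgroup.mem_zpowers _)) hodd hxz hRN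
  rw [Subgroup.mem_centralizer_iff]
  intro q hq
  have h1 := hcomm ((t * q * t⁻¹ : cz S.z) : G)
    (hR ▸ Subgroup.mem_sup_left ⟨_, ⟨q, hq, rfl⟩, rfl⟩)
  rw [hx'] at h1
  have h2 : Commute (t * x * t⁻¹) (t * q * t⁻¹) := Subtype.ext h1.eq
  have h3 := h2.map (MulAut.conj t⁻¹).toMonoidHom
  simp [mul_assoc] at h3
  exact h3.eq.symm

end Cfsg.Agent.DihBlock
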