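import Cfsg.Agent.Lib.Blocks.InvariantCover
import Cfsg.Agent.Lib.OddChar.AbelianQuotient
import Cfsg.Agent.Lib.Blocks.InflationRank

/-!
# The rank of a block over an invariant character of a normal subgroup
-/

set_option autoImplicit false
set_option linter.style.haveILetI false
set_option linter.unusedSectionVars false

namespace Cfsg.Agent.DihBlock

open Cfsg.Agent.Blocks

universe u

theorem constituent_twist {X : Type u} [Group X] (M : Subgroup X) [M.Normal] [Fintype X]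
    [Fintype M] {φ : M → ℂ} (hφ : IsIrrCharacter M φ)
    (hinv : ∀ x, CT.conjFun M x φ = φ) (hab : ∀ x y : X, x * y * x⁻¹ * y⁻¹ ∈ M) {ψ η : X → ℂ}
    (hψ : IsIrrCharacter X ψ) (hη : IsIrrCharacter X η)
    (h1 : classInner (fun m : M => ψ m) φ ≠ 0) (h2 : classInner (fun m : M => η m) φ ≠ 0) :
    ∃ ξ : X ⧸ M → ℂ, ∀ g : X, η g = ξ (g : X ⧸ M) * ψ g := by
  classical
  have hres := CT.restrict_eq_smul_of_invariant M hψ hφ h1 hinv
  have hne : classInner (indFun M (fun _ => 1) * ψ) η ≠ 0 := by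
    rw [← CT.indFun_mul_restrict M _ (CT.isClassFunction_of_isIrr hψ),
      show ((fun _ => (1 : ℂ)) * fun m : M => ψ m) = fun m : M => ψ m from one_mul _, hres,
      CT.indFun_smul, CT.classInner_smul_left,
      CT.frobenius_reciprocity M φ (CT.isClassFunction_of_isIrr hη),
      CT.classInner_comm_of_char (CT.isCharacter_of_isIrr hφ)
        (CT.isCharacter_restrict M (CT.isCharacter_of_isIrr hη))]
    exact mul_ne_zero h1 h2
  have hi : IsCharacter X (indFun M fun _ => (1 : ℂ)) := CT.isCharacter_indFun_one M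
  rw [CT.character_eq_sum hi, Finset.sum_mul, CT.classInner_sum_left] at hne
  obtain ⟨ξ, -, hξ⟩ := Finset.exists_ne_zero_of_sum_ne_zero hne
  rw [smul_mul_assoc, CT.classInner_smul_left] at hξ
  obtain ⟨hξ1, hξ2⟩ := mul_ne_zero_iff.mp hξ
  have hξ0 : classInner (fun m : M => (ξ : X → ℂ) m) (fun _ => 1) ≠ 0 := by
    rw [CT.classInner_comm_of_char (CT.isCharacter_restrict M (CT.isCharacter_of_isIrr ξ.2))
      CT.isCharacter_one, ← CT.frobenius_reciprocity M _ (CT.isClassFunction_of_isIrr ξ.2),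
      CT.mult_spec hi (CT.isCharacter_of_isIrr ξ.2)]
    exact hξ1
  have hξM := CT.restrict_eq_smul_of_invariant M ξ.2 CT.isIrrCharacter_one hξ0 (fun x => rfl)
  have hker : ∀ m ∈ M, (ξ : X → ℂ) m = (ξ : X → ℂ) 1 := by
    intro m hm
    have e1 := congrFun hξM ⟨m, hm⟩
    have e2 := congrFun hξM 1
    simp only [Pi.smul_apply] at e1 e2
    exact e1.trans e2.symm
  obtain ⟨ξ', hξ', hval⟩ := CT.exists_quotient_irr ξ.2 M hker
  have hd : (ξ : X → ℂ) 1 = 1 := by
    rw [← hval 1, QuotientGroup.mk_one]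
    refine CT.irr_degree_one_of_comm (fun a b => ?_) hξ'
    induction a using QuotientGroup.induction_on with | _ a =>
    induction b using QuotientGroup.induction_on with | _ b =>
    rw [← QuotientGroup.mk_mul, ← QuotientGroup.mk_mul, QuotientGroup.eq]
    have := hab b⁻¹ a⁻¹
    simpa [mul_assoc] using this
  have hmul := OddChar.isIrr_mul_linear hψ (CT.isCharacter_of_isIrr ξ.2) hd
  rw [mul_comm] at hmul
  refine ⟨ξ', fun g => ?_⟩
  rw [← CT.eq_of_inner_ne_zero hmul hη hξ2, hval, Pi.mul_apply]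

variable {G : Type u} [Group G] [Fintype G] {N : Subgroup G} [N.Normal] [Fintype N]

/-- Over an invariant character, all characters are proportional on a coset. -/
theorem exists_coset_function (θ : IrrCharacter N) (hinv : ∀ g : G, conjIrr g θ = θ) (x : G) :
    ∃ E : G → ℂ, ∀ χ : IrrCharacter G, classInner (fun n : N => (χ : G → ℂ) n) (θ : N → ℂ) ≠ 0 →
      ∃ c : ℂ, ∀ n ∈ N, (χ : G → ℂ) (n * x) = c * E (n * x) := by
  classical
  obtain ⟨K, hK⟩ : ∃ K : Subgroup G, K = N ⊔ Subgroup.zpowers x := ⟨_, rfl⟩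
  have hNK : N ≤ K := hK ▸ le_sup_left
  have hxK : x ∈ K := hK ▸ Subgroup.mem_sup_right (Subgroup.mem_zpowers x)
  haveI := Fintype.ofFinite K
  haveI := Fintype.ofFinite (N.subgroupOf K)
  obtain ⟨φ, hφe⟩ : ∃ φ : IrrCharacter (N.subgroupOf K),
      φ = compIrr (Subgroup.subgroupOfEquivOfLe hNK) θ := ⟨_, rfl⟩
  have hφval : ∀ m : N.subgroupOf K, (φ : N.subgroupOf K → ℂ) m =
      (θ : N → ℂ) ⟨((m : K) : G), m.2⟩ := fun m => by
    rw [hφe, coe_compIrr]; rfl
  have hinv' : ∀ t : K, CT.conjFun (N.subgroupOf K) t (φ : N.subgroupOf K → ℂ) = φ := by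
    intro t
    funext m
    show (φ : N.subgroupOf K → ℂ) _ = (φ : N.subgroupOf K → ℂ) m
    rw [hφval, hφval]
    exact congrFun (congrArg Subtype.val (hinv (t : G))) ⟨((m : K) : G), m.2⟩
  have hdec : ∀ k : K, ∃ (n : N) (i : ℤ), (k : G) = n * x ^ i := by
    intro k
    have hk : (k : G) ∈ N ⊔ Subgroup.zpowers x := hK ▸ k.2
    rw [Subgroup.mem_sup_of_normal_left] at hk
    obtain ⟨n, hn, w, ⟨i, rfl⟩, e⟩ := hk
    exact ⟨⟨n, hn⟩, i, e.symm⟩
  have hab : ∀ a b : K, a * b * a⁻¹ * b⁻¹ ∈ N.subgroupOf K := by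
    intro a b
    rw [Subgroup.mem_subgroupOf]
    obtain ⟨na, i, hi⟩ := hdec a
    obtain ⟨nb, j, hj⟩ := hdec b
    rw [← QuotientGroup.eq_one_iff]
    simp only [Subgroup.coe_mul, Subgroup.coe_inv, QuotientGroup.mk_mul, QuotientGroup.mk_inv, hi, hj,
      QuotientGroup.mk_zpow, (QuotientGroup.eq_one_iff (na : G)).mpr na.2,
      (QuotientGroup.eq_one_iff (nb : G)).mpr nb.2, one_mul]
    rw [mul_inv_eq_one, mul_inv_eq_iff_eq_mul, ← zpow_add, ← zpow_add, add_comm]
  obtain ⟨ψ, hψ⟩ := CT.exists_irr_over (N.subgroupOf K) φ.2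
  refine ⟨fun g => if h : g ∈ K then (ψ : K → ℂ) ⟨g, h⟩ else 0, fun χ hχ => ?_⟩
  have hover : ∀ η : IrrCharacter K, classInner (fun k : K => (χ : G → ℂ) k) (η : K → ℂ) ≠ 0 →
      classInner (fun m : N.subgroupOf K => (η : K → ℂ) m) (φ : N.subgroupOf K → ℂ) ≠ 0 := by
    intro η hη
    have hv := value_of_over θ hinv hNK hχ hη
    have hθ1 := CT.irr_one_ne_zero θ.2
    rw [show (fun m : N.subgroupOf K => (η : K → ℂ) m) =
        ((η : K → ℂ) 1 / (θ : N → ℂ) 1) • (φ : N.subgroupOf K → ℂ) from funext fun m => by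
      have := hv ⟨((m : K) : G), m.2⟩
      rw [Pi.smul_apply, smul_eq_mul, hφval, div_mul_eq_mul_div, eq_div_iff hθ1]
      exact this, CT.classInner_smul_left, CT.irr_inner_self φ.2, mul_one]
    exact div_ne_zero (CT.irr_one_ne_zero η.2) hθ1
  have htw : ∀ η : IrrCharacter K, ∃ ξ : K ⧸ N.subgroupOf K → ℂ,
      classInner (fun k : K => (χ : G → ℂ) k) (η : K → ℂ) ≠ 0 →
        ∀ g : K, (η : K → ℂ) g = ξ (g : K ⧸ N.subgroupOf K) * (ψ : K → ℂ) g := by
    intro η
    by_cases hη : classInner (fun k : K => (χ : G → ℂ) k) (η : K → ℂ) ≠ 0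
    · obtain ⟨ξ, hξ⟩ := constituent_twist (N.subgroupOf K) φ.2 hinv' hab ψ.2 η.2 hψ (hover η hη)
      exact ⟨ξ, fun _ => hξ⟩
    · exact ⟨0, fun h => absurd h hη⟩
  choose ξ hξ using htw
  refine ⟨∑ η : IrrCharacter K, classInner (fun k : K => (χ : G → ℂ) k) (η : K → ℂ) *
    ξ η ((⟨x, hxK⟩ : K) : K ⧸ N.subgroupOf K), fun n hn => ?_⟩
  have hnx : n * x ∈ K := K.mul_mem (hNK hn) hxK
  simp only [dif_pos hnx]
  rw [Finset.sum_mul]
  have e := congrFun (CT.classFunction_eq_sum (CT.isClassFunction_of_isCharacter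
    (CT.isCharacter_restrict K (CT.isCharacter_of_isIrr χ.2)))) ⟨n * x, hnx⟩
  simp only [Finset.sum_apply, Pi.smul_apply, smul_eq_mul] at e
  rw [e]
  refine Finset.sum_congr rfl fun η _ => ?_
  by_cases hη : classInner (fun k : K => (χ : G → ℂ) k) (η : K → ℂ) = 0
  · simp [hη]
  rw [hξ η hη, mul_assoc]
  congr 2
  congr 1
  rw [show (⟨n * x, hnx⟩ : K) = ⟨n, hNK hn⟩ * ⟨x, hxK⟩ from rfl, QuotientGroup.mk_mul,
    (QuotientGroup.eq_one_iff _).mpr (Subgroup.mem_subgroupOf.mpr hn), one_mul]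

variable {p : ℕ}

/-- The rank over an invariant character is at most the number of regular classes of the
quotient. -/
theorem blockRank_le_regClasses {B : Set (IrrCharacter G)} (θ : IrrCharacter N)
    (hinv : ∀ g : G, conjIrr g θ = θ)
    (hover : ∀ χ ∈ B, classInner (fun n : N => (χ : G → ℂ) n) (θ : N → ℂ) ≠ 0) :
    blockRank p B ≤ Nat.card {c : ConjClasses (G ⧸ N) // ¬ p ∣ orderOf (Quotient.out c)} := by
  classical
  obtain ⟨C, hC⟩ : ∃ C, C = {c : ConjClasses (G ⧸ N) // ¬ p ∣ orderOf (Quotient.out c)} := ⟨_, rfl⟩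
  haveI : Fintype C := hC ▸ Fintype.ofFinite _
  rw [← hC]
  subst hC
  choose E hE using fun c : {c : ConjClasses (G ⧸ N) // ¬ p ∣ orderOf (Quotient.out c)} =>
    exists_coset_function θ hinv (Quotient.out c.1).out
  have hcl : ∀ g : G, ¬ p ∣ orderOf g →
      ∃ c : {c : ConjClasses (G ⧸ N) // ¬ p ∣ orderOf (Quotient.out c)}, ∃ t : G,
        ((t * g * t⁻¹ : G) : G ⧸ N) = Quotient.out c.1 := by
    intro g hg
    have hconj : IsConj (g : G ⧸ N) (Quotient.out (ConjClasses.mk (g : G ⧸ N))) :=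
      (ConjClasses.mk_eq_mk_iff_isConj.mp (Quotient.out_eq (ConjClasses.mk (g : G ⧸ N)))).symm
    obtain ⟨t, ht⟩ := isConj_iff.mp hconj
    obtain ⟨t, rfl⟩ := QuotientGroup.mk_surjective t
    refine ⟨⟨ConjClasses.mk (g : G ⧸ N), ?_⟩, t, by rw [← ht]; simp⟩
    rw [← ht, show ((t : G ⧸ N) * g * (t : G ⧸ N)⁻¹) = MulAut.conj (t : G ⧸ N) g from rfl,
      MulEquiv.orderOf_eq]
    exact fun h => hg (h.trans (orderOf_map_dvd (QuotientGroup.mk' N) g))
  choose cl tt htt using hcl
  let R : ({c : ConjClasses (G ⧸ N) // ¬ p ∣ orderOf (Quotient.out c)} → ℂ) →ₗ[ℂ] (G → ℂ) :=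
    { toFun := fun f g => if h : p ∣ orderOf g then 0 else
        f (cl g h) * E (cl g h) (tt g h * g * (tt g h)⁻¹)
      map_add' := fun a b => funext fun g => by
        simp only [Pi.add_apply]; split_ifs <;> ring
      map_smul' := fun a f => funext fun g => by
        simp only [Pi.smul_apply, RingHom.id_apply, smul_eq_mul]; split_ifs <;> ring }
  have hle : Submodule.span ℂ ((fun χ : IrrCharacter G => pRegularPart p (χ : G → ℂ)) '' B) ≤
      LinearMap.range R := by
    refine Submodule.span_le.mpr ?_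
    rintro _ ⟨χ, hχ, rfl⟩
    choose co hco using fun c => hE c χ (hover χ hχ)
    refine ⟨co, funext fun g => ?_⟩
    simp only [R, LinearMap.coe_mk, AddHom.coe_mk, pRegularPart, IsPRegular]
    by_cases hg : p ∣ orderOf g
    · simp [hg]
    · simp only [hg, not_false_eq_true, if_true, dite_false]
      obtain ⟨x, hx⟩ : ∃ x, x = (Quotient.out (cl g hg).1).out := ⟨_, rfl⟩
      have hmem : tt g hg * g * (tt g hg)⁻¹ * x⁻¹ ∈ N := by
        rw [← QuotientGroup.eq_one_iff, QuotientGroup.mk_mul, htt g hg, QuotientGroup.mk_inv, hx,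
          QuotientGroup.out_eq', mul_inv_cancel]
      have h := hco (cl g hg) _ hmem
      rw [← hx, inv_mul_cancel_right] at h
      rw [← h, CT.isClassFunction_of_isIrr χ.2]
  refine le_trans (Submodule.finrank_mono hle) ((LinearMap.finrank_range_le R).trans (le_of_eq ?_))
  rw [Module.finrank_fintype_fun_eq_card, Nat.card_eq_fintype_card]

/-- Induction does not increase the rank. -/
theorem blockRank_le_of_indFun {T : Subgroup G} [Fintype T] {B : Set (IrrCharacter G)}
    {B' : Set (IrrCharacter T)}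
    (h : ∀ χ ∈ B, ∃ ψ ∈ B', (χ : G → ℂ) = indFun T (ψ : T → ℂ)) :
    blockRank p B ≤ blockRank p B' := by
  classical
  let L : (T → ℂ) →ₗ[ℂ] (G → ℂ) :=
    { toFun := indFun T
      map_add' := CT.indFun_add T
      map_smul' := fun a f => CT.indFun_smul T a f }
  have hreg : ∀ ψ : T → ℂ, indFun T (pRegularPart p ψ) = pRegularPart p (indFun T ψ) := by
    intro ψ
    funext g
    have hord : ∀ x : G, orderOf (x⁻¹ * g * x) = orderOf g := fun x => by
      rw [show x⁻¹ * g * x = MulAut.conj x⁻¹ g by simp, MulEquiv.orderOf_eq]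
    simp only [indFun, pRegularPart, IsPRegular]
    by_cases hg : p ∣ orderOf g
    · simp only [hg, not_true_eq_false, if_false]
      rw [Finset.sum_eq_zero fun x _ => ?_, mul_zero]
      by_cases hx : x⁻¹ * g * x ∈ T
      · rw [CT.extendByZero_mem T _ hx]
        simp [pRegularPart, IsPRegular, hord, hg]
      · rw [CT.extendByZero_not_mem T _ hx]
    · simp only [hg, not_false_eq_true, if_true]
      congr 1
      refine Finset.sum_congr rfl fun x _ => ?_
      by_cases hx : x⁻¹ * g * x ∈ T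
      · rw [CT.extendByZero_mem T _ hx, CT.extendByZero_mem T _ hx]
        simp [pRegularPart, IsPRegular, hord, hg]
      · rw [CT.extendByZero_not_mem T _ hx, CT.extendByZero_not_mem T _ hx]
  refine le_trans (Submodule.finrank_mono (t := (Submodule.span ℂ
    ((fun ψ : IrrCharacter T => pRegularPart p (ψ : T → ℂ)) '' B')).map L) ?_)
    (Submodule.finrank_map_le _ _)
  refine Submodule.span_le.mpr ?_
  rintro _ ⟨χ, hχ, rfl⟩
  obtain ⟨ψ, hψ, he⟩ := h χ hχ
  refine ⟨_, Submodule.subset_span ⟨ψ, hψ, rfl⟩, ?_⟩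
  show indFun T (pRegularPart p (ψ : T → ℂ)) = _
  rw [hreg, ← he]

end Cfsg.Agent.DihBlock
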