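import Cfsg.Agent.Lib.Blocks.StarVanish

/-!
# The valuations of the values at a subsection of full defect
-/

set_option autoImplicit false
set_option linter.style.haveILetI false
set_option linter.unusedSectionVars false

namespace Cfsg.Agent.DihBlock

open Cfsg.Agent.Blocks Cfsg.Agent.BPairs MonoidAlgebra
open scoped ComplexConjugate

universe u

variable {G : Type u} [Group G] [Finite G] {p : ℕ} {M : Ideal AlgInt} [M.IsPrime]

theorem red_omega_ne_zero (hM : IsPModular p M) [hp : Fact p.Prime] [Fintype G]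
    {B : Set (IrrCharacter G)} {u : G} (hu : ∃ k : ℕ, u ^ p ^ k = 1)
    {b : Set (IrrCharacter (cz u))} (hind : IsInducedBlock M (cz u) b B)
    (hd : blockDefect p b = blockDefect p B) {ψ : IrrCharacter G} (hψ : ψ ∈ B)
    (hψ0 : blockHeight p B (ψ : G → ℂ) = 0) {z : ZG (Loc M) G}
    (hω : ∀ θ : IrrCharacter G, ((omegaL M θ z : Loc M) : ℂ) * (θ : G → ℂ) 1 =
      ((cz u).index : ℂ) * phi p θ u (bel M (cz u) b)) :
    red M (omegaL M ψ z) ≠ 0 := by
  classical
  haveI := Fintype.ofFinite (cz u)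
  haveI := charP_res hM
  intro hψz
  have hb := hind.1
  obtain ⟨ξ, hξ, hξ0⟩ := exists_height_zero (p := p) hb
  obtain ⟨c, hc0, hc1, hc⟩ := exists_coeff_phi hM hu ψ hb
  have hval : phi p ψ u (bel M (cz u) b) = ∑ η, c η * (charDegree (η : cz u → ℂ) : ℂ) := by
    have h := hc 1
    rw [if_neg (by rw [orderOf_one]; exact hp.out.not_dvd_one), OneMemClass.coe_one, mul_one] at h
    rw [h]
    refine Finset.sum_congr rfl fun η _ => ?_
    rw [regFun, if_neg (by rw [orderOf_one]; exact hp.out.not_dvd_one), charDegree_cast]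
  have hcw : ∀ η, ∃ w : Loc M, red M w = 1 ∧
      (η ∈ b → c η = (CT.mult (fun h : cz u => (ψ : G → ℂ) h) (η : cz u → ℂ) : ℂ) * (w : ℂ)) := by
    intro η
    by_cases hη : η ∈ b
    · obtain ⟨w, k, hw, -, hcη⟩ := hc1 η hη
      exact ⟨⟨w, integral_mem_loc (IsIntegral.of_pow (pow_pos hp.out.pos k)
        (by rw [hw]; exact isIntegral_one))⟩, red_root_eq_one hM (Subtype.ext (by simpa using hw)),
        fun _ => hcη⟩
    · exact ⟨1, map_one _, fun h => absurd h hη⟩
  choose w hw hcη using hcw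
  obtain ⟨ι, hι⟩ : ∃ ι : ℕ, ι = (cz u).index / p ^ (cz u).index.factorization p := ⟨_, rfl⟩
  obtain ⟨ψ', hψ'⟩ : ∃ n : ℕ, n =
      charDegree (ψ : G → ℂ) / p ^ (charDegree (ψ : G → ℂ)).factorization p := ⟨_, rfl⟩
  obtain ⟨ν, hν⟩ : ∃ ν : IrrCharacter (cz u) → ℕ, ν = fun η : IrrCharacter (cz u) =>
      charDegree (η : cz u → ℂ) / p ^ (charDegree (η : cz u → ℂ)).factorization p *
        p ^ blockHeight p b (η : cz u → ℂ) := ⟨_, rfl⟩
  have hLoc : (ψ' : Loc M) * omegaL M ψ z = (ι : Loc M) * ∑ η, (if η ∈ b then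
      (CT.mult (fun h : cz u => (ψ : G → ℂ) h) (η : cz u → ℂ) : Loc M) * (w η * (ν η : Loc M))
      else 0) := by
    apply Subtype.ext
    have hpne : (p : ℂ) ^ (Nat.card G).factorization p ≠ 0 :=
      pow_ne_zero _ (Nat.cast_ne_zero.mpr hp.out.ne_zero)
    apply mul_left_cancel₀ hpne
    have e1 : ((charDegree (ψ : G → ℂ) : ℂ)) * (p : ℂ) ^ blockDefect p B =
        (ψ' : ℂ) * (p : ℂ) ^ (Nat.card G).factorization p := by
      have := charDegree_mul_pow_defect p hψ
      rw [hψ0, add_zero, ← hψ'] at this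
      exact_mod_cast this
    have e2 : ((cz u).index : ℂ) * (p : ℂ) ^ (Nat.card (cz u)).factorization p =
        (ι : ℂ) * (p : ℂ) ^ (Nat.card G).factorization p := by
      have := index_mul_pow_card p (cz u)
      rw [← hι] at this
      exact_mod_cast this
    simp only [MulMemClass.coe_mul, SubringClass.coe_natCast, AddSubmonoidClass.coe_finsetSum]
    rw [← mul_assoc, ← mul_assoc, mul_comm _ (ψ' : ℂ), mul_comm _ (ι : ℂ), ← e1, ← e2]
    calc (charDegree (ψ : G → ℂ) : ℂ) * (p : ℂ) ^ blockDefect p B * (omegaL M ψ z : ℂ)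
        = ((cz u).index : ℂ) * ∑ η, c η * (charDegree (η : cz u → ℂ) : ℂ) *
            (p : ℂ) ^ blockDefect p b := by
          rw [← Finset.sum_mul, ← hval, ← charDegree_cast, hd, ← mul_assoc, ← hω ψ]; ring
      _ = _ := by
          rw [mul_assoc, Finset.mul_sum, Finset.mul_sum, Finset.mul_sum]
          refine Finset.sum_congr rfl fun η _ => ?_
          by_cases hη : η ∈ b
          · have e3 : (charDegree (η : cz u → ℂ) : ℂ) * (p : ℂ) ^ blockDefect p b =
                (ν η : ℂ) * (p : ℂ) ^ (Nat.card (cz u)).factorization p := by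
              have := charDegree_mul_pow_defect p hη
              rw [pow_add, mul_comm (p ^ (Nat.card (cz u)).factorization p), ← mul_assoc] at this
              simp only [hν]
              exact_mod_cast this
            rw [if_pos hη, mul_assoc (c η), e3, hcη η hη]
            simp only [MulMemClass.coe_mul, SubringClass.coe_natCast]
            ring
          · rw [if_neg hη, hc0 η hη]; simp
  have hι0 : (ι : Res M) ≠ 0 := hι ▸ cast_ordCompl_ne_zero hM Subgroup.index_ne_zero_of_finite
  have hsum : ∑ η : IrrCharacter (cz u), (CT.mult (fun h : cz u => (ψ : G → ℂ) h) (η : cz u → ℂ) : Res M) *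
      (if η ∈ b then (ν η : Res M) else 0) = 0 := by
    apply mul_left_cancel₀ hι0
    have := congrArg (red M) hLoc
    rw [map_mul, hψz, mul_zero, map_mul, map_natCast, map_sum] at this
    rw [mul_zero]
    refine Eq.trans ?_ this.symm
    congr 1
    refine Finset.sum_congr rfl fun η _ => ?_
    split_ifs <;> simp [hw]
  refine red_sum_mult_ne_zero hM hind hψ hψ0 hξ ?_
  apply mul_left_cancel₀ (cast_ordCompl_ne_zero hM (charDegree_pos ξ).ne')
  rw [mul_zero, Finset.mul_sum, ← mul_zero (red M (regS M p ξ ξ)), ← hsum, Finset.mul_sum]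
  refine Finset.sum_congr rfl fun η _ => ?_
  by_cases hη : η ∈ b
  · have e : (ν η : Loc M) * regS M p η ξ = ((charDegree (ξ : cz u → ℂ) /
        p ^ (charDegree (ξ : cz u → ℂ)).factorization p : ℕ) : Loc M) * regS M p ξ η := by
      apply Subtype.ext
      simp only [MulMemClass.coe_mul, SubringClass.coe_natCast]
      have h1 := bfPair_local hM hη ξ
      have h2 := bfPair_local hM hξ η
      rw [hξ0, pow_zero, one_mul, bfPair_symm] at h2
      rw [← h2, h1, hν]
      push_cast
      ring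
    have := congrArg (red M) e
    rw [map_mul, map_mul, map_natCast, map_natCast,
      red_regS_congr (χ := η) (χ' := ξ) ((mem_block_iff hb hη).mp hξ) ξ] at this
    rw [if_pos hη]
    linear_combination -(CT.mult (fun h : cz u => (ψ : G → ℂ) h) (η : cz u → ℂ) : Res M) * this
  · rw [if_neg hη, regS_eq_zero hM fun h => hη ((mem_block_iff hb hξ).mpr h), map_zero]
    ring

/-- Integers proportional to the values at a subsection of full defect have valuations differing
from those of the degrees by a constant. -/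
theorem factorization_add (hM : IsPModular p M) [hp : Fact p.Prime]
    {B : Set (IrrCharacter G)} {u : G} (hu : ∃ k : ℕ, u ^ p ^ k = 1)
    {b : Set (IrrCharacter (cz u))} (hind : IsInducedBlock M (cz u) b B)
    (hd : blockDefect p b = blockDefect p B) {V : IrrCharacter G → ℤ} {t : ℂ} (ht : t ≠ 0)
    (hV : ∀ θ ∈ B, phi p θ u (bel M (cz u) b) = (V θ : ℂ) * t) {χ ψ : IrrCharacter G} (hχ : χ ∈ B)
    (hψ : ψ ∈ B) :
    (V χ).natAbs.factorization p + (charDegree (ψ : G → ℂ)).factorization p =
      (V ψ).natAbs.factorization p + (charDegree (χ : G → ℂ)).factorization p := by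
  classical
  haveI := Fintype.ofFinite G
  have hA := blockCoeff_mem_loc (M := M) hind.1
  obtain ⟨ε, hε⟩ : ∃ ε : MonoidAlgebra (Loc M) G,
      ε = embH (cz u) (bIdem M b : MonoidAlgebra (Loc M) (cz u)) := ⟨_, rfl⟩
  have hεε : ε * ε = ε := by rw [hε, ← map_mul, ← Subring.coe_mul, bIdem_mul_self hA]
  have hεI : ∀ q ∈ cz u, Commute ε (single q 1) :=
    hε ▸ isInv_iff_commute.mp (isInv_embH le_rfl (bIdem M b).2)
  have haI : IsInv (cz u) (ε * single u 1) := isInv_iff_commute.mpr fun q hq =>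
    (hεI q hq).mul_left (by
      rw [Commute, SemiconjBy, single_mul_single, single_mul_single, (mem_cz.mp hq).eq])
  have hred : redG M G ε = bel M (cz u) b := by rw [hε, bel, redG, map_embH]; rfl
  obtain ⟨z, hz⟩ := exists_central_trace haI
  have hω : ∀ θ : IrrCharacter G, ((omegaL M θ z : Loc M) : ℂ) * (θ : G → ℂ) 1 =
      ((cz u).index : ℂ) * phi p θ u (bel M (cz u) b) := fun θ => by
    rw [coe_omegaL, omega, div_mul_cancel₀ _ (CT.irr_one_ne_zero θ.2), hz,
      phi_eq_of_red hM θ hεε (hεI u (mem_cz_self u)) hred]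
  obtain ⟨φ, hφ, hφ0⟩ := exists_height_zero (p := p) hind.2.1
  have h0 := red_omega_ne_zero hM hu hind hd hφ hφ0 hω
  have hne : ∀ θ ∈ B, red M (omegaL M θ z) ≠ 0 := fun θ hθ => by
    rwa [red_omegaL_eq_of_sameBlock ((mem_block_iff hind.2.1 hθ).mp hφ) z]
  have hV0 : ∀ θ ∈ B, V θ ≠ 0 := fun θ hθ h => by
    refine phi_ne_zero_of_full_defect hM hu hind hd hθ ?_
    rw [hV θ hθ, h, Int.cast_zero, zero_mul]
  have hle : ∀ {α β : IrrCharacter G}, α ∈ B → β ∈ B →
      ((V β).natAbs * charDegree (α : G → ℂ)).factorization p ≤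
        ((V α).natAbs * charDegree (β : G → ℂ)).factorization p := by
    intro α β hα hβ
    have e : (V α : ℂ) * (charDegree (β : G → ℂ) : ℂ) * ((omegaL M β z : Loc M) : ℂ) =
        (V β : ℂ) * (charDegree (α : G → ℂ) : ℂ) * ((omegaL M α z : Loc M) : ℂ) := by
      have h1 := hω α
      have h2 := hω β
      rw [hV _ hα, charDegree_cast] at h1
      rw [hV _ hβ, charDegree_cast] at h2
      linear_combination (V α : ℂ) * h2 - (V β : ℂ) * h1
    obtain ⟨sa, hsa, ea⟩ : ∃ s : ℤ, (s = 1 ∨ s = -1) ∧ V α = ((V α).natAbs : ℤ) * s := by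
      rcases Int.natAbs_eq (V α) with h | h
      · exact ⟨1, Or.inl rfl, by omega⟩
      · exact ⟨-1, Or.inr rfl, by omega⟩
    obtain ⟨sb, hsb, eb⟩ : ∃ s : ℤ, (s = 1 ∨ s = -1) ∧ V β = ((V β).natAbs : ℤ) * s := by
      rcases Int.natAbs_eq (V β) with h | h
      · exact ⟨1, Or.inl rfl, by omega⟩
      · exact ⟨-1, Or.inr rfl, by omega⟩
    refine (factorization_le_of_unit hM (mul_ne_zero (Int.natAbs_ne_zero.mpr (hV0 β hβ))
      (charDegree_pos α).ne') (mul_ne_zero (Int.natAbs_ne_zero.mpr (hV0 α hα))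
      (charDegree_pos β).ne') (u := (sa : Loc M) * omegaL M β z) (w := (sb : Loc M) * omegaL M α z)
      ?_ ?_).1
    · rw [map_mul, map_intCast]
      refine mul_ne_zero ?_ (hne β hβ)
      rcases hsa with rfl | rfl <;> simp
    · generalize (V α).natAbs = na at ea ⊢
      generalize (V β).natAbs = nb at eb ⊢
      rw [ea, eb] at e
      push_cast at e ⊢
      linear_combination e
  have h1 := hle hχ hψ
  have h2 := hle hψ hχ
  rw [Nat.factorization_mul (Int.natAbs_ne_zero.mpr (hV0 _ hψ)) (charDegree_pos χ).ne',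
    Nat.factorization_mul (Int.natAbs_ne_zero.mpr (hV0 _ hχ)) (charDegree_pos ψ).ne',
    Finsupp.add_apply, Finsupp.add_apply] at h1 h2
  omega

end Cfsg.Agent.DihBlock
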