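import Cfsg.Agent.Lib.DihBlock.Central
import Cfsg.Agent.Lib.DihBlock.Unit
import Cfsg.Agent.Lib.DihBlock.Combi

/-!
# The values of a block with dihedral defect group at the rotations
-/

set_option autoImplicit false
set_option linter.style.haveILetI false
set_option linter.unusedSectionVars false

namespace Cfsg.Agent.DihBlock

open Cfsg.Agent.Blocks Cfsg.Agent.BPairs MonoidAlgebra
open scoped ComplexConjugate

universe u

variable {G : Type u} [Group G] [Fintype G] {M : Ideal AlgInt} [M.IsPrime]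
  {B : Set (IrrCharacter G)}

/-- The parametrization of the local block. -/
structure Rot (L : LocalData M B) [Fintype L.P'] where
  χ₀ : IrrCharacter (cz L.S.z)
  hχ₀ : χ₀ ∈ L.f
  h0 : blockHeight 2 L.f (χ₀ : cz L.S.z → ℂ) = 0
  F : IrrCharacter L.P' → IrrCharacter (cz L.S.z)
  hinj : Function.Injective F
  hsurj : ∀ η, η ∈ L.f ↔ ∃ ζ, F ζ = η
  hphi : ∀ (ζ : IrrCharacter L.P') (u : L.P') (g : cz L.S.z)
    (a : MonoidAlgebra (Res M) (cz L.S.z)), pPart 2 g = u →
    BelAt 2 M L.P' L.c' (u : cz L.S.z) a → phi 2 (F ζ) g a = (ζ : L.P' → ℂ) u * phi 2 χ₀ g a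
  hq : ∀ (u : L.P') (a : MonoidAlgebra (Res M) (cz L.S.z)),
    BelAt 2 M L.P' L.c' (u : cz L.S.z) a → qVal 2 L.P' χ₀ (u : cz L.S.z) a = 1

theorem exists_rot_data (hM : IsPModular 2 M) (L : LocalData M B) [Fintype L.P'] :
    Nonempty (Rot L) := by
  haveI : Fact (Nat.Prime 2) := ⟨Nat.prime_two⟩
  haveI := Fintype.ofFinite (cz L.S.z)
  obtain ⟨χ₀, h1, h2, F, h3, h4, h5, h6⟩ := exists_param hM L.hnil L.hmax'
  exact ⟨⟨χ₀, h1, h2, F, h3, h4, h5, h6⟩⟩

namespace Rot

variable {L : LocalData M B} [Fintype (cz L.S.z)] [Fintype L.P'] (T : Rot L)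

/-- The character of the defect group attached to a character of the group. -/
noncomputable def theta (χ : IrrCharacter G) (v : L.P') : ℂ :=
  ∑ ζ : IrrCharacter L.P',
    (CT.mult (fun h : cz L.S.z => (χ : G → ℂ) h) (T.F ζ : cz L.S.z → ℂ) : ℂ) * (ζ : L.P' → ℂ) v

/-- The value at a rotation. -/
noncomputable def nu (χ : IrrCharacter G) (l : ℕ) : ℂ := T.theta χ (L.rot l)

theorem isCharacter_theta (χ : IrrCharacter G) : IsCharacter L.P' (T.theta χ) := by
  have e : T.theta χ = ∑ ζ : IrrCharacter L.P',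
      (CT.mult (fun h : cz L.S.z => (χ : G → ℂ) h) (T.F ζ : cz L.S.z → ℂ) : ℂ) •
        (ζ : L.P' → ℂ) := by
    funext v
    simp [theta]
  rw [e]
  exact CT.isCharacter_sum _ fun ζ _ => CT.isCharacter_nsmul _ (CT.isCharacter_of_isIrr ζ.2)

theorem rot_pow (l : ℕ) : L.rot l = L.rot 1 ^ l :=
  Subtype.ext (by simp [LocalData.rot])

theorem orderOf_rot : orderOf (L.rot 1) = L.S.m := by
  rw [← Subgroup.orderOf_coe, ← Subgroup.orderOf_coe, L.coe_rot, pow_one, L.S.orderOf_σ]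

theorem rot_inv {l : ℕ} (hl : l ≤ L.S.m) : L.rot (L.S.m - l) = (L.rot l)⁻¹ :=
  Subtype.ext (Subtype.ext (by
    rw [Subgroup.coe_inv, Subgroup.coe_inv, L.coe_rot, L.coe_rot, L.S.pow_inv hl]))

theorem theta_inv (χ : IrrCharacter G) (l : ℕ) :
    T.theta χ (L.rot l)⁻¹ = T.theta χ (L.rot l) := by
  obtain ⟨τ, hτ, hn⟩ := L.S.exists_refl
  have h := CT.isClassFunction_of_isCharacter (T.isCharacter_theta χ) (L.rot l)
    ⟨⟨τ, L.P_le hτ⟩, L.mem_P'.mpr hτ⟩
  rw [← h]
  congr 1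
  refine Subtype.ext (Subtype.ext ?_)
  simp only [Subgroup.coe_mul, Subgroup.coe_inv, L.coe_rot]
  rw [← conj_pow, (L.S.hrefl τ hτ hn).2, inv_pow]

theorem value_real (χ : IrrCharacter G) (l : ℕ) : conj (T.nu χ l) = T.nu χ l := by
  rw [nu, ← CT.char_inv_eq_conj (T.isCharacter_theta χ), theta_inv]

theorem value_symm (χ : IrrCharacter G) {l : ℕ} (hl : l ≤ L.S.m) :
    T.nu χ (L.S.m - l) = T.nu χ l := by
  rw [nu, nu, rot_inv hl, theta_inv]

theorem col (hM : IsPModular 2 M) {l : ℕ} (hl : 0 < l) (hlm : l < L.S.m) :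
    ∃ aC : MonoidAlgebra (Res M) (cz L.S.z),
      BelAt 2 M L.P' L.c' ((L.rot l : L.P') : cz L.S.z) aC ∧
      BelAt 2 M L.P L.e (L.S.σ ^ l) (embH (cz L.S.z) aC) ∧
      Col 2 M (L.S.σ ^ l) (embH (cz L.S.z) aC) (fun χ => T.nu χ l) (L.qq l : ℂ) ∧
      ∀ (χ : IrrCharacter G) (g : cz L.S.z), pPart 2 g = L.rot l →
        phi 2 χ (g : G) (embH (cz L.S.z) aC) = T.nu χ l * phi 2 T.χ₀ g aC :=
  L.exists_col hM T.hinj T.hsurj T.hphi T.hq (Θ := T.theta) (fun _ => rfl)
    (fun χ l => T.value_real χ l) hl hlm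

theorem exists_nu_ne_zero (hM : IsPModular 2 M) {l : ℕ} (hl : 0 < l) (hlm : l < L.S.m) :
    ∃ χ ∈ B, T.nu χ l ≠ 0 := by
  classical
  haveI : Fact (Nat.Prime 2) := ⟨Nat.prime_two⟩
  obtain ⟨aC, -, hG, hcol, -⟩ := T.col hM hl hlm
  obtain ⟨f', hle, he⟩ := id hG
  have hf' : IsPBlock M f' := (isBrauerPair_of_subpair hle L.hmax.1.1 :
    IsBrauerPair 2 M (Subgroup.zpowers (L.S.σ ^ l)) f').2
  have hx := exists_pow_eq_one_of_isPGroup L.hmax.1.1.1 (pow_mem L.S.hσ l)
  refine col_ne_zero (q := (L.qq l : ℂ)) (ν := fun χ => T.nu χ l) hM hx hf' (isInducedBlock_of_brauerPair hM (isBrauerPairOf_of_inB hM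
    L.hmax.1.2.1 hx hf' (he ▸ inB_of_belAt hM L.hmax hG))) ?_
  rw [← he]
  exact hcol

/-- The products of the columns. -/
theorem inner (hM : IsPModular 2 M) {l l' : ℕ} (hl : 0 < l) (hlm : l < L.S.m) (hl' : 0 < l')
    (hlm' : l' < L.S.m) :
    ∑ χ, T.nu χ l * T.nu χ l' =
      (L.S.m : ℂ) * ((if l' = l then 1 else 0) + if l' = L.S.m - l then 1 else 0) := by
  classical
  haveI : Fact (Nat.Prime 2) := ⟨Nat.prime_two⟩
  have hh := L.S.two_h
  obtain ⟨aC, ha, -, hcol, -⟩ := T.col hM hl hlm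
  obtain ⟨χ, -, hχ⟩ := T.exists_nu_ne_zero hM hl hlm
  by_cases hll : l' = l ∨ l' = L.S.m - l
  · have e : ∀ χ : IrrCharacter G, T.nu χ l' = T.nu χ l := by
      rcases hll with rfl | rfl
      · exact fun χ => rfl
      · exact fun χ => T.value_symm χ hlm.le
    rw [Finset.sum_congr rfl fun χ _ => congrArg (T.nu χ l * ·) (e χ),
      col_sq (ν := fun χ => T.nu χ l) hM hcol (by simp) hχ]
    by_cases hlh : l = L.S.h
    · rw [LocalData.qq, if_pos hlh, if_pos (by omega), if_pos (by omega), L.S.two_m]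
      push_cast
      ring
    · rw [LocalData.qq, if_neg hlh]
      rcases hll with rfl | rfl
      · rw [if_pos rfl, if_neg (by omega)]; ring
      · rw [if_pos rfl, if_neg (by omega)]; ring
  · push Not at hll
    rw [if_neg hll.1, if_neg hll.2, add_zero, mul_zero]
    obtain ⟨aC', ha', -, hcol', -⟩ := T.col hM hl' hlm'
    obtain ⟨χ', -, hχ'⟩ := T.exists_nu_ne_zero hM hl' hlm'
    refine col_orth (ν := fun χ => T.nu χ l) (μ := fun χ => T.nu χ l') hM hcol hcol' hχ hχ' (L.disjoint hM hl hlm hl' hlm' ⟨fun h => ?_, fun h => ?_⟩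
      ha ha')
    · exact hll.1 (L.S.pow_inj hlm' hlm h)
    · rw [← L.S.pow_inv hlm.le] at h
      exact hll.2 (L.S.pow_inj hlm' (by omega) h)

theorem reg (hM : IsPModular 2 M) {l : ℕ} (hl : 0 < l) (hlm : l < L.S.m) {y : G}
    (hy : ¬ 2 ∣ orderOf y) : ∑ χ : IrrCharacter G, T.nu χ l * (χ : G → ℂ) y = 0 := by
  haveI : Fact (Nat.Prime 2) := ⟨Nat.prime_two⟩
  obtain ⟨aC, -, -, hcol, -⟩ := T.col hM hl hlm
  obtain ⟨χ, -, hχ⟩ := T.exists_nu_ne_zero hM hl hlm
  exact col_reg hM hcol (L.S.pow_ne_one hl hlm) hχ hy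

theorem outside (hM : IsPModular 2 M) {l : ℕ} (hl : 0 < l) (hlm : l < L.S.m) {χ : IrrCharacter G}
    (hχ : χ ∉ B) : T.nu χ l = 0 := by
  haveI : Fact (Nat.Prime 2) := ⟨Nat.prime_two⟩
  obtain ⟨aC, -, hG, hcol, -⟩ := T.col hM hl hlm
  exact col_outside hM L.hmax.1.2.1 hcol (inB_of_belAt hM L.hmax hG) hχ

variable {ζ : ℂ}

theorem exists_coef (hζ : IsPrimitiveRoot ζ L.S.m) (χ : IrrCharacter G) (j : ℕ) :
    ∃ z : ℤ, (z : ℂ) * L.S.m =
      ∑ l ∈ Finset.range L.S.m, T.nu χ l * (ζ ^ (j * l) - 1) := by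
  classical
  obtain ⟨n, ρ, hρ⟩ := T.isCharacter_theta χ
  obtain ⟨ω, hω, he⟩ := CT.exists_eigenvalues ρ (L.rot 1)
  have hnu : ∀ l, T.nu χ l = ∑ i, ω i ^ l := fun l => by
    rw [nu, rot_pow, ← hρ, he]
  have hsum : ∀ μ : ℂ, μ ^ L.S.m = 1 → ∑ l ∈ Finset.range L.S.m, T.nu χ l * μ ^ l =
      ((Finset.univ.filter fun i => ω i * μ = 1).card : ℂ) * L.S.m := by
    intro μ hμ
    simp only [hnu, Finset.sum_mul, ← mul_pow]
    rw [Finset.sum_comm, Finset.sum_congr rfl (g := fun i => if ω i * μ = 1 then (L.S.m : ℂ) else 0)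
      fun i _ => ?_, ← Finset.sum_filter, Finset.sum_const, nsmul_eq_mul]
    split_ifs with h
    · simp [h]
    · rw [geom_sum_eq h, mul_pow, hμ, mul_one]
      have := hω i
      rw [orderOf_rot] at this
      rw [this, sub_self, zero_div]
  refine ⟨((Finset.univ.filter fun i => ω i * ζ ^ j = 1).card : ℤ) -
    (Finset.univ.filter fun i => ω i * 1 = 1).card, ?_⟩
  simp only [mul_sub, mul_one, Finset.sum_sub_distrib, pow_mul]
  rw [hsum _ (by rw [← pow_mul, mul_comm, pow_mul, hζ.pow_eq_one, one_pow])]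
  have h1 := hsum 1 (one_pow _)
  simp only [one_pow, mul_one] at h1
  rw [h1]
  push_cast
  ring

variable (hζ : IsPrimitiveRoot ζ L.S.m)

/-- The difference of two multiplicities. -/
noncomputable def u (χ : IrrCharacter G) (j : ℕ) : ℤ := (T.exists_coef hζ χ j).choose

theorem u_spec (χ : IrrCharacter G) (j : ℕ) : (T.u hζ χ j : ℂ) * L.S.m =
    ∑ l ∈ Finset.range L.S.m, T.nu χ l * (ζ ^ (j * l) - 1) :=
  (T.exists_coef hζ χ j).choose_spec

theorem m_ne_zero (L : LocalData M B) : (L.S.m : ℂ) ≠ 0 := Nat.cast_ne_zero.mpr L.S.m_pos.ne'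

theorem u_zero (χ : IrrCharacter G) : T.u hζ χ 0 = 0 := by
  have h := T.u_spec hζ χ 0
  simp only [zero_mul, pow_zero, sub_self, mul_zero, Finset.sum_const_zero, mul_eq_zero] at h
  exact_mod_cast h.resolve_right (m_ne_zero L)

include hζ in
theorem pow_mul_sub (k : ℕ) {l : ℕ} (hl : l ≤ L.S.m) :
    ζ ^ (k * (L.S.m - l)) * ζ ^ (k * l) = 1 := by
  rw [← pow_add, ← mul_add, Nat.sub_add_cancel hl, mul_comm, pow_mul, hζ.pow_eq_one, one_pow]

include hζ in
theorem geom (t : ℕ) :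
    ∑ l ∈ Finset.range L.S.m, ζ ^ (t * l) = if L.S.m ∣ t then (L.S.m : ℂ) else 0 := by
  simp only [pow_mul]
  split_ifs with h
  · simp [hζ.pow_eq_one_iff_dvd _ |>.mpr h]
  · rw [geom_sum_eq (fun e => h ((hζ.pow_eq_one_iff_dvd _).mp e)),
      ← pow_mul, mul_comm, pow_mul, hζ.pow_eq_one, one_pow, sub_self, zero_div]

theorem u_symm (χ : IrrCharacter G) {j : ℕ} (hj : j ≤ L.S.m) :
    T.u hζ χ (L.S.m - j) = T.u hζ χ j := by
  have h1 := congrArg conj (T.u_spec hζ χ j)
  rw [map_mul, map_intCast, map_natCast, map_sum] at h1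
  have h2 := T.u_spec hζ χ (L.S.m - j)
  have : (T.u hζ χ (L.S.m - j) : ℂ) * L.S.m = (T.u hζ χ j : ℂ) * L.S.m := by
    rw [h1, h2]
    refine Finset.sum_congr rfl fun l _ => ?_
    rw [map_mul, T.value_real, map_sub, map_one]
    congr 2
    have e : ζ ^ ((L.S.m - j) * l) * ζ ^ (j * l) = 1 := by
      rw [← pow_add, ← add_mul, Nat.sub_add_cancel hj, pow_mul, hζ.pow_eq_one, one_pow]
    rw [eq_inv_of_mul_eq_one_left e, CT.conj_of_pow_eq_one L.S.m_pos.ne'
      (show (ζ ^ (j * l)) ^ L.S.m = 1 by rw [← pow_mul, mul_comm, pow_mul, hζ.pow_eq_one, one_pow])]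
    refine (eq_inv_of_mul_eq_one_left ?_).symm
    rw [← pow_succ, Nat.sub_add_cancel L.S.m_pos, ← pow_mul, mul_comm,
      pow_mul, hζ.pow_eq_one, one_pow]
  exact_mod_cast mul_right_cancel₀ (m_ne_zero L) this

/-- The values at the rotations are recovered from the differences. -/
theorem recover (χ : IrrCharacter G) {l : ℕ} (hl : 0 < l) (hlm : l < L.S.m) :
    T.nu χ l = (∑ j ∈ Finset.Ico 1 L.S.h,
      (T.u hζ χ j : ℂ) * (ζ ^ (j * l) + (ζ ^ (j * l))⁻¹)) +
      (T.u hζ χ L.S.h : ℂ) * (-1) ^ l := by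
  classical
  have hh := L.S.two_h
  have h2h := L.S.two_le_h
  have key : ∑ j ∈ Finset.range L.S.m, (T.u hζ χ j : ℂ) * ζ ^ (j * l) = T.nu χ l := by
    refine mul_right_cancel₀ (m_ne_zero L) ?_
    rw [Finset.sum_mul]
    have e : ∀ j, (T.u hζ χ j : ℂ) * ζ ^ (j * l) * L.S.m =
        ∑ k ∈ Finset.range L.S.m, T.nu χ k * (ζ ^ ((k + l) * j) - ζ ^ (l * j)) := by
      intro j
      rw [mul_right_comm, T.u_spec hζ χ j, Finset.sum_mul]
      refine Finset.sum_congr rfl fun k _ => ?_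
      rw [mul_assoc, sub_mul, one_mul, ← pow_add, ← mul_add, mul_comm j, mul_comm j l]
    rw [Finset.sum_congr rfl fun j _ => e j, Finset.sum_comm]
    simp only [← Finset.mul_sum, Finset.sum_sub_distrib, geom hζ]
    rw [if_neg (Nat.not_dvd_of_pos_of_lt hl hlm), Finset.sum_eq_single (L.S.m - l)]
    · rw [Nat.sub_add_cancel hlm.le, if_pos dvd_rfl, sub_zero, T.value_symm χ hlm.le]
    · intro k hk hne
      rw [Finset.mem_range] at hk
      rw [if_neg, sub_zero, mul_zero]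
      rintro ⟨c, hc⟩
      have : c = 1 := by
        rcases c with _ | _ | c
        · omega
        · rfl
        · have : L.S.m * 2 ≤ L.S.m * (c + 1 + 1) := Nat.mul_le_mul_left _ (by omega)
          omega
      subst this
      omega
    · intro h
      exact absurd (Finset.mem_range.mpr (by omega)) h
  rw [← key, Finset.range_eq_Ico,
    ← Finset.sum_Ico_consecutive _ (Nat.zero_le 1) (by omega : 1 ≤ L.S.m),
    ← Finset.sum_Ico_consecutive _ (by omega : 1 ≤ L.S.h) (by omega : L.S.h ≤ L.S.m),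
    ← Finset.sum_Ico_consecutive _ (by omega : L.S.h ≤ L.S.h + 1) (by omega : L.S.h + 1 ≤ L.S.m)]
  simp only [Nat.Ico_succ_singleton, Nat.Ico_zero_eq_range, Finset.range_one, Finset.sum_singleton,
    T.u_zero hζ, Int.cast_zero, zero_mul, zero_add]
  have hneg : ζ ^ (L.S.h * l) = (-1) ^ l := by
    rw [pow_mul]
    congr 1
    have h1 : ζ ^ L.S.h * ζ ^ L.S.h = 1 := by
      rw [← pow_add, ← two_mul, ← hh, hζ.pow_eq_one]
    rcases mul_self_eq_one_iff.mp h1 with h | h
    · exact absurd (Nat.le_of_dvd (by omega) ((hζ.pow_eq_one_iff_dvd _).mp h)) (by omega)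
    · exact h
  rw [hneg]
  simp only [mul_add, Finset.sum_add_distrib]
  rw [add_comm ((T.u hζ χ L.S.h : ℂ) * (-1) ^ l) (∑ _ ∈ _, _), ← add_assoc]
  congr 2
  refine Finset.sum_nbij' (fun j => L.S.m - j) (fun j => L.S.m - j) ?_ ?_ ?_ ?_ ?_
  · intro j hj; simp only [Finset.mem_coe, Finset.mem_Ico] at hj ⊢; omega
  · intro j hj; simp only [Finset.mem_coe, Finset.mem_Ico] at hj ⊢; omega
  · intro j hj; simp only [Finset.mem_coe, Finset.mem_Ico] at hj; omega
  · intro j hj; simp only [Finset.mem_coe, Finset.mem_Ico] at hj; omega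
  · intro j hj
    simp only [Finset.mem_Ico] at hj
    rw [← T.u_symm hζ χ (show j ≤ L.S.m by omega)]
    congr 1
    refine eq_inv_of_mul_eq_one_left ?_
    rw [← pow_add, ← add_mul, show j + (L.S.m - j) = L.S.m by omega, pow_mul, hζ.pow_eq_one,
      one_pow]

theorem gram (hM : IsPModular 2 M) {j k : ℕ} (hj : 1 ≤ j) (hjh : j ≤ L.S.h) (hk : 1 ≤ k)
    (hkh : k ≤ L.S.h) :
    ∑ χ, T.u hζ χ j * T.u hζ χ k = if j = k then (if j = L.S.h then 4 else 3) else 2 := by
  classical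
  have hh := L.S.two_h
  have h2h := L.S.two_le_h
  set a : ℕ → ℕ → ℂ := fun i l => ζ ^ (i * l) - 1 with ha
  have ha0 : ∀ i, a i 0 = 0 := fun i => by simp [ha]
  have key : (L.S.m : ℂ) * L.S.m * ((∑ χ, T.u hζ χ j * T.u hζ χ k : ℤ) : ℂ) =
      L.S.m * ∑ l ∈ Finset.range L.S.m, a j l * (a k l + a k (L.S.m - l)) := by
    simp only [Int.cast_sum, Int.cast_mul]
    rw [Finset.mul_sum]
    calc ∑ χ, (L.S.m : ℂ) * L.S.m * ((T.u hζ χ j : ℂ) * (T.u hζ χ k : ℂ))
        = ∑ χ, ∑ l ∈ Finset.range L.S.m, ∑ l' ∈ Finset.range L.S.m,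
            a j l * a k l' * (T.nu χ l * T.nu χ l') := by
          refine Finset.sum_congr rfl fun χ _ => ?_
          rw [show (L.S.m : ℂ) * L.S.m * ((T.u hζ χ j : ℂ) * (T.u hζ χ k : ℂ)) =
            ((T.u hζ χ j : ℂ) * L.S.m) * ((T.u hζ χ k : ℂ) * L.S.m) by ring,
            T.u_spec hζ χ j, T.u_spec hζ χ k, Finset.sum_mul_sum]
          exact Finset.sum_congr rfl fun l _ => Finset.sum_congr rfl fun l' _ => by
            simp only [ha]; ring
      _ = ∑ l ∈ Finset.range L.S.m, ∑ l' ∈ Finset.range L.S.m,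
            a j l * a k l' * ∑ χ, T.nu χ l * T.nu χ l' := by
          rw [Finset.sum_comm]
          refine Finset.sum_congr rfl fun l _ => ?_
          rw [Finset.sum_comm]
          simp only [Finset.mul_sum]
      _ = _ := by
          rw [Finset.mul_sum]
          refine Finset.sum_congr rfl fun l hl => ?_
          rw [Finset.mem_range] at hl
          rcases Nat.eq_zero_or_pos l with rfl | hl0
          · simp [ha0]
          calc ∑ l' ∈ Finset.range L.S.m, a j l * a k l' * ∑ χ, T.nu χ l * T.nu χ l'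
              = ∑ l' ∈ Finset.range L.S.m, a j l * a k l' * ((L.S.m : ℂ) *
                  ((if l' = l then 1 else 0) + if l' = L.S.m - l then 1 else 0)) := by
                refine Finset.sum_congr rfl fun l' hl' => ?_
                rw [Finset.mem_range] at hl'
                rcases Nat.eq_zero_or_pos l' with rfl | hl0'
                · simp [ha0]
                · rw [T.inner hM hl0 hl hl0' hl']
            _ = _ := by
                simp only [mul_add, Finset.sum_add_distrib, mul_ite, mul_one, mul_zero,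
                  Finset.sum_ite_eq', Finset.mem_range]
                rw [if_pos hl, if_pos (by omega)]
                ring
  have hsum : ∑ l ∈ Finset.range L.S.m, a j l * (a k l + a k (L.S.m - l)) =
      ∑ l ∈ Finset.range L.S.m, (ζ ^ ((j + k) * l) + ζ ^ ((j + (L.S.m - 1) * k) * l) -
        2 * ζ ^ (j * l) - ζ ^ (k * l) - ζ ^ ((L.S.m - 1) * k * l) + 2) := by
    refine Finset.sum_congr rfl fun l hl => ?_
    have e : ζ ^ (k * (L.S.m - l)) = ζ ^ ((L.S.m - 1) * k * l) := by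
      refine mul_right_cancel₀ (pow_ne_zero (k * l) (hζ.ne_zero L.S.m_pos.ne')) ?_
      rw [pow_mul_sub hζ k (Finset.mem_range.mp hl).le, ← pow_add, mul_assoc, ← add_one_mul,
        Nat.sub_add_cancel (by omega), pow_mul, hζ.pow_eq_one, one_pow]
    simp only [ha, add_mul, pow_add]
    rw [e]
    ring
  rw [hsum] at key
  simp only [Finset.sum_add_distrib, Finset.sum_sub_distrib, ← Finset.mul_sum, geom hζ,
    Finset.sum_const, Finset.card_range, nsmul_eq_mul] at key
  have n1 : ¬ L.S.m ∣ j := Nat.not_dvd_of_pos_of_lt (by omega) (by omega)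
  have n2 : ¬ L.S.m ∣ k := Nat.not_dvd_of_pos_of_lt (by omega) (by omega)
  have n3 : ¬ L.S.m ∣ (L.S.m - 1) * k := fun h => n2
    (((Nat.coprime_comm.mp (Nat.coprime_self_sub_right (show 1 ≤ L.S.m by omega) |>.mpr
      (Nat.coprime_one_right _))).symm).dvd_of_dvd_mul_left h)
  have d1 : L.S.m ∣ j + k ↔ j = L.S.h ∧ k = L.S.h := by
    constructor
    · intro h; have := Nat.le_of_dvd (by omega) h; omega
    · rintro ⟨rfl, rfl⟩; exact ⟨1, by omega⟩
  have d2 : L.S.m ∣ j + (L.S.m - 1) * k ↔ j = k := by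
    constructor
    · intro h
      rcases Nat.lt_trichotomy j k with h3 | h3 | h3
      · exfalso
        have h4 : L.S.m ∣ (j + (L.S.m - 1) * k) + (k - j) := by
          rw [show (j + (L.S.m - 1) * k) + (k - j) = (L.S.m - 1 + 1) * k by
            rw [add_one_mul]; omega, Nat.sub_add_cancel (by omega)]
          exact dvd_mul_right _ _
        have := Nat.le_of_dvd (by omega) ((Nat.dvd_add_right h).mp h4)
        omega
      · exact h3
      · exfalso
        have h4 : L.S.m ∣ j - k := by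
          have e : j + (L.S.m - 1) * k = (j - k) + (L.S.m - 1 + 1) * k := by
            rw [add_one_mul]; omega
          rw [e, Nat.sub_add_cancel (by omega)] at h
          exact (Nat.dvd_add_left (dvd_mul_right _ _)).mp h
        have := Nat.le_of_dvd (by omega) h4
        omega
    · rintro rfl
      rw [← one_add_mul, show 1 + (L.S.m - 1) = L.S.m by omega]
      exact dvd_mul_right _ _
  rw [if_neg n1, if_neg n2, if_neg n3] at key
  simp only [d1, d2] at key
  have hm0 := m_ne_zero L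
  refine (Int.cast_inj (α := ℂ)).mp (mul_left_cancel₀ (mul_ne_zero hm0 hm0) (key.trans ?_))
  split_ifs <;> first | omega | (push_cast; ring)

theorem deg (hM : IsPModular 2 M) (j : ℕ) :
    ∑ χ : IrrCharacter G, T.u hζ χ j * (charDegree (χ : G → ℂ) : ℤ) = 0 := by
  refine (Int.cast_inj (α := ℂ)).mp (mul_right_cancel₀ (m_ne_zero L) ?_)
  rw [Int.cast_zero, zero_mul, Int.cast_sum, Finset.sum_mul]
  simp only [Int.cast_mul, Int.cast_natCast, mul_right_comm _ _ (L.S.m : ℂ), T.u_spec hζ,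
    Finset.sum_mul]
  rw [Finset.sum_comm]
  refine Finset.sum_eq_zero fun l hl => ?_
  rcases Nat.eq_zero_or_pos l with rfl | hl0
  · simp
  · have h := T.reg hM hl0 (Finset.mem_range.mp hl) (y := 1) (by rw [orderOf_one]; norm_num)
    simp only [charDegree_cast] at h
    rw [Finset.sum_congr rfl (g := fun χ : IrrCharacter G => (ζ ^ (j * l) - 1) *
      (T.nu χ l * (charDegree (χ : G → ℂ) : ℂ))) fun χ _ => by ring, ← Finset.mul_sum, h, mul_zero]

/-- The integral value at the central involution. -/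
noncomputable def V (χ : IrrCharacter G) : ℤ :=
  (∑ j ∈ Finset.Ico 1 L.S.h, 2 * (-1) ^ j * T.u hζ χ j) + T.u hζ χ L.S.h

theorem nu_h (χ : IrrCharacter G) : T.nu χ L.S.h = (T.V hζ χ : ℂ) := by
  have hh := L.S.two_h
  have h2h := L.S.two_le_h
  rw [T.recover hζ χ L.S.h_pos (by omega), V, L.S.h_even.neg_one_pow, mul_one]
  push_cast
  congr 1
  refine Finset.sum_congr rfl fun j _ => ?_
  have hneg : ζ ^ (j * L.S.h) = (-1) ^ j := by
    rw [mul_comm, pow_mul]
    congr 1
    have h1 : ζ ^ L.S.h * ζ ^ L.S.h = 1 := by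
      rw [← pow_add, ← two_mul, ← hh, hζ.pow_eq_one]
    rcases mul_self_eq_one_iff.mp h1 with h | h
    · exact absurd (Nat.le_of_dvd (by omega) ((hζ.pow_eq_one_iff_dvd _).mp h)) (by omega)
    · exact h
  rw [hneg, ← inv_pow, inv_neg, inv_one]
  ring

end Rot

end Cfsg.Agent.DihBlock
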