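import Cfsg.Agent.Lib.Fusion.FrattiniAction
import Cfsg.Agent.Lib.Components.FFThompson
import Cfsg.Agent.Lib.Blocks.InvariantCover

/-!
# Solvable groups without odd core and with a tame Sylow subgroup for the prime two
-/

set_option autoImplicit false
set_option linter.style.haveILetI false
set_option linter.unusedSectionVars false

namespace Cfsg.Agent.DihBlock

universe u v

/-- A subgroup with a cyclic subgroup of index at most two containing all elements of its order. -/
def HasTame {G : Type u} [Group G] (P : Subgroup G) : Prop :=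
  ∃ σ ∈ P, (∀ a ∈ P, ∀ b ∈ P, a ∉ Subgroup.zpowers σ → b ∉ Subgroup.zpowers σ →
      a⁻¹ * b ∈ Subgroup.zpowers σ) ∧
    ∀ w ∈ P, orderOf w = orderOf σ → w ∈ Subgroup.zpowers σ

theorem HasTame.map {G : Type u} [Group G] {H : Type v} [Group H] (f : G →* H) {P : Subgroup G}
    (h : HasTame P) (hinj : Function.Injective (f.comp P.subtype)) : HasTame (P.map f) := by
  obtain ⟨σ, hσ, h2, h3⟩ := h
  have hord : ∀ w ∈ P, orderOf (f w) = orderOf w := fun w hw => by
    rw [← Subgroup.orderOf_mk w hw, ← orderOf_injective _ hinj ⟨w, hw⟩]; rfl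
  have hmem : ∀ w ∈ P, w ∈ Subgroup.zpowers σ → f w ∈ Subgroup.zpowers (f σ) := by
    rintro w - ⟨i, rfl⟩
    exact ⟨i, (map_zpow f σ i).symm⟩
  have hmem' : ∀ w ∈ P, f w ∈ Subgroup.zpowers (f σ) → w ∈ Subgroup.zpowers σ := by
    rintro w hw ⟨i, hi⟩
    have : (⟨w, hw⟩ : P) = ⟨σ, hσ⟩ ^ i := hinj (by
      simp only [MonoidHom.comp_apply, Subgroup.coe_subtype, map_zpow]
      exact hi.symm)
    exact ⟨i, (congrArg Subtype.val this).symm⟩
  refine ⟨f σ, ⟨σ, hσ, rfl⟩, ?_, ?_⟩
  · rintro _ ⟨a, ha, rfl⟩ _ ⟨b, hb, rfl⟩ hna hnb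
    rw [← map_inv, ← map_mul]
    exact hmem _ (P.mul_mem (P.inv_mem ha) hb)
      (h2 a ha b hb (fun h => hna (hmem a ha h)) fun h => hnb (hmem b hb h))
  · rintro _ ⟨w, hw, rfl⟩ ho
    rw [hord w hw, hord σ hσ] at ho
    exact hmem w hw (h3 w hw ho)

theorem orderOf_pow_even_ne {G : Type u} [Group G] [Finite G] {σ : G} {j k : ℕ}
    (hk : orderOf σ = 2 ^ k) (hσ : σ ≠ 1) : orderOf (σ ^ (2 * j)) ≠ orderOf σ := by
  intro h
  obtain ⟨l, rfl⟩ : ∃ l, k = l + 1 := ⟨k - 1, by
    rcases Nat.eq_zero_or_pos k with rfl | h0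
    · exact absurd (orderOf_eq_one_iff.mp (by simpa using hk)) hσ
    · omega⟩
  have : orderOf (σ ^ (2 * j)) ∣ 2 ^ l := orderOf_dvd_of_pow_eq_one (by
    rw [← pow_mul, show 2 * j * 2 ^ l = 2 ^ (l + 1) * j by ring, pow_mul, ← hk, pow_orderOf_eq_one,
      one_pow])
  rw [h, hk, Nat.pow_dvd_pow_iff_le_right (by norm_num)] at this
  omega

variable {H : Type u} [Group H] [Finite H]

/-- The number of classes of elements of odd order is at most two. -/
theorem regClasses_le_two (hs : Group.IsSolvable H) (hO : Cfsg.pPrimeCore 2 H = ⊥)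
    (Q : Sylow 2 H) (hQ : HasTame (Q : Subgroup H)) :
    Nat.card {c : ConjClasses H // ¬ 2 ∣ orderOf (Quotient.out c)} ≤ 2 := by
  classical
  haveI : Fact (Nat.Prime 2) := ⟨Nat.prime_two⟩
  haveI : Fact (Nat.Prime 3) := ⟨Nat.prime_three⟩
  obtain ⟨R, hRdef⟩ : ∃ R, R = Cfsg.pCore 2 H := ⟨_, rfl⟩
  haveI : R.Normal := hRdef ▸ Basics.pCore_normal 2
  have hRp : IsPGroup 2 R := hRdef ▸ Basics.pCore_isPGroup 2
  have hcore : Subgroup.centralizer (R : Set H) ≤ R := by
    rw [hRdef]
    exact Transfer.centralizer_pCore_le_of_pSolvable hO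
      (by haveI := hs; exact Components.isPSolvable_of_isSolvable _ _ le_rfl inferInstance)
  have hRQ : R ≤ (Q : Subgroup H) := hRdef ▸ Basics.pCore_le_sylow 2 Q
  obtain ⟨σ, hσQ, hindex, hmax⟩ := hQ
  obtain ⟨ρ, hρ⟩ : ∃ ρ : H →* MulAut (R ⧸ frattini R),
      ρ = (Fusion.fratRep R).comp MulAut.conjNormal := ⟨_, rfl⟩
  -- elements of odd order act faithfully
  have hfaith : ∀ x : H, ¬ 2 ∣ orderOf x → ρ x = 1 → x = 1 := by
    intro x hx h1
    have hker : (MulAut.conjNormal x : MulAut R) ∈ (Fusion.fratRep R).ker := by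
      rw [MonoidHom.mem_ker, ← h1, hρ]; rfl
    obtain ⟨k, hk⟩ := Fusion.isPGroup_ker_fratRep hRp ⟨_, hker⟩
    have hk' : (MulAut.conjNormal x : MulAut R) ^ 2 ^ k = 1 := congrArg Subtype.val hk
    have h2 : (MulAut.conjNormal x : MulAut R) = 1 := by
      refine orderOf_eq_one_iff.mp (Nat.eq_one_of_dvd_coprimes
        (((Nat.prime_two.coprime_iff_not_dvd.mpr hx).pow_left k))
        (orderOf_dvd_of_pow_eq_one hk') (orderOf_map_dvd _ x))
    have hxC : x ∈ Subgroup.centralizer (R : Set H) := by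
      rw [Subgroup.mem_centralizer_iff]
      intro r hr
      have h3 := congrArg Subtype.val (DFunLike.congr_fun h2 ⟨r, hr⟩)
      rw [MulAut.conjNormal_apply] at h3
      exact (mul_inv_eq_iff_eq_mul.mp h3).symm
    obtain ⟨j, hj⟩ := hRp ⟨x, hcore hxC⟩
    refine orderOf_eq_one_iff.mp (Nat.eq_one_of_dvd_coprimes
      ((Nat.prime_two.coprime_iff_not_dvd.mpr hx).pow_left j)
      (orderOf_dvd_of_pow_eq_one (congrArg Subtype.val hj : x ^ 2 ^ j = 1)) dvd_rfl)
  -- the quotient by the Frattini subgroup has at most four elements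
  have hsq : ∀ v : R ⧸ frattini R, v * v = 1 := by
    intro v
    obtain ⟨v, rfl⟩ := QuotientGroup.mk_surjective v
    rw [← QuotientGroup.mk_mul, QuotientGroup.eq_one_iff, ← sq]
    exact Basics.pow_mem_frattini hRp v
  have hpow : ∀ (v : R ⧸ frattini R) (i : ℤ), v ^ i = 1 ∨ v ^ i = v := by
    intro v i
    rcases Int.even_or_odd' i with ⟨k, rfl | rfl⟩
    · left; rw [zpow_mul, zpow_two, hsq, one_zpow]
    · right; rw [zpow_add, zpow_mul, zpow_two, hsq, one_zpow, one_mul, zpow_one]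
  haveI : IsCyclic (R ⊓ Subgroup.zpowers σ : Subgroup H) := Subgroup.isCyclic_of_le inf_le_right
  obtain ⟨⟨y, hy⟩, hgen⟩ := IsCyclic.exists_generator (α := (R ⊓ Subgroup.zpowers σ : Subgroup H))
  obtain ⟨r, hr, hrout⟩ : ∃ r, r ∈ R ∧ ((∃ w ∈ R, w ∉ Subgroup.zpowers σ) →
      r ∉ Subgroup.zpowers σ) := by
    by_cases hex : ∃ w ∈ R, w ∉ Subgroup.zpowers σ
    · exact ⟨hex.choose, hex.choose_spec.1, fun _ => hex.choose_spec.2⟩
    · exact ⟨1, R.one_mem, fun h => absurd h hex⟩
  have hcov : ∀ v : R ⧸ frattini R, v ∈ ({1, QuotientGroup.mk ⟨y, hy.1⟩, QuotientGroup.mk ⟨r, hr⟩,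
      QuotientGroup.mk (⟨r, hr⟩ * ⟨y, hy.1⟩)} : Finset (R ⧸ frattini R)) := by
    intro v
    obtain ⟨⟨w, hw⟩, rfl⟩ := QuotientGroup.mk_surjective v
    have hin : ∀ u : R, (u : H) ∈ Subgroup.zpowers σ →
        (u : R ⧸ frattini R) = 1 ∨ (u : R ⧸ frattini R) = QuotientGroup.mk ⟨y, hy.1⟩ := by
      intro u hu
      obtain ⟨i, hi⟩ := hgen ⟨u, u.2, hu⟩
      have e : u = (⟨y, hy.1⟩ : R) ^ i := Subtype.ext (by
        rw [SubgroupClass.coe_zpow]
        exact (congrArg Subtype.val hi).symm.trans (SubgroupClass.coe_zpow _ _))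
      rw [e, QuotientGroup.mk_zpow]
      exact hpow _ i
    simp only [Finset.mem_insert, Finset.mem_singleton]
    by_cases hwσ : w ∈ Subgroup.zpowers σ
    · rcases hin ⟨w, hw⟩ hwσ with h | h <;> simp [h]
    · have hrn := hrout ⟨w, hw, hwσ⟩
      have hd := hindex r (hRQ hr) w (hRQ hw) hrn hwσ
      have e : (⟨w, hw⟩ : R) = ⟨r, hr⟩ * ⟨r⁻¹ * w, R.mul_mem (R.inv_mem hr) hw⟩ :=
        Subtype.ext (by simp)
      rw [e, QuotientGroup.mk_mul]
      rcases hin ⟨r⁻¹ * w, R.mul_mem (R.inv_mem hr) hw⟩ hd with h | h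
      · rw [h, mul_one]; exact Or.inr (Or.inr (Or.inl rfl))
      · rw [h]; exact Or.inr (Or.inr (Or.inr rfl))
  have hcard4 : Nat.card (R ⧸ frattini R) ≤ 4 := by
    haveI : Fintype (R ⧸ frattini R) := Fintype.ofFinite _
    rw [Nat.card_eq_fintype_card, ← Finset.card_univ]
    exact (Finset.card_le_card fun v _ => hcov v).trans Finset.card_le_four
  -- the odd part of the order divides three
  have hodd : ∀ T : Subgroup H, ¬ 2 ∣ Nat.card T → Nat.card T ∣ 3 := by
    intro T hT
    haveI : Fintype (R ⧸ frattini R) := Fintype.ofFinite _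
    obtain ⟨φ, hφ⟩ : ∃ φ : MulAut (R ⧸ frattini R) →* Equiv.Perm {v : R ⧸ frattini R // v ≠ 1},
        ∀ a v, ((φ a v : {v : R ⧸ frattini R // v ≠ 1}) : R ⧸ frattini R) = a v :=
      ⟨{ toFun := fun a => Equiv.Perm.subtypePerm a.toEquiv (fun v => by simp)
         map_one' := Equiv.ext fun v => rfl
         map_mul' := fun a b => Equiv.ext fun v => rfl }, fun a v => rfl⟩
    have hinj : Function.Injective ((φ.comp ρ).comp T.subtype) := by
      rw [injective_iff_map_eq_one]
      intro t ht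
      refine Subtype.ext (hfaith t (fun h => hT (h.trans ?_)) (MulEquiv.ext fun v => ?_))
      · rw [Subgroup.orderOf_coe]; exact orderOf_dvd_natCard t
      · by_cases hv : v = 1
        · rw [hv, map_one]; rfl
        · have h1 := congrArg Subtype.val (DFunLike.congr_fun ht ⟨v, hv⟩)
          rw [MonoidHom.comp_apply, MonoidHom.comp_apply, hφ] at h1
          exact h1
    have hdvd := Subgroup.card_dvd_of_injective _ hinj
    rw [Nat.card_perm] at hdvd
    have hle : Nat.card {v : R ⧸ frattini R // v ≠ 1} ≤ 3 := by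
      have h2 : Nat.card {v : R ⧸ frattini R // v ≠ 1} < Nat.card (R ⧸ frattini R) := by
        simp only [Nat.card_eq_fintype_card]
        exact Fintype.card_subtype_lt (x := (1 : R ⧸ frattini R)) (by simp)
      omega
    have h6 : Nat.card T ∣ 2 * 3 := by
      refine hdvd.trans ((Nat.factorial_dvd_factorial hle).trans (dvd_of_eq ?_))
      decide
    exact (Nat.prime_two.coprime_iff_not_dvd.mpr hT).symm.dvd_of_dvd_mul_left h6
  have hthree : ∀ x : H, ¬ 2 ∣ orderOf x → x ≠ 1 → orderOf x = 3 := by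
    intro x hx h1
    rcases (Nat.dvd_prime Nat.prime_three).mp
      (Nat.card_zpowers x ▸ hodd _ (by rwa [Nat.card_zpowers])) with h | h
    · exact absurd (orderOf_eq_one_iff.mp h) h1
    · exact h
  by_cases hex : ∃ x : H, ¬ 2 ∣ orderOf x ∧ x ≠ 1
  swap
  · push Not at hex
    refine (Nat.card_le_card_of_injective (β := Unit) (fun _ => ()) fun a b _ => ?_).trans (by simp)
    refine Subtype.ext ?_
    rw [← Quotient.out_eq a.1, ← Quotient.out_eq b.1, hex _ a.2, hex _ b.2]
  obtain ⟨x, hx, hx1⟩ := hex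
  -- the elements of order three are conjugate
  obtain ⟨T, hT⟩ := (IsPGroup.of_card (n := 1) (by rw [Nat.card_zpowers, hthree x hx hx1, pow_one]) :
    IsPGroup 3 (Subgroup.zpowers x)).exists_le_sylow
  have hTeq : (T : Subgroup H) = Subgroup.zpowers x := by
    refine (Subgroup.eq_of_le_of_card_ge hT ?_).symm
    rw [Nat.card_zpowers, hthree x hx hx1]
    refine Nat.le_of_dvd (by norm_num) (hodd _ ?_)
    obtain ⟨k, hk⟩ := T.2.exists_card_eq
    rw [hk]
    exact fun h => by have := Nat.prime_two.dvd_of_dvd_pow h; omega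
  have hxinv : IsConj x x⁻¹ := by
    by_contra hnc
    have hN : Subgroup.normalizer ((T : Subgroup H) : Set H) ≤
        Subgroup.centralizer ((T : Subgroup H) : Set H) := by
      intro g hg
      rw [hTeq] at hg ⊢
      have hgx : g * x * g⁻¹ ∈ Subgroup.zpowers x :=
        (Subgroup.mem_normalizer_iff.mp hg x).mp (Subgroup.mem_zpowers x)
      have hfix : g * x * g⁻¹ = x := by
        obtain ⟨i, hi, he⟩ := Finset.mem_image.mp ((IsOfFinOrder.mem_zpowers_iff_mem_range_orderOf
          (isOfFinOrder_of_finite x)).mp hgx)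
        rw [hthree x hx hx1, Finset.mem_range] at hi
        interval_cases i
        · exact absurd (conj_eq_one_iff.mp (by rw [← he, pow_zero])) hx1
        · rw [← he, pow_one]
        · refine absurd (isConj_iff.mpr ⟨g, ?_⟩) hnc
          rw [← he, eq_inv_iff_mul_eq_one, ← pow_succ, show 2 + 1 = orderOf x from (hthree x hx hx1).symm,
            pow_orderOf_eq_one]
      exact Subgroup.mem_centralizer_iff.mpr fun v hv => by
        obtain ⟨i, rfl⟩ := hv
        exact ((show Commute g x from mul_inv_eq_iff_eq_mul.mp hfix).zpow_right i).eq.symm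
    obtain ⟨K, hK⟩ : ∃ K, K = (MonoidHom.transferSylow T hN).ker := ⟨_, rfl⟩
    haveI : K.Normal := hK ▸ MonoidHom.normal_ker _
    have hcompl : Subgroup.IsComplement' K (T : Subgroup H) :=
      hK ▸ MonoidHom.ker_transferSylow_isComplement' T hN
    have h3K : ¬ 3 ∣ Nat.card K := hK ▸ MonoidHom.not_dvd_card_ker_transferSylow T hN
    have hKp : IsPGroup 2 K := by
      rw [IsPGroup.iff_card]
      refine ⟨_, Nat.eq_prime_pow_of_unique_prime_dvd Nat.card_pos.ne' fun {q} hq hqd => ?_⟩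
      by_contra hne
      haveI : Fact q.Prime := ⟨hq⟩
      obtain ⟨w, hw⟩ := exists_prime_orderOf_dvd_card' q hqd
      have hw2 : ¬ 2 ∣ orderOf (w : H) := by
        rw [Subgroup.orderOf_coe, hw]
        exact fun h => hne ((Nat.prime_dvd_prime_iff_eq Nat.prime_two hq).mp h).symm
      rcases eq_or_ne (w : H) 1 with h | h
      · rw [← Subgroup.orderOf_coe, h, orderOf_one] at hw
        exact hq.one_lt.ne hw
      · have h3 := hthree _ hw2 h
        rw [Subgroup.orderOf_coe, hw] at h3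
        exact h3K (h3 ▸ hqd)
    have hKR : K ≤ R := hRdef ▸ le_sSup ⟨inferInstance, hKp⟩
    have hQR : (Q : Subgroup H) ≤ R := by
      refine le_of_eq (Subgroup.eq_of_le_of_card_ge hRQ ((le_of_eq ?_).trans
        (Subgroup.card_le_of_le hKR))).symm
      obtain ⟨k, hk⟩ := hKp.exists_card_eq
      have hcardH : Nat.card H = 2 ^ k * 3 := by
        rw [← hcompl.card_mul_card, hk, hTeq, Nat.card_zpowers, hthree x hx hx1]
      rw [Q.card_eq_multiplicity, hcardH, hk,
        Nat.factorization_mul (pow_ne_zero _ two_ne_zero) (by norm_num), Finsupp.add_apply,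
        Nat.prime_two.factorization_pow, Finsupp.single_eq_same,
        Nat.factorization_eq_zero_of_not_dvd (by norm_num : ¬ 2 ∣ 3), add_zero]
    have hσR : σ ∈ R := hQR hσQ
    obtain ⟨s, hs⟩ : ∃ s : R, s = ⟨σ, hσR⟩ := ⟨_, rfl⟩
    have hρapp : ∀ (g : H) (u : R), ρ g (u : R ⧸ frattini R) =
        (((MulAut.conjNormal g : MulAut R) u : R) : R ⧸ frattini R) := fun g u => by
      rw [hρ]; rfl
    have hσfix : ρ x (s : R ⧸ frattini R) = (s : R ⧸ frattini R) := by
      rw [hρapp]
      have hmem : x * σ * x⁻¹ ∈ Subgroup.zpowers σ := by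
        refine hmax _ (hRQ (Subgroup.Normal.conj_mem inferInstance _ hσR x)) ?_
        rw [show x * σ * x⁻¹ = MulAut.conj x σ from rfl, MulEquiv.orderOf_eq]
      obtain ⟨i, hi⟩ := mem_powers_iff_mem_zpowers.mpr hmem
      have e : (MulAut.conjNormal x : MulAut R) s = s ^ i := Subtype.ext (by
        rw [MulAut.conjNormal_apply, hs, SubgroupClass.coe_pow]; exact hi.symm)
      rw [e, QuotientGroup.mk_pow]
      rcases Nat.even_or_odd' i with ⟨j, rfl | rfl⟩
      · by_cases hσ1 : σ = 1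
        · have : s = 1 := Subtype.ext (by rw [hs]; exact hσ1)
          rw [this, QuotientGroup.mk_one, one_pow]
        · obtain ⟨k, hk⟩ := hRp ⟨σ, hσR⟩
          obtain ⟨k', -, hk'⟩ := (Nat.dvd_prime_pow Nat.prime_two).mp
            (orderOf_dvd_of_pow_eq_one (congrArg Subtype.val hk : σ ^ 2 ^ k = 1))
          refine absurd ?_ (orderOf_pow_even_ne (j := j) hk' hσ1)
          rw [show σ ^ (2 * j) = MulAut.conj x σ from hi, MulEquiv.orderOf_eq]
      · rw [pow_add, pow_mul, sq, hsq, one_pow, one_mul, pow_one]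
    have hout : ∀ u : R, (u : H) ∉ Subgroup.zpowers σ →
        ∃ e : ℤ, ρ x (u : R ⧸ frattini R) = (u : R ⧸ frattini R) * (s : R ⧸ frattini R) ^ e := by
      intro u hu
      rw [hρapp]
      have hnot : ((MulAut.conjNormal x : MulAut R) u : H) ∉ Subgroup.zpowers σ := by
        intro hc
        obtain ⟨i, hi⟩ := Subgroup.mem_zpowers_iff.mp hc
        apply hu
        have hmem : x⁻¹ * σ * x⁻¹⁻¹ ∈ Subgroup.zpowers σ := by
          refine hmax _ (hRQ (Subgroup.Normal.conj_mem inferInstance _ hσR x⁻¹)) ?_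
          rw [show x⁻¹ * σ * x⁻¹⁻¹ = MulAut.conj x⁻¹ σ from rfl, MulEquiv.orderOf_eq]
        rw [MulAut.conjNormal_apply] at hi
        have : (u : H) = (x⁻¹ * σ * x⁻¹⁻¹) ^ i := by rw [conj_zpow, hi]; group
        rw [this]
        exact zpow_mem hmem i
      obtain ⟨i, hi⟩ := Subgroup.mem_zpowers_iff.mp
        (hindex _ (hRQ u.2) _ (hRQ ((MulAut.conjNormal x : MulAut R) u).2) hu hnot)
      refine ⟨i, ?_⟩
      rw [← QuotientGroup.mk_zpow, ← QuotientGroup.mk_mul]
      congr 1
      refine Subtype.ext ?_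
      rw [Subgroup.coe_mul, SubgroupClass.coe_zpow, hs]
      show ((MulAut.conjNormal x : MulAut R) u : H) = (u : H) * σ ^ i
      rw [hi, mul_inv_cancel_left]
    have htriv : ρ (x * x) = 1 := by
      refine MulEquiv.ext fun v => ?_
      obtain ⟨u, rfl⟩ := QuotientGroup.mk_surjective v
      rw [map_mul, MulAut.mul_apply, MulAut.one_apply]
      by_cases hu : (u : H) ∈ Subgroup.zpowers σ
      · obtain ⟨i, hi⟩ := Subgroup.mem_zpowers_iff.mp hu
        have : u = s ^ i := Subtype.ext (by rw [SubgroupClass.coe_zpow, hs]; exact hi.symm)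
        rw [this, QuotientGroup.mk_zpow, map_zpow, hσfix, map_zpow, hσfix]
      · obtain ⟨e, he⟩ := hout u hu
        rw [he, map_mul, map_zpow, hσfix, he, mul_assoc, ← zpow_add, ← two_mul, zpow_mul, zpow_two,
          hsq, one_zpow, mul_one]
    have hxx : x * x = 1 := hfaith _ (fun h => hx (h.trans (by
      rw [← sq]; exact orderOf_pow_dvd 2))) htriv
    have h2 : orderOf x ∣ 2 := orderOf_dvd_of_pow_eq_one (by rw [sq, hxx])
    rw [hthree x hx hx1] at h2
    norm_num at h2
  -- count the classes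
  have hall : ∀ w : H, ¬ 2 ∣ orderOf w → w ≠ 1 → IsConj w x := by
    intro w hw hw1
    obtain ⟨T', hT'⟩ := (IsPGroup.of_card (n := 1) (by rw [Nat.card_zpowers, hthree w hw hw1, pow_one]) :
      IsPGroup 3 (Subgroup.zpowers w)).exists_le_sylow
    obtain ⟨g, hg⟩ := MulAction.exists_smul_eq H T' T
    have hmem : g * w * g⁻¹ ∈ Subgroup.zpowers x := by
      rw [← hTeq, ← hg, Sylow.coe_subgroup_smul]
      exact ⟨w, hT' (Subgroup.mem_zpowers w), by simp [MulAut.conj_apply]⟩
    obtain ⟨i, hi, he⟩ := Finset.mem_image.mp ((IsOfFinOrder.mem_zpowers_iff_mem_range_orderOf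
      (isOfFinOrder_of_finite x)).mp hmem)
    rw [hthree x hx hx1, Finset.mem_range] at hi
    refine (isConj_iff.mpr ⟨g, he.symm⟩).trans ?_
    interval_cases i
    · exact absurd (conj_eq_one_iff.mp (by rw [← he, pow_zero])) hw1
    · rw [pow_one]
    · rw [show x ^ 2 = x⁻¹ by
        rw [eq_inv_iff_mul_eq_one, ← pow_succ, show 2 + 1 = orderOf x from (hthree x hx hx1).symm,
          pow_orderOf_eq_one]]
      exact hxinv.symm
  refine (Nat.card_le_card_of_injective (β := Bool) (fun c => decide (Quotient.out c.1 = (1 : H)))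
    fun a b hab => ?_).trans (by simp)
  refine Subtype.ext ?_
  simp only [decide_eq_decide] at hab
  rw [← Quotient.out_eq a.1, ← Quotient.out_eq b.1]
  by_cases h1 : Quotient.out a.1 = (1 : H)
  · rw [h1, hab.mp h1]
  · exact Quotient.sound ((hall _ a.2 h1).trans (hall _ b.2 fun h => h1 (hab.mpr h)).symm)

end Cfsg.Agent.DihBlock
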