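import Cfsg.Agent.Lib.DihBlock.RegCosets
import Cfsg.Agent.Lib.DihBlock.SolvLocal
import Cfsg.Agent.Lib.DihBlock.Dih
import Cfsg.Agent.Lib.Blocks.FongReynolds
import Cfsg.Agent.Lib.Invol.QuasiDihedral

/-!
# Blocks of solvable groups with tame defect groups
-/

set_option autoImplicit false
set_option linter.style.haveILetI false
set_option linter.unusedSectionVars false

namespace Cfsg.Agent.DihBlock

open Cfsg.Agent.Blocks

universe u v

theorem HasTame.of_map {G : Type u} [Group G] {H : Type v} [Group H] (f : G →* H) {P : Subgroup G}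
    (hinj : Function.Injective f) (h : HasTame (P.map f)) : HasTame P := by
  obtain ⟨_, ⟨σ, hσ, rfl⟩, h2, h3⟩ := h
  have hiff : ∀ w : G, f w ∈ Subgroup.zpowers (f σ) ↔ w ∈ Subgroup.zpowers σ := by
    intro w
    rw [← MonoidHom.map_zpowers, Subgroup.mem_map_iff_mem hinj]
  refine ⟨σ, hσ, fun a ha b hb hna hnb => ?_, fun w hw ho => ?_⟩
  · rw [← hiff, map_mul, map_inv]
    exact h2 _ ⟨a, ha, rfl⟩ _ ⟨b, hb, rfl⟩ (by rwa [hiff]) (by rwa [hiff])
  · rw [← hiff]
    exact h3 _ ⟨w, hw, rfl⟩ (by rw [orderOf_injective f hinj, orderOf_injective f hinj, ho])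

theorem hasTame_of_dihedral {G : Type u} [Group G] [Finite G] {D : Subgroup G} {n : ℕ} (hn : 3 ≤ n)
    (e : D ≃* DihedralGroup (2 ^ (n - 1))) : HasTame D := by
  obtain ⟨S, -⟩ := exists_dihSub hn e
  refine ⟨S.σ, S.hσ, S.hindex, fun w hw ho => ?_⟩
  by_contra hnot
  have h1 : orderOf w ∣ 2 := orderOf_dvd_of_pow_eq_one (by rw [sq, (S.hrefl w hw hnot).1])
  rw [ho, S.hσo] at h1
  have h2 := Nat.le_of_dvd two_pos h1
  have h3 : 2 ^ 2 ≤ 2 ^ (S.n - 1) := Nat.pow_le_pow_right two_pos (by have := S.hn; omega)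
  omega

theorem hasTame_of_quasiDihedral {G : Type u} [Group G] [Finite G] {D : Subgroup G}
    (h : IsQuasiDihedral D) : HasTame D := by
  obtain ⟨T⟩ := Invol.qd_exists h
  have htop : HasTame (⊤ : Subgroup D) := by
    refine ⟨T.x, trivial, fun a _ b _ ha hb => ?_, fun w _ ho => ?_⟩
    · rw [Subgroup.mul_mem_iff_of_index_two T.zpowers_index, inv_mem_iff]
      exact ⟨fun h => absurd h ha, fun h => absurd h hb⟩
    · by_contra hnot
      obtain ⟨i, h | h⟩ := T.repr_cases w
      · exact hnot (h ▸ zpow_mem (Subgroup.mem_zpowers _) i)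
      · have hm : 2 ≤ T.m := by
          rw [T.m_eq]
          calc 2 = 2 ^ 1 := rfl
            _ ≤ _ := Nat.pow_le_pow_right two_pos (by have := T.three_le; omega)
        rw [h, T.ordx] at ho
        by_cases hi : 2 ∣ i
        · rw [T.orderOf_mul_y_even hi] at ho; omega
        · rw [T.orderOf_mul_y_odd hi] at ho; omega
  have := htop.map D.subtype (D.subtype_injective.comp Subtype.val_injective)
  rwa [← MonoidHom.range_eq_map, Subgroup.range_subtype] at this

variable {M : Ideal AlgInt} [M.IsPrime]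

/-- A block of a solvable group with a tame defect group has rank at most two. -/
theorem rank_le_two_of_solvable (hM : IsPModular 2 M) :
    ∀ (n : ℕ) (G : Type u) [Group G] [Finite G], Nat.card G = n → Group.IsSolvable G →
      ∀ (B : Set (IrrCharacter G)), IsPBlock M B → ∀ P : Subgroup G, IsDefectGroup 2 M B P →
        HasTame P → blockRank 2 B ≤ 2 := by
  intro n
  induction n using Nat.strong_induction_on with
  | _ n ih =>
    intro G _ _ hn hsolv B hB P hP hP'
    classical
    haveI : Fact (Nat.Prime 2) := ⟨Nat.prime_two⟩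
    haveI := hsolv
    haveI := Fintype.ofFinite G
    obtain ⟨χ, hχ⟩ := block_nonempty hB
    obtain ⟨N, hNdef⟩ : ∃ N, N = pPrimeCore 2 G := ⟨_, rfl⟩
    haveI : N.Normal := hNdef ▸ Basics.pPrimeCore_normal 2
    haveI := Fintype.ofFinite N
    have hp' : ¬ 2 ∣ Nat.card N := by
      rw [hNdef]
      exact Nat.prime_two.coprime_iff_not_dvd.mp (Basics.pPrimeCore_coprime 2).symm
    obtain ⟨θ, hθ⟩ := CT.exists_constituent_restrict N χ.2
    obtain ⟨T, hTdef⟩ : ∃ T, T = CT.inertia N (θ : N → ℂ) := ⟨_, rfl⟩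
    have hT : ∀ g : G, g ∈ T ↔ ∀ θ' ∈ ({θ} : Set (IrrCharacter N)),
        conjIrr g θ' ∈ ({θ} : Set (IrrCharacter N)) := by
      intro g
      simp only [Set.mem_singleton_iff, forall_eq, hTdef]
      exact ⟨fun h => Subtype.ext h, fun h => congrArg Subtype.val h⟩
    by_cases htop : T = ⊤
    · have hinv : ∀ g : G, conjIrr g θ = θ := fun g =>
        (hT g).mp (htop ▸ Subgroup.mem_top g) θ rfl
      have hps : IsPSolvable 2 G := Components.isPSolvable_of_isSolvable _ _ le_rfl hsolv
      obtain ⟨K, hK, hNK, hrel, hcent⟩ := exists_intermediate hps hNdef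
      haveI := hK
      obtain ⟨B₀, hB₀, hiff, hd⟩ := exists_block_over hM hp' θ hinv hNK hrel hcent
      obtain rfl : B₀ = B := block_eq_of_mem hB₀ hB ((hiff χ).mpr hθ) hχ
      have hcard := card_defectGroup hM hB hP
      rw [hd] at hcard
      refine (blockRank_le_regClasses θ hinv fun η hη => (hiff η).mp hη).trans ?_
      refine regClasses_le_two inferInstance (hNdef ▸ Basics.pPrimeCore_quotient_eq_bot 2)
        ((Sylow.ofCard P hcard).mapSurjective (QuotientGroup.mk'_surjective N)) ?_
      rw [Sylow.coe_mapSurjective]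
      refine hP'.map _ ?_
      rw [injective_iff_map_eq_one]
      intro s hs
      have hsN : (s : G) ∈ N := (QuotientGroup.eq_one_iff _).mp hs
      have h1 : orderOf s ∣ 2 ^ (Nat.card G).factorization 2 := by
        rw [← hcard]; exact orderOf_dvd_natCard s
      have h2 : orderOf s ∣ Nat.card N := by
        rw [← Subgroup.orderOf_coe, ← Subgroup.orderOf_mk (s : G) hsN]
        exact orderOf_dvd_natCard _
      exact orderOf_eq_one_iff.mp (Nat.eq_one_of_dvd_coprimes
        ((Nat.prime_two.coprime_iff_not_dvd.mpr hp').pow_left _) h1 h2)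
    · have hb := isPBlock_singleton hM hp' θ
      have hNT : N ≤ T := hTdef ▸ CT.le_inertia N (CT.isClassFunction_of_isIrr θ.2)
      haveI := Fintype.ofFinite T
      obtain ⟨B', hB', hcov, hind⟩ :=
        fong_reynolds_surjective hb hT hNT hB ⟨χ, hχ, θ, Set.mem_singleton θ, hθ⟩
      obtain ⟨hdef, -⟩ := fong_reynolds_defect hM hb hT hNT hB' hcov hind
      obtain ⟨C, hC, -, -, hmem⟩ := fong_reynolds hb hT hNT hB' hcov
      obtain rfl : C = B := inducedBlock_unique hC hind
      obtain ⟨D, hD⟩ := exists_defectGroup (p := 2) hB'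
      obtain ⟨x, hx⟩ := defect_conj hM hB (hdef D hD) hP
      have hlt : Nat.card T < n := by
        rw [← hn]
        exact lt_of_le_of_ne (Subgroup.card_le_card_group _) fun h =>
          htop (Subgroup.eq_top_of_card_eq _ h)
      refine (blockRank_le_of_indFun fun η hη => (hmem η).mp hη).trans
        (ih _ hlt T rfl inferInstance B' hB' D hD ?_)
      refine HasTame.of_map T.subtype T.subtype_injective
        (HasTame.of_map (MulAut.conj x).toMonoidHom (MulAut.conj x).injective ?_)
      rwa [hx]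

end Cfsg.Agent.DihBlock
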